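import Cfsg.Agent.N2.Cl.RX.Defs
import Cfsg.Agent.FP3.Aff.Final
import Cfsg.Agent.FP3.Red.PlugGen

/-!
# N2 (S3519), class S: the generic criterion for large degrees (helper6)
-/

set_option autoImplicit false

namespace Cfsg.Agent.N2C.RX

open Cfsg Subgroup Cfsg.Agent.N2C.Cyc

namespace Gn

/-- the slack of the crude criterion in the worst kind -/
def EO (n : ℕ) : ℕ := n * (n - 1) - 3 * (n ^ 2 / 4 + 1 + n)

theorem EO_succ (n : ℕ) : EO n ≤ EO (n + 1) := by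
  by_cases h : n ≤ 16
  · interval_cases n <;> decide
  obtain ⟨k, rfl⟩ : ∃ k, n = k + 1 := ⟨n - 1, by omega⟩
  have h1 : (k + 1 + 1) ^ 2 = (k + 1) ^ 2 + 2 * k + 3 := by ring
  have h2 : (k + 1 + 1) * (k + 1 + 1 - 1) = (k + 1) * (k + 1 - 1) + 2 * k + 2 := by
    simp only [Nat.add_sub_cancel]; ring
  rw [EO, EO, h1, h2]
  omega

theorem EO_mono : Monotone EO := monotone_nat_of_le_succ EO_succ

theorem EO_ge {n : ℕ} (hn : 21 ≤ n) : n - 2 ≤ EO n := by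
  obtain ⟨k, rfl⟩ : ∃ k, n = k + 21 := ⟨n - 21, by omega⟩
  have h1 : (k + 21) ^ 2 = k ^ 2 + 42 * k + 441 := by ring
  have h2 : (k + 21) * (k + 21 - 1) = k ^ 2 + 41 * k + 420 := by
    rw [show k + 21 - 1 = k + 20 by omega]; ring
  rw [EO, h1, h2]
  omega

theorem seventeen {n : ℕ} (h : EO n ≠ 0) : 17 ≤ n := by
  by_contra h1
  exact h (Nat.le_zero.1 ((EO_mono (show n ≤ 16 by omega)).trans (by decide)))

/-- the exponent of a lower bound for the square of the order -/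
def mm : Kd → ℕ → ℕ
  | .L, n => 2 * n ^ 2 - 6
  | .U, n => 2 * n ^ 2 - 6
  | _, n => n * (n - 1)

theorem low {t : Kd} {n q T : ℕ} (hq : 2 ≤ q) (hd : dimOk t n q) (ho : oD t n q * T = oI t n q) :
    q ^ mm t n ≤ 64 * T ^ 2 := by
  have key : ∀ a b : ℕ, b ≤ 2 * a → q ^ a ≤ 8 * T → q ^ b ≤ 64 * T ^ 2 := fun a b h1 h2 =>
    calc q ^ b ≤ (q ^ a) ^ 2 := by rw [← pow_mul]; exact Nat.pow_le_pow_right (by omega) (by omega)
      _ ≤ (8 * T) ^ 2 := Nat.pow_le_pow_left h2 2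
      _ = _ := by ring
  have g2 : Nat.gcd 2 (q - 1) * T ≤ 2 * T := Nat.mul_le_mul_right _ (Nat.gcd_le_left _ two_pos)
  have g4 : ∀ x, Nat.gcd 4 x * T ≤ 4 * T := fun x => Nat.mul_le_mul_right _ (Nat.gcd_le_left _ four_pos)
  cases t with
  | L =>
    have h5 : 5 ≤ n := hd
    have h1 := oGL_ge' hq (show 1 ≤ n by omega)
    have h2 : Nat.gcd n (q - 1) * (q - 1) * T = oGL n q := ho
    have h3 : Nat.gcd n (q - 1) ≤ q := (Nat.gcd_le_right _ (by omega)).trans (Nat.sub_le _ _)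
    have h4 : 25 ≤ n ^ 2 := Nat.pow_le_pow_left h5 2
    refine key (n ^ 2 - 2) _ (show 2 * n ^ 2 - 6 ≤ _ by omega) (Nat.le_of_mul_le_mul_left ?_
      (show 0 < (q - 1) * q from Nat.mul_pos (by omega) (by omega)))
    calc (q - 1) * q * q ^ (n ^ 2 - 2) = (q - 1) * q ^ (n ^ 2 - 1) := by
          rw [show n ^ 2 - 1 = n ^ 2 - 2 + 1 by omega]; ring
      _ ≤ 2 * (Nat.gcd n (q - 1) * (q - 1) * T) := h2 ▸ h1
      _ ≤ 8 * (q * (q - 1) * T) := by gcongr; omega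
      _ = _ := by ring
  | U =>
    have h5 : 5 ≤ n := hd
    have h1 := oGU_ge hq (show 2 ≤ n by omega)
    have h2 : Nat.gcd n (q + 1) * (q + 1) * T = oGU n q := ho
    have h3 : Nat.gcd n (q + 1) ≤ q ^ 2 - 1 := (Nat.gcd_le_right _ (by omega)).trans (by
      have : q * 2 ≤ q * q := Nat.mul_le_mul_left q hq
      rw [sq]; omega)
    have h4 : 25 ≤ n ^ 2 := Nat.pow_le_pow_left h5 2
    have h6 : 0 < q ^ 2 - 1 := by have := Nat.pow_le_pow_left hq 2; omega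
    refine key (n ^ 2 - 3) _ (show 2 * n ^ 2 - 6 ≤ _ by omega) (Nat.le_of_mul_le_mul_left ?_
      (show 0 < (q + 1) * (q ^ 2 - 1) from Nat.mul_pos (by omega) h6))
    calc _ ≤ Nat.gcd n (q + 1) * (q + 1) * T := h2 ▸ h1
      _ ≤ (q ^ 2 - 1) * (q + 1) * (8 * T) := by gcongr; omega
      _ = _ := by ring
  | S =>
    obtain ⟨k, rfl⟩ : ∃ k, n = 2 * k := ⟨n / 2, by have := hd.2; omega⟩
    have h1 := oSp_ge' hq k
    have h2 : Nat.gcd 2 (q - 1) * T = oSp (2 * k / 2) q := ho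
    rw [Nat.mul_div_cancel_left _ two_pos] at h2
    refine key (2 * k ^ 2 + k) _ (show 2 * k * (2 * k - 1) ≤ _ from
      (Nat.mul_le_mul_left _ (Nat.sub_le _ _)).trans (by nlinarith)) (by omega)
  | O =>
    obtain ⟨k, rfl⟩ : ∃ k, n = 2 * k + 1 := ⟨n / 2, by have := hd.2.1; omega⟩
    have h1 := oSp_ge' hq k
    have h2 : 2 * T = oSp ((2 * k + 1) / 2) q := ho
    rw [show (2 * k + 1) / 2 = k by omega] at h2
    exact key (2 * k ^ 2 + k) _ (show (2 * k + 1) * (2 * k + 1 - 1) ≤ _ by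
      rw [Nat.add_sub_cancel]; nlinarith) (by omega)
  | P =>
    obtain ⟨k, rfl⟩ : ∃ k, n = 2 * (k + 1) := ⟨n / 2 - 1, by have := hd.1; have := hd.2; omega⟩
    have h1 := oP_ge hq (m := k) (by have := hd.1; omega)
    have h2 : Nat.gcd 4 (q ^ (2 * (k + 1) / 2) - 1) * T = oP (2 * (k + 1) / 2) q := ho
    rw [Nat.mul_div_cancel_left _ two_pos] at h2
    have h3 := g4 (q ^ (k + 1) - 1)
    exact key (2 * k ^ 2 + 3 * k + 1) _ (show 2 * (k + 1) * (2 * (k + 1) - 1) ≤ _ by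
      rw [show 2 * (k + 1) - 1 = 2 * k + 1 by omega]; nlinarith) (by omega)
  | M =>
    obtain ⟨k, rfl⟩ : ∃ k, n = 2 * (k + 1) := ⟨n / 2 - 1, by have := hd.1; have := hd.2; omega⟩
    have h1 := oM_ge hq k
    have h2 : Nat.gcd 4 (q ^ (2 * (k + 1) / 2) + 1) * T = oM (2 * (k + 1) / 2) q := ho
    rw [Nat.mul_div_cancel_left _ two_pos] at h2
    have h3 := g4 (q ^ (k + 1) + 1)
    exact key (2 * k ^ 2 + 3 * k + 1) _ (show 2 * (k + 1) * (2 * (k + 1) - 1) ≤ _ by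
      rw [show 2 * (k + 1) - 1 = 2 * k + 1 by omega]; nlinarith) (by omega)

theorem ec_le (t : Kd) {n d : ℕ} (hn : 17 ≤ n) (hd : d ≤ n ^ 2 / 4 + 1) : 3 * ec t n d + EO n ≤ mm t n := by
  obtain ⟨k, rfl⟩ : ∃ k, n = k + 17 := ⟨n - 17, by omega⟩
  have h1 : (k + 17) ^ 2 = k ^ 2 + 34 * k + 289 := by ring
  have h2 : (k + 17) * (k + 17 - 1) = k ^ 2 + 33 * k + 272 := by
    rw [show k + 17 - 1 = k + 16 by omega]; ring
  rw [EO]
  cases t <;> simp only [ec, mm] <;> omega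

end Gn

open Gn

variable {t : Kd} {n q p T : ℕ} {N : Type} [Group N] {G : Prop} {c d : N → ℕ}

theorem Rp0.two_le (R : Rp0 t n q p T N G c d) : 2 ≤ q := by
  obtain ⟨f, hf, rfl⟩ := R.pow
  exact R.prime.two_le.trans (Nat.le_self_pow hf.ne' p)

theorem Rp0.zz_pos (R : Rp0 t n q p T N G c d) : 0 < zz t q := by
  have := R.two_le
  cases t <;> simp only [zz] <;> first | omega | exact Nat.gcd_pos_of_pos_left _ two_pos

theorem Rp0.crude' (R : Rp0 t n q p T N G c d) (g : N) : c g ^ 2 ≤ q ^ ec t n (d g) := by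
  have h1 := R.crude g
  rw [mul_pow, mul_comm] at h1
  exact Nat.le_of_mul_le_mul_left (h1.trans (Nat.mul_le_mul_right _ (Nat.pow_le_pow_left
    (Nat.gcd_le_right _ R.zz_pos) 2))) (pow_pos R.zz_pos 2)

variable [Finite N] [IsSimpleGroup N]

/-- Scott's lemma with an involution -/
theorem Rp0.exists_small (R : Rp0 t n q p T N G c d) (hna : ¬ IsMulCommutative N) : ∃ g, d g ≤ n ^ 2 / 4 + 1 := by
  obtain ⟨x, h1, h2⟩ := FP3.hasInv N hna
  obtain ⟨y, hy⟩ := FP3.gen N hna x h1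
  have h3 := R.scott x y hy
  have h4 := R.low x 2 two_pos (by norm_num) h2
  by_cases h : d y ≤ n ^ 2 / 4 + 1
  · exact ⟨y, h⟩
  · exact ⟨x * y, by omega⟩

/-- **the generic criterion** -/
theorem Rp0.generic (R : Rp0 t n q p T N G c d) (hna : ¬ IsMulCommutative N)
    (h : 64 * Nat.card (MulAut N) ^ 2 ≤ q ^ EO n) : G := by
  obtain ⟨g, hg⟩ := R.exists_small hna
  have h0 : 0 < Nat.card (MulAut N) := Nat.card_pos
  have hn : 17 ≤ n := seventeen fun e => by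
    rw [e, pow_zero] at h
    have := pow_pos h0 2
    omega
  refine R.good1 g ((Nat.pow_le_pow_iff_left two_ne_zero).1 (Nat.le_of_mul_le_mul_left ?_ (show 0 < 64 by norm_num)))
  calc 64 * (c g ^ 3 * Nat.card (MulAut N)) ^ 2 = (c g ^ 2) ^ 3 * (64 * Nat.card (MulAut N) ^ 2) := by ring
    _ ≤ (q ^ ec t n (d g)) ^ 3 * q ^ EO n := Nat.mul_le_mul (Nat.pow_le_pow_left (R.crude' g) 3) h
    _ = q ^ (3 * ec t n (d g) + EO n) := by ring
    _ ≤ q ^ mm t n := Nat.pow_le_pow_right (by have := R.two_le; omega) (ec_le t hn hg)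
    _ ≤ _ := Gn.low R.two_le R.dim R.ord

end Cfsg.Agent.N2C.RX
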