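import Cfsg.Agent.N2.Tool

/-!
# N2 (S3519), class S: loops, partitions, multiplicities of eigenvalues (helper85)
-/

set_option autoImplicit false

namespace Cfsg.Agent.N2C.RX

open Finset

/-- evaluate `n` first -/
def frc {α : Type} (n : ℕ) (f : ℕ → α) : α := Nat.rec (motive := fun _ => α) (f 0) (fun k _ => f (Nat.succ k)) n

theorem frc_eq {α : Type} (n : ℕ) (f : ℕ → α) : frc n f = f n := by cases n <;> rfl

/-- `∀ i ∈ [lo, lo + k), f i` -/
def allR (f : ℕ → Bool) : ℕ → ℕ → Bool
  | 0, _ => true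
  | k + 1, i => f i && frc (i + 1) (allR f k)

theorem allR_sound {f : ℕ → Bool} {k lo : ℕ} (h : allR f k lo = true) {i : ℕ} (h1 : lo ≤ i) (h2 : i < lo + k) :
    f i = true := by
  induction k generalizing lo with
  | zero => omega
  | succ k ih =>
    rw [allR, Bool.and_eq_true, frc_eq] at h
    rcases h1.eq_or_lt with rfl | h4
    · exact h.1
    · exact ih h.2 h4 (by omega)

/-- `f i` until `stop i` -/
def allU (stop f : ℕ → Bool) : ℕ → ℕ → Bool
  | 0, _ => false
  | k + 1, i => stop i || (f i && frc (i + 1) (allU stop f k))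

theorem allU_sound {stop f : ℕ → Bool} {k lo : ℕ} (h : allU stop f k lo = true) {i : ℕ} (h1 : lo ≤ i) :
    f i = true ∨ ∃ j, lo ≤ j ∧ j ≤ i ∧ stop j = true := by
  induction k generalizing lo with
  | zero => exact absurd h Bool.false_ne_true
  | succ k ih =>
    rw [allU, Bool.or_eq_true, Bool.and_eq_true, frc_eq] at h
    rcases h with h | ⟨h2, h3⟩
    · exact Or.inr ⟨lo, le_rfl, h1, h⟩
    rcases h1.eq_or_lt with rfl | h4
    · exact Or.inl h2
    · exact (ih h3 h4).imp_right fun ⟨j, a, b, c⟩ => ⟨j, by omega, b, c⟩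

/-- all partitions of `s` into at most `z` parts of size at most `m`; `w` is the sum of the squares, `u` the number of parts -/
def allP (f : ℕ → ℕ → Bool) : ℕ → ℕ → ℕ → ℕ → ℕ → Bool
  | 0, s, _, w, u => !Nat.beq s 0 || f w u
  | m + 1, s, z, w, u => bif Nat.beq s 0 then f w u else
      allR (fun c => frc (s - c * (m + 1)) fun s' => frc (z - c) fun z' => frc (w + c * (m + 1) ^ 2) fun w' =>
        frc (u + c) fun u' => allP f m s' z' w' u') (min (s / (m + 1)) z + 1) 0

theorem allP_sound {f : ℕ → ℕ → Bool} (c : ℕ → ℕ) {m s z w u : ℕ} (h : allP f m s z w u = true)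
    (h1 : ∑ i ∈ range m, c i * (i + 1) = s) (h2 : ∑ i ∈ range m, c i ≤ z) :
    f (w + ∑ i ∈ range m, c i * (i + 1) ^ 2) (u + ∑ i ∈ range m, c i) = true := by
  induction m generalizing s z w u with
  | zero =>
    subst h1
    simpa [allP] using h
  | succ m ih =>
    rw [allP] at h
    by_cases hs : s = 0
    · have h3 : ∀ i ∈ range (m + 1), c i = 0 := fun i hi => by
        simpa using (sum_eq_zero_iff.1 (h1.trans hs)) i hi
      rw [sum_eq_zero h3, sum_eq_zero fun i hi => by rw [h3 i hi, zero_mul]]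
      subst hs
      exact h
    · rw [show Nat.beq s 0 = false from by rw [← Bool.not_eq_true, Nat.beq_eq]; exact hs, cond_false] at h
      rw [sum_range_succ] at h1 h2
      have h3 : c m ≤ s / (m + 1) := (Nat.le_div_iff_mul_le (Nat.succ_pos m)).2 (h1 ▸ Nat.le_add_left _ _)
      have h4 := allR_sound h (Nat.zero_le (c m)) (by omega)
      simp only [frc_eq] at h4
      have h5 := ih h4 (by omega) (by omega)
      rw [sum_range_succ, sum_range_succ, add_comm _ (c m * _), add_comm _ (c m), ← add_assoc, ← add_assoc]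
      exact h5

/-- all vectors of multiplicities; arguments of `f` : fixed space, sum of the squares, number of other eigenvalues -/
def allS (f : ℕ → ℕ → ℕ → Bool) (n k tt : ℕ) : Bool :=
  allR (fun s => frc (n - k * s) fun m => allP (fun w u => frc (m ^ 2 + k * w) fun d => frc (k * u) (f m d)) s s tt 0 0) (n / k) 1

theorem dvd_of_inv {G : Type*} [Group G] [Finite G] (H : Subgroup G) (p : G → Prop) (h : ∀ x ∈ H, ∀ g, p g → p (g * x)) :
    Nat.card H ∣ Nat.card {g // p g} := by
  have e : ∀ g : G, p g ↔ p (g : G ⧸ H).out := fun g => by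
    obtain ⟨x, hx⟩ := QuotientGroup.mk_out_eq_mul H g
    rw [hx]
    exact ⟨h x x.2 g, fun h1 => by simpa using h _ (H.inv_mem x.2) _ h1⟩
  rw [Nat.card_congr (Equiv.subtypeEquivRight e), N2.card_pre H fun x => p x.out]
  exact dvd_mul_left _ _

variable {r : ℕ} [hr : Fact r.Prime]

/-- the level sets are unions of orbits of the stabiliser -/
theorem exists_stab (μ : ZMod r → ℕ) : ∃ h : ℕ, (∀ m, h ∣ (univ.filter fun i => i ≠ 0 ∧ μ i = m).card) ∧
    ∀ a : ZMod r, a ≠ 0 → (∀ i, μ (a * i) = μ i) → orderOf a ∣ h := by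
  let H : Subgroup (ZMod r)ˣ :=
    { carrier := {x | ∀ i, μ (x * i) = μ i}
      one_mem' := fun i => by simp
      mul_mem' := fun {a b} ha hb i => by rw [Units.val_mul, mul_assoc, ha, hb]
      inv_mem' := fun {a} ha i => by rw [← ha, Units.mul_inv_cancel_left] }
  refine ⟨Nat.card H, fun m => ?_, fun a ha h => ?_⟩
  · have h1 := dvd_of_inv H (fun g => μ g = m) fun x hx g hg => by rw [Units.val_mul, mul_comm, hx, hg]
    rwa [show Nat.card {g : (ZMod r)ˣ // μ g = m} = (univ.filter fun i => i ≠ 0 ∧ μ i = m).card from by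
      rw [← Fintype.card_coe, ← Nat.card_eq_fintype_card]
      exact Nat.card_congr
        { toFun := fun g => ⟨g.1, by simpa using g.2⟩
          invFun := fun i => ⟨Units.mk0 i.1 (mem_filter.1 i.2).2.1, (mem_filter.1 i.2).2.2⟩
          left_inv := fun g => by ext; simp
          right_inv := fun i => by ext; simp }] at h1
  · have h1 : Units.mk0 a ha ∈ H := h
    have h2 := H.orderOf_dvd_natCard h1
    rwa [← orderOf_units, Units.val_mk0] at h2

theorem sum_lvl (μ : ZMod r → ℕ) {n : ℕ} (hn : ∀ i, μ i ≤ n) (F : ℕ → ℕ) (hF : F 0 = 0) :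
    ∑ i ∈ univ.erase 0, F (μ i) = ∑ m ∈ range n, (univ.filter fun i => i ≠ 0 ∧ μ i = m + 1).card * F (m + 1) := by
  rw [← sum_fiberwise_of_maps_to (s := univ.erase 0) (t := range (n + 1)) (g := μ)
    (fun i _ => mem_range.2 (Nat.lt_succ_of_le (hn i))), sum_range_succ']
  rw [sum_eq_zero (s := (univ.erase 0).filter fun i => μ i = 0) fun i hi => by rw [(mem_filter.1 hi).2, hF], add_zero]
  refine sum_congr rfl fun m _ => ?_
  rw [sum_congr rfl (g := fun _ => F (m + 1)) fun i hi => by rw [(mem_filter.1 hi).2], sum_const, smul_eq_mul]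
  congr 2
  ext i
  simp

/-- **the multiplicities** -/
theorem allS_sound (μ : ZMod r → ℕ) {n k : ℕ} (hk : 0 < k) (hs : ∑ i, μ i = n) (h0 : μ 0 ≠ n)
    (hd : ∀ m, k ∣ (univ.filter fun i => i ≠ 0 ∧ μ i = m).card) {f : ℕ → ℕ → ℕ → Bool}
    (h : allS f n k ((r - 1) / k) = true) :
    f (μ 0) (∑ i, μ i ^ 2) (univ.filter fun i => i ≠ 0 ∧ μ i ≠ 0).card = true := by
  have hn : ∀ i, μ i ≤ n := fun i => hs ▸ single_le_sum (f := μ) (fun _ _ => Nat.zero_le _) (mem_univ i)
  choose c hc using fun m => hd (m + 1)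
  have key : ∀ F : ℕ → ℕ, F 0 = 0 → ∑ i ∈ univ.erase 0, F (μ i) = k * ∑ m ∈ range n, c m * F (m + 1) := fun F hF => by
    rw [sum_lvl μ hn F hF, mul_sum]
    exact sum_congr rfl fun m _ => by rw [hc, mul_assoc]
  set s := ∑ m ∈ range n, c m * (m + 1) with hs'
  have h1 : μ 0 + k * s = n := by rw [← key (fun m => m) rfl, add_sum_erase _ μ (mem_univ 0), hs]
  have h2 : ∑ i, μ i ^ 2 = μ 0 ^ 2 + k * ∑ m ∈ range n, c m * (m + 1) ^ 2 := by
    rw [← key (fun m => m ^ 2) rfl, add_sum_erase _ (fun i => μ i ^ 2) (mem_univ 0)]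
  have h3 : (univ.filter fun i => i ≠ 0 ∧ μ i ≠ 0).card = k * ∑ m ∈ range n, c m := by
    have h4 := key (fun m => if m ≠ 0 then 1 else 0) rfl
    simp only [Nat.succ_ne_zero, ne_eq, not_false_eq_true, if_true, mul_one] at h4
    rw [← h4, sum_boole, Nat.cast_id]
    congr 1
    ext i
    simp
  have h4 : k * ∑ m ∈ range n, c m ≤ r - 1 := by
    rw [← h3, show r - 1 = (univ.erase (0 : ZMod r)).card by rw [card_erase_of_mem (mem_univ _), card_univ, ZMod.card]]
    exact card_le_card fun i hi => mem_erase.2 ⟨(mem_filter.1 hi).2.1, mem_univ _⟩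
  have h5 : 0 < s := Nat.pos_of_ne_zero fun e => h0 (by rw [← h1, e, mul_zero, add_zero])
  have h6 : s ≤ n := (Nat.le_mul_of_pos_left s hk).trans (by omega)
  have h7 : ∀ F : ℕ → ℕ, ∑ m ∈ range s, c m * F m = ∑ m ∈ range n, c m * F m := fun F =>
    sum_subset (range_subset_range.2 h6) fun m hm hm' => by
      have h8 : c m * (m + 1) ≤ s := single_le_sum (f := fun m => c m * (m + 1)) (fun _ _ => Nat.zero_le _) hm
      rw [mem_range] at hm'
      rcases Nat.eq_zero_or_pos (c m) with h9 | h9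
      · rw [h9, zero_mul]
      · have := Nat.le_mul_of_pos_left (m + 1) h9
        omega
  have h8 : ∑ m ∈ range s, c m = ∑ m ∈ range n, c m := by simpa using h7 fun _ => 1
  have h9 := allR_sound h (i := s) h5 (by
    have : s ≤ n / k := (Nat.le_div_iff_mul_le hk).2 (by rw [mul_comm]; omega)
    omega)
  rw [frc_eq] at h9
  have h10 := allP_sound c h9 (h7 _) (by rw [h8]; exact (Nat.le_div_iff_mul_le hk).2 (by rwa [mul_comm]))
  rwa [frc_eq, frc_eq, zero_add, zero_add, h7, h8, show n - k * s = μ 0 by omega, ← h2, ← h3] at h10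

/-- the search for the multiplicative order -/
def om (a r : ℕ) : ℕ → ℕ → ℕ
  | 0, _ => 0
  | f + 1, e => bif Nat.beq (a ^ e % r) 1 then e else frc (e + 1) (om a r f)

/-- the multiplicative order of `a` modulo `r`, or zero -/
def ordm (a r : ℕ) : ℕ := om a r r 1

theorem pow_one_iff (a e : ℕ) : (a : ZMod r) ^ e = 1 ↔ a ^ e % r = 1 := by
  rw [← Nat.cast_pow, ← Nat.cast_one, ZMod.natCast_eq_natCast_iff', Nat.mod_eq_of_lt hr.out.one_lt]

theorem om_eq (a : ℕ) {f e : ℕ} (he : 0 < e) (h : ∀ i, i < e → 0 < i → (a : ZMod r) ^ i ≠ 1) (h0 : om a r f e ≠ 0) :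
    orderOf (a : ZMod r) = om a r f e := by
  induction f generalizing e with
  | zero => exact absurd rfl h0
  | succ f ih =>
    rw [om] at h0 ⊢
    by_cases h1 : a ^ e % r = 1
    · rw [show Nat.beq (a ^ e % r) 1 = true from Nat.beq_eq ▸ h1, cond_true]
      exact (orderOf_eq_iff he).2 ⟨(pow_one_iff a e).2 h1, h⟩
    · rw [show Nat.beq (a ^ e % r) 1 = false from by rw [← Bool.not_eq_true, Nat.beq_eq]; exact h1, cond_false,
        frc_eq] at h0 ⊢
      refine ih (Nat.succ_pos e) (fun i h2 h3 => ?_) h0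
      rcases (Nat.lt_succ_iff.1 h2).eq_or_lt with rfl | h4
      · exact fun h5 => h1 ((pow_one_iff a i).1 h5)
      · exact h i h4 h3

theorem ordm_eq {a : ℕ} (h : ordm a r ≠ 0) : orderOf (a : ZMod r) = ordm a r :=
  om_eq a one_pos (fun i h1 h2 => by omega) h

theorem ne_zero_of_ordm {a : ℕ} (h : ordm a r ≠ 0) : (a : ZMod r) ≠ 0 := fun e => by
  have h1 := pow_orderOf_eq_one (a : ZMod r)
  rw [ordm_eq h, e, zero_pow h] at h1
  exact zero_ne_one h1

end Cfsg.Agent.N2C.RX
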