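import Cfsg.Agent.N2.Cl.RX.Num
import Cfsg.Agent.N2.Cl.RX.Comb
import Cfsg.Agent.N2.Cl.RX.El

/-!
# N2 (S3519), class S: the sieve (helper85)

`Rp.sieve` : for a simple group `N` with given data the goal follows from the kernel check `chk`.
-/

set_option autoImplicit false

namespace Cfsg.Agent.N2C.RX

open Subgroup Cfsg.Agent.N2.Tg

/-! ### the checks -/

def cdv (x a : ℕ) : ℕ := (x + a - 1) / a

/-- Scott's bound for the third element of a triple -/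
def Dab (n a b : ℕ) : ℕ := n ^ 2 + 2 - cdv (n ^ 2) a - cdv (n ^ 2) b

/-- some element has a centraliser of dimension at most `Dc` -/
def Dc (n ta tb : ℕ) : ℕ := bif Nat.beq ta 0 then n ^ 2 / 4 + 1 else min (n ^ 2 / 4 + 1) (Dab n ta tb)

def El.al (e : El) : ℕ := bif e.sy then e.r - 1 else 1
def El.be (e : El) (o A : ℕ) : ℕ := bif e.sy then o else A
def El.ga (e : El) : ℕ := bif e.sy then max e.M (e.r * ordm e.j e.r) else 1

def wfT (a b : ℕ) : Bool := Nat.ble a 6 && Nat.ble b 6 && (Nat.beq a 0 || Nat.blt 0 b)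

def El.wf (o : ℕ) (e : El) : Bool := Nat.blt 2 e.r && !Nat.beq (ordm e.j e.r) 0 && !Nat.beq (e.j % e.r) 1 && wfT e.a e.b &&
  (!e.sc || (Nat.ble 5 e.r && !Nat.beq (o % e.r ^ 2) 0))

/-- excluded by Scott's lemma -/
def El.out (e : El) (n d : ℕ) : Bool := !Nat.beq e.a 0 && Nat.blt (Dab n e.a e.b) d

def fn : Kd → ℕ → ℕ → ℕ
  | .U, q, r => (r - 1) * q % r
  | _, q, r => q % r

def kb : Kd → ℕ
  | .L => 1
  | .U => 1
  | _ => 2

def nu0 : Kd → ℕ → ℕ
  | .L, _ => 0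
  | .U, z => z
  | _, z => z / 2

def wu : Kd → ℕ → ℕ → ℕ
  | .L, n, r => if r ∣ n then r else 1
  | .U, n, r => if r ∣ n then r else 1
  | _, _, _ => 1

def Kd.isS : Kd → Bool
  | .S => true
  | _ => false

def Kd.isO : Kd → Bool
  | .O => true
  | _ => false

def dimB : Kd → ℕ → Bool
  | .L, n => Nat.ble 5 n
  | .U, n => Nat.ble 5 n
  | .S, n => Nat.ble 6 n && Nat.beq (n % 2) 0
  | .O, n => Nat.ble 7 n && Nat.beq (n % 2) 1
  | _, n => Nat.ble 8 n && Nat.beq (n % 2) 0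

section

variable (t : Kd) (n q W o A : ℕ)

def okC (D : ℕ) : Bool := Nat.ble ((Nat.gcd n (zz t q) ^ 2 * q ^ ec t n D) ^ 3 * A ^ 2) (W ^ 2)

def okCu (D : ℕ) : Bool := frc (3 * ec t n D) fun x => frc (2 * dimE t n) fun E =>
  Nat.ble x E && Nat.ble (wmax t n ^ 6 * A ^ 2 * lD t n q ^ 2) (lN t q ^ 2 * 1 * q ^ (E - x))

def okP (e : El) : Bool := frc (ordm (fn t q e.r) e.r) fun ee => !Nat.beq ee 0 &&
  frc (Nat.lcm (Nat.lcm (ordm e.j e.r) ee) (kb t)) fun k => frc e.ga fun ga => frc (q ^ eq t ee) fun Q =>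
    allS (fun m d z => e.out n d || frc (nu t ee z) fun ν =>
      Nat.ble ((ww t n q e.r * kp t m * q ^ es t d m * (Q + 1) ^ ν * (q + 1) ^ dl t m * e.al) ^ 3 * e.be o A)
        (W * (Q ^ ν * q ^ dl t m * ga) ^ 3)) n k ((e.r - 1) / k)

def okPu (e : El) : Bool := frc (Nat.lcm (ordm e.j e.r) (kb t)) fun k => frc e.ga fun ga => frc (dimE t n) fun E =>
  allS (fun m d z => e.out n d || frc (3 * es t d m) fun x => Nat.ble x E && frc (nu0 t z + dl t m) fun ν =>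
    Nat.ble ((wu t n e.r * kp t m * (q + 1) ^ ν * e.al) ^ 3 * e.be o A * lD t n q)
      (lN t q * (q ^ ν * ga) ^ 3 * q ^ (E - x))) n k ((e.r - 1) / k)

def okG (e : El) : Bool := (t.isS && Nat.beq (n / e.r % 2) 1) ||
  Nat.ble ((q ^ ec t n (dG n e.r) * e.al ^ 2) ^ 3 * e.be o A ^ 2) (W ^ 2 * (e.ga ^ 3) ^ 2) ||
  (Nat.ble (n / e.r) 2 && Nat.ble ((gB t q (n / e.r) (n % e.r) (dG n e.r) * e.al) ^ 3 * e.be o A) (W * (1 * e.ga) ^ 3))

def okGu (e : El) : Bool := (t.isS && Nat.beq (n / e.r % 2) 1) ||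
  (Nat.ble (3 * ec t n (dG n e.r)) (2 * dimE t n) && Nat.ble (e.al ^ 6 * e.be o A ^ 2 * lD t n q ^ 2)
    (lN t q ^ 2 * (e.ga ^ 3) ^ 2 * q ^ (2 * dimE t n - 3 * ec t n (dG n e.r)))) ||
  (Nat.ble (n / e.r) 2 && Nat.ble (3 * gE t (n / e.r) (n % e.r) (dG n e.r)) (dimE t n) &&
    Nat.ble ((gK t (n / e.r) (n % e.r) * e.al) ^ 3 * e.be o A * lD t n q)
      (lN t q * (1 * e.ga) ^ 3 * q ^ (dimE t n - 3 * gE t (n / e.r) (n % e.r) (dG n e.r))))

variable (lb : ℕ → ℕ) (sk : Kd → ℕ → ℕ → Bool) (D : ℕ) (els : List El)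

/-- all fields with at least `q` elements -/
def uni : Bool := okCu t n q A D || els.any fun e => okPu t n q o A e && frc (max q e.r) fun q1 =>
  Nat.blt n (lb e.r) || okCu t n q1 A D || (e.sc && okGu t n q1 o A e) ||
    els.any fun e' => !Nat.beq e'.r e.r && okPu t n q1 o A e'

/-- one field -/
def exq : Bool := frc (mf q) fun p => !Nat.beq (p ^ q % q) 0 || Nat.blt n (lb p) || (t.isO && Nat.beq (q % 2) 0) || sk t n q ||
  frc (tI t n q / oD t n q) fun T => !Nat.beq (T % o) 0 || frc (T * zz t q ^ 3) fun W =>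
    okC t n q W A D || els.any fun e => bif Nat.beq e.r p then e.sc && okG t n q W o A e else okP t n q W o A e

/-- one kind and one dimension -/
def chkT : Bool := !dimB t n || allU (fun q => (Nat.ble q 32 || Nat.beq (q % 16) 0) && uni t n q o A lb D els)
  (fun q => exq t n q o A lb sk D els) 300 2

/-- one dimension -/
def chkN : Bool := chkT .L n o A lb sk D els && chkT .U n o A lb sk D els && chkT .S n o A lb sk D els &&
  chkT .O n o A lb sk D els && chkT .P n o A lb sk D els && chkT .M n o A lb sk D els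

end

/-- **the check** : `o = |N|`, `|Aut N| ≤ A`, `lo ≤ n`, `lb p ≤ n`, the cases `sk` are excluded, `N` is a `(ta, tb, c)` group -/
def chk (o A lo : ℕ) (lb : ℕ → ℕ) (sk : Kd → ℕ → ℕ → Bool) (ta tb : ℕ) (els : List El) : Bool :=
  els.all (El.wf o) && wfT ta tb && allU (fun n => Nat.blt o (n ^ 2) || Nat.ble (64 * A ^ 2) (2 ^ Gn.EO n))
    (fun n => frc (Dc n ta tb) fun D => chkN n o A lb sk D els) 300 lo

/-! ### soundness -/

theorem nbeq {a b : ℕ} : (!Nat.beq a b) = true ↔ a ≠ b := by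
  rw [Bool.not_eq_true', ← Bool.not_eq_true, Nat.beq_eq]

theorem wfT_iff {a b : ℕ} (h : wfT a b = true) (h0 : a ≠ 0) : a ≤ 6 ∧ b ≤ 6 ∧ 0 < b := by
  simp only [wfT, Bool.and_eq_true, Bool.or_eq_true, Nat.ble_eq, Nat.beq_eq, Nat.blt_eq] at h
  exact ⟨h.1.1, h.1.2, h.2.resolve_left h0⟩

theorem wf_iff {o : ℕ} {e : El} (h : e.wf o = true) : 2 < e.r ∧ ordm e.j e.r ≠ 0 ∧ e.j % e.r ≠ 1 ∧ wfT e.a e.b = true ∧
    (e.sc = true → 5 ≤ e.r ∧ o % e.r ^ 2 ≠ 0) := by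
  simp only [El.wf, Bool.and_eq_true, Bool.or_eq_true, Nat.ble_eq, nbeq, Nat.blt_eq] at h
  exact ⟨h.1.1.1.1, h.1.1.1.2, h.1.1.2, h.1.2, fun h1 => h.2.resolve_left (by rw [h1]; decide)⟩

theorem fr_cast (t : Kd) (q r : ℕ) (hr : 0 < r) : ((fr t q : ℤ) : ZMod r) = (fn t q r : ℕ) := by
  cases t <;> simp only [fr, fn, ZMod.natCast_mod, Int.cast_natCast]
  rw [Nat.cast_mul, Nat.cast_sub hr, ZMod.natCast_self]
  simp

theorem nu_le (t : Kd) (e z : ℕ) : nu t e z ≤ nu0 t z := by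
  have h : (if (if e % 2 = 0 then e / 2 else 0) = 0 then 0 else z / e) ≤ z / 2 := by
    split_ifs with h1 h2 h2
    · exact Nat.zero_le _
    · exact Nat.div_le_div_left (by omega) two_pos
    · exact Nat.zero_le _
    · exact absurd rfl h2
  cases t
  · exact le_rfl
  · simp only [nu, nu0]
    split_ifs
    · exact Nat.zero_le _
    · exact Nat.div_le_self _ _
  all_goals exact h

theorem ww_le (t : Kd) (n q : ℕ) {r : ℕ} (hr : 2 < r) : ww t n q r ≤ wu t n r := by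
  have h1 : (if r ∣ zz t q ∧ r ∣ n then r else 1) ≤ if r ∣ n then r else 1 := by
    split_ifs with h1 h2 h2
    · exact le_rfl
    · exact absurd h1.2 h2
    · omega
    · exact le_rfl
  have h2 : (if r ∣ Nat.gcd 2 (q - 1) ∧ r ∣ n then r else 1) ≤ 1 := by
    rw [if_neg fun h => absurd (Nat.le_of_dvd two_pos (h.1.trans (Nat.gcd_dvd_left _ _))) (by omega)]
  cases t
  · exact h1
  · exact h1
  all_goals exact h2

variable {t : Kd} {n q p T : ℕ} {N : Type} [Group N] {G : Prop} {c d : N → ℕ} {o A q0 D : ℕ} {e : El}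

/-- a criterion for the goal -/
def Cri (T : ℕ) (G : Prop) (x al be ga : ℕ) : Prop := (x * al) ^ 3 * be ≤ T * ga ^ 3 → G

theorem Cri.one {x al be ga Z X Y : ℕ} (h : Cri T G x al be ga) (hZ : 0 < Z) (hX : 0 < X) (h1 : x * Z * X ≤ Y)
    (h2 : (Y * al) ^ 3 * be ≤ T * Z ^ 3 * (X * ga) ^ 3) : G := by
  refine h (Nat.le_of_mul_le_mul_left ?_ (pow_pos (Nat.mul_pos hZ hX) 3))
  calc (Z * X) ^ 3 * ((x * al) ^ 3 * be) = (x * Z * X * al) ^ 3 * be := by ring
    _ ≤ (Y * al) ^ 3 * be := by gcongr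
    _ ≤ _ := h2
    _ = _ := by ring

theorem Cri.two {x al be ga Z Y : ℕ} (h : Cri T G x al be ga) (hZ : 0 < Z) (h1 : (x * Z) ^ 2 ≤ Y)
    (h2 : (Y * al ^ 2) ^ 3 * be ^ 2 ≤ (T * Z ^ 3) ^ 2 * (ga ^ 3) ^ 2) : G := by
  refine h ((Nat.pow_le_pow_iff_left two_ne_zero).1 (Nat.le_of_mul_le_mul_left ?_ (pow_pos hZ 6)))
  calc Z ^ 6 * ((x * al) ^ 3 * be) ^ 2 = ((x * Z) ^ 2 * al ^ 2) ^ 3 * be ^ 2 := by ring
    _ ≤ (Y * al ^ 2) ^ 3 * be ^ 2 := by gcongr
    _ ≤ _ := h2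
    _ = _ := by ring

theorem Rp0.cri1 (R : Rp0 t n q p T N G c d) (hA : Nat.card (MulAut N) ≤ A) (g : N) : Cri T G (c g) 1 A 1 := fun h =>
  R.good1 g ((Nat.mul_le_mul_left _ hA).trans (by simpa using h))

theorem Rp0.le_Dab (R : Rp0 t n q p T N G c d) {a b : ℕ} (hw : wfT a b = true) (h0 : a ≠ 0) {x y : N} (hx : x ^ a = 1)
    (hy : y ^ b = 1) (h : closure ({x, y} : Set N) = ⊤) : d (x * y) ≤ Dab n a b := by
  obtain ⟨h1, h2, h3⟩ := wfT_iff hw h0
  have k : ∀ {a u : ℕ}, 0 < a → n ^ 2 ≤ a * u → cdv (n ^ 2) a ≤ u := fun {a u} ha h =>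
    Nat.lt_succ_iff.1 ((Nat.div_lt_iff_lt_mul ha).2 (by rw [Nat.succ_mul, mul_comm u]; omega))
  have h4 := k (Nat.pos_of_ne_zero h0) (R.low x a (Nat.pos_of_ne_zero h0) h1 hx)
  have h5 := k h3 (R.low y b h3 h2 hy)
  have h6 := R.scott x y h
  rw [Dab]
  omega

theorem Rp0.okC_sound (R : Rp0 t n q p T N G c d) (hA : Nat.card (MulAut N) ≤ A) (hD : ∃ g, d g ≤ D)
    (h : okC t n q (T * zz t q ^ 3) A D = true) : G := by
  obtain ⟨g, hg⟩ := hD
  refine (R.cri1 hA g).two R.zz_pos ((R.crude g).trans (Nat.mul_le_mul_left _ (Nat.pow_le_pow_right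
    (by have := R.two_le; omega) (ec_mono t n hg)))) ?_
  simpa only [okC, Nat.ble_eq, one_pow, mul_one] using h

theorem Rp0.okCu_sound (R : Rp0 t n q p T N G c d) (hA : Nat.card (MulAut N) ≤ A) (hD : ∃ g, d g ≤ D) (h0 : 2 ≤ q0)
    (hq : q0 ≤ q) (h : okCu t n q0 A D = true) : G := by
  simp only [okCu, frc_eq, Bool.and_eq_true, Nat.ble_eq] at h
  have h1 := unif2 hq (low_W R.dim R.ord h0 hq) (lD_pos R.dim h0) h.1 h.2
  refine R.okC_sound hA hD ?_
  rw [okC, Nat.ble_eq]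
  calc _ ≤ (wmax t n ^ 2 * q ^ ec t n D) ^ 3 * A ^ 2 := by gcongr; exact gcd_le_wmax R.dim
    _ = wmax t n ^ 6 * A ^ 2 * q ^ (3 * ec t n D) := by ring
    _ ≤ _ := h1.trans_eq (mul_one _)

/-- the witness -/
structure Wit (t : Kd) (n q p T : ℕ) (G : Prop) (c d : N → ℕ) (o A : ℕ) (e : El) (g : N) : Prop where
  cri : Cri T G (c g) e.al (e.be o A) e.ga
  pat : e.r ≠ p → ∃ ee, (ordm (fn t q e.r) e.r ≠ 0 → ee = ordm (fn t q e.r) e.r) ∧
    ∀ (k : ℕ) (f : ℕ → ℕ → ℕ → Bool), 0 < k → k ∣ Nat.lcm (Nat.lcm (ordm e.j e.r) ee) (kb t) →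
      allS (fun m d z => e.out n d || f m d z) n k ((e.r - 1) / k) = true → ∃ m z, f m (d g) z = true ∧
        c g * zz t q * (q ^ eq t ee) ^ nu t ee z * q ^ dl t m ≤
          ww t n q e.r * kp t m * q ^ es t (d g) m * (q ^ eq t ee + 1) ^ nu t ee z * (q + 1) ^ dl t m
  grn : e.r = p → e.sc = true → (t = .S → (n / e.r) % 2 = 0) ∧ (c g * zz t q) ^ 2 ≤ q ^ ec t n (dG n e.r) ∧
    (n / e.r ≤ 2 → c g * zz t q ≤ gB t q (n / e.r) (n % e.r) (dG n e.r))

theorem Rp.wit [Finite N] (R : Rp t n q p T N G c d) (ho : Nat.card N = o) (hA : Nat.card (MulAut N) ≤ A)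
    (hw : e.wf o = true) (he : e.Ok N) : ∃ g, Wit t n q p T G c d o A e g := by
  obtain ⟨hr, g, hg, hj, ht, hy, hs⟩ := he
  obtain ⟨w1, w2, w3, w4, w5⟩ := wf_iff hw
  have : Fact e.r.Prime := ⟨hr⟩
  refine ⟨g, ?_, fun hp => ?_, fun hp h => ?_⟩
  · rw [El.al, El.be, El.ga]
    cases h : e.sy
    · exact R.cri1 hA g
    · refine fun h1 => R.good2 g e.r hr hg (hy h).1 (ho ▸ h1.trans (Nat.mul_le_mul_left _ (Nat.pow_le_pow_left ?_ 3)))
      exact max_le (hy h).2 (ordm_eq w2 ▸ card_norm_ge hg hj)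
  · obtain ⟨μ, m1, m2, m3, m4, m5, m6, m7⟩ := R.semi e.r g e.j hp w1 hg hj fun h =>
      w3 (by simpa using (pow_one_iff e.j 1).1 (by rw [pow_one, h]))
    refine ⟨orderOf ((fr t q : ℤ) : ZMod e.r), fun h => by rw [fr_cast t q e.r hr.pos, ordm_eq h], fun k f hk hd h => ?_⟩
    obtain ⟨s, s1, s2⟩ := exists_stab μ
    have h1 : (q : ZMod e.r) ≠ 0 := fun h => by
      obtain ⟨f, -, hf⟩ := R.pow
      exact hp ((Nat.prime_dvd_prime_iff_eq hr R.prime).1 (hr.dvd_of_dvd_pow (hf ▸ (ZMod.natCast_eq_zero_iff _ _).1 h)))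
    have h2 : ((fr t q : ℤ) : ZMod e.r) ≠ 0 := by cases t <;> simpa [fr] using h1
    have h3 : kb t ∣ s := by
      have h4 : bil t → 2 ∣ s := fun h => by
        have h5 := s2 (-1) (by simp) fun i => by rw [neg_one_mul, m6 h]
        rwa [orderOf_neg_one, ZMod.ringChar_zmod_n, if_neg w1.ne'] at h5
      cases t
      · exact one_dvd s
      · exact one_dvd s
      all_goals exact h4 trivial
    have h4 := allS_sound μ hk m1 m2 (fun m => (hd.trans (Nat.lcm_dvd (Nat.lcm_dvd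
      (ordm_eq w2 ▸ s2 _ (ne_zero_of_ordm w2) m4) (s2 _ h2 m5)) h3)).trans (s1 m)) h
    rw [← m3, Bool.or_eq_true] at h4
    refine ⟨μ 0, _, h4.resolve_left fun h5 => ?_, m7 _ _ rfl rfl⟩
    rw [El.out, Bool.and_eq_true, nbeq, Nat.blt_eq] at h5
    obtain ⟨x, y, hx, hy', h6, hxy⟩ := ht h5.1
    exact absurd (h6 ▸ R.le_Dab w4 h5.1 hx hy' hxy) (not_le.2 h5.2)
  · subst hp
    exact R.green g (w5 h).1 hg (fun h1 => (w5 h).2 (Nat.mod_eq_zero_of_dvd (ho ▸ h1))) (hs h)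

variable {g : N}

theorem Wit.okP_sound (w : Wit t n q p T G c d o A e g) (R : Rp0 t n q p T N G c d) (hw : e.wf o = true) (hp : e.r ≠ p)
    (h : okP t n q (T * zz t q ^ 3) o A e = true) : G := by
  obtain ⟨ee, h1, h2⟩ := w.pat hp
  rw [okP, frc_eq, Bool.and_eq_true, nbeq, frc_eq, frc_eq, frc_eq, ← h1 h.1] at h
  have h0 : 0 < q := by have := R.two_le; omega
  obtain ⟨m, z, h3, h4⟩ := h2 _ _ (Nat.lcm_pos (Nat.lcm_pos (Nat.pos_of_ne_zero (wf_iff hw).2.1) (Nat.pos_of_ne_zero h.1))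
    (by cases t <;> decide)) dvd_rfl h.2
  rw [frc_eq, Nat.ble_eq] at h3
  exact w.cri.one R.zz_pos (by positivity) (by rw [← mul_assoc]; exact h4) h3

theorem Wit.okPu_sound (w : Wit t n q p T G c d o A e g) (R : Rp0 t n q p T N G c d) (hw : e.wf o = true) (hp : e.r ≠ p)
    (h0 : 2 ≤ q0) (hq : q0 ≤ q) (h : okPu t n q0 o A e = true) : G := by
  obtain ⟨ee, -, h2⟩ := w.pat hp
  rw [okPu, frc_eq, frc_eq, frc_eq] at h
  obtain ⟨m, z, h3, h4⟩ := h2 _ _ (Nat.lcm_pos (Nat.pos_of_ne_zero (wf_iff hw).2.1) (by cases t <;> decide))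
    (Nat.lcm_dvd ((Nat.dvd_lcm_left _ _).trans (Nat.dvd_lcm_left _ _)) (Nat.dvd_lcm_right _ _)) h
  rw [frc_eq, Bool.and_eq_true, frc_eq, Nat.ble_eq, Nat.ble_eq] at h3
  have h5 := unif hq (low_W R.dim R.ord h0 hq) (lD_pos R.dim h0) h3.1 h3.2
  have h6 : 0 < q0 := by omega
  have h7 : c g * zz t q * q ^ dl t m * q0 ^ nu0 t z ≤
      ww t n q e.r * kp t m * q ^ es t (d g) m * (q + 1) ^ dl t m * (q0 + 1) ^ nu0 t z :=
    ratio (Q := q ^ eq t ee) h6 (by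
      by_cases h : eq t ee = 0
      · exact Or.inl (if_pos h)
      · exact Or.inr (hq.trans (Nat.le_self_pow h q))) (nu_le t ee z) (by
      rw [mul_right_comm, mul_right_comm _ ((q + 1) ^ dl t m)]; exact h4)
  have h8 : c g * zz t q * q0 ^ nu0 t z * q0 ^ dl t m ≤
      ww t n q e.r * kp t m * q ^ es t (d g) m * (q0 + 1) ^ nu0 t z * (q0 + 1) ^ dl t m :=
    ratio h6 (Or.inr hq) le_rfl (by rw [mul_right_comm, mul_right_comm _ ((q0 + 1) ^ nu0 t z)]; exact h7)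
  refine w.cri.one R.zz_pos (X := q0 ^ (nu0 t z + dl t m))
    (Y := wu t n e.r * kp t m * q ^ es t (d g) m * (q0 + 1) ^ (nu0 t z + dl t m)) (by positivity) ?_ (le_of_eq_of_le ?_ h5)
  · rw [pow_add, pow_add, ← mul_assoc, ← mul_assoc]
    exact h8.trans (by gcongr; exact ww_le t n q (wf_iff hw).1)
  · ring

theorem Wit.okG_sound (w : Wit t n q p T G c d o A e g) (R : Rp0 t n q p T N G c d) (hp : e.r = p) (hs : e.sc = true)
    (h : okG t n q (T * zz t q ^ 3) o A e = true) : G := by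
  obtain ⟨h1, h2, h3⟩ := w.grn hp hs
  simp only [okG, Bool.or_eq_true, Bool.and_eq_true, Nat.ble_eq, Nat.beq_eq] at h
  rcases h with (h | h) | h
  · have := h1 (by cases t <;> first | rfl | exact absurd h.1 Bool.false_ne_true)
    omega
  · exact w.cri.two R.zz_pos h2 h
  · exact w.cri.one R.zz_pos one_pos (by rw [mul_one]; exact h3 h.1) h.2

theorem Wit.okGu_sound (w : Wit t n q p T G c d o A e g) (R : Rp0 t n q p T N G c d) (hp : e.r = p) (hs : e.sc = true)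
    (h0 : 2 ≤ q0) (hq : q0 ≤ q) (h : okGu t n q0 o A e = true) : G := by
  refine w.okG_sound R hp hs ?_
  simp only [okG, okGu, Bool.or_eq_true, Bool.and_eq_true, Nat.ble_eq, Nat.beq_eq] at h ⊢
  refine h.imp (Or.imp_right fun h => ?_) fun h => ⟨h.1.1, ?_⟩
  · exact le_of_eq_of_le (by ring) (unif2 hq (low_W R.dim R.ord h0 hq) (lD_pos R.dim h0) h.1 h.2)
  · refine le_trans ?_ (unif hq (low_W R.dim R.ord h0 hq) (lD_pos R.dim h0) h.1.2 h.2)
    calc _ ≤ (gK t (n / e.r) (n % e.r) * q ^ gE t (n / e.r) (n % e.r) (dG n e.r) * e.al) ^ 3 * e.be o A := by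
          gcongr; exact gB_le (by omega) _ _ _ _
      _ = _ := by ring

variable {lb : ℕ → ℕ} {sk : Kd → ℕ → ℕ → Bool} {els : List El}

theorem Rp0.uni_sound (R : Rp0 t n q p T N G c d) (hA : Nat.card (MulAut N) ≤ A) (hD : ∃ g, d g ≤ D) (hlb : lb p ≤ n)
    (he : ∀ e ∈ els, e.wf o = true ∧ ∃ g, Wit t n q p T G c d o A e g) (h0 : 2 ≤ q0) (hq : q0 ≤ q)
    (h : uni t n q0 o A lb D els = true) : G := by
  simp only [uni, frc_eq, Bool.or_eq_true, Bool.and_eq_true, List.any_eq_true, Nat.blt_eq, nbeq] at h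
  rcases h with h | ⟨e, h1, h2, h3⟩
  · exact R.okCu_sound hA hD h0 hq h
  obtain ⟨hw, g, w⟩ := he e h1
  by_cases hp : e.r = p
  swap
  · exact w.okPu_sound R hw hp h0 hq h2
  have h4 : max q0 e.r ≤ q := max_le hq (by
    obtain ⟨f, hf, rfl⟩ := R.pow
    exact hp ▸ Nat.le_self_pow hf.ne' _)
  have h5 : 2 ≤ max q0 e.r := h0.trans (le_max_left _ _)
  rcases h3 with ((h3 | h3) | h3) | ⟨e', h6, h7, h8⟩
  · exact absurd (hp ▸ hlb) (not_le.2 h3)
  · exact R.okCu_sound hA hD h5 h4 h3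
  · exact w.okGu_sound R hp h3.1 h5 h4 h3.2
  · obtain ⟨hw', g', w'⟩ := he e' h6
    exact w'.okPu_sound R hw' (hp ▸ h7) h5 h4 h8

theorem Rp0.exq_sound (R : Rp0 t n q p T N G c d) (ho : Nat.card N = o) (hA : Nat.card (MulAut N) ≤ A) (hD : ∃ g, d g ≤ D)
    (hlb : lb p ≤ n) (hsk : sk t n q = false) (he : ∀ e ∈ els, e.wf o = true ∧ ∃ g, Wit t n q p T G c d o A e g)
    (h : exq t n q o A lb sk D els = true) : G := by
  obtain ⟨f, hf, hq⟩ := R.pow
  have h1 : mf q = p := hq ▸ mf_eq R.prime hf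
  have h2 : tI t n q / oD t n q = T := by rw [tI_eq, ← R.ord, Nat.mul_div_cancel_left _ (oD_pos R.two_le)]
  simp only [exq, frc_eq, h1, h2, hsk, Bool.or_eq_true, Bool.and_eq_true, List.any_eq_true, Nat.blt_eq, nbeq, Nat.beq_eq] at h
  rcases h with (((h | h) | h) | h) | h | h | ⟨e, h3, h4⟩
  · refine absurd (Nat.mod_eq_zero_of_dvd ?_) h
    calc q = p ^ f := hq
      _ ∣ p ^ q := pow_dvd_pow p (hq ▸ (Nat.lt_pow_self R.prime.one_lt).le)
  · exact absurd hlb (not_le.2 h)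
  · have h3 := R.dim
    cases t <;> first | exact absurd h.1 Bool.false_ne_true | exact absurd h3.2.2 (by omega)
  · exact absurd h Bool.false_ne_true
  · exact absurd (Nat.mod_eq_zero_of_dvd (ho ▸ R.dvd)) h
  · exact R.okC_sound hA hD h
  · obtain ⟨hw, g, w⟩ := he e h3
    by_cases hp : e.r = p
    · rw [show Nat.beq e.r p = true from Nat.beq_eq ▸ hp, cond_true, Bool.and_eq_true] at h4
      exact w.okG_sound R hp h4.1 h4.2
    · rw [show Nat.beq e.r p = false from by rw [← Bool.not_eq_true, Nat.beq_eq]; exact hp, cond_false] at h4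
      exact w.okP_sound R hw hp h4

theorem dimB_of (h : dimOk t n q) : dimB t n = true := by
  cases t <;> simp only [dimB, Bool.and_eq_true, Nat.ble_eq, Nat.beq_eq] <;> first | exact h | exact ⟨h.1, h.2.1⟩

/-- **the sieve** -/
theorem Rp.sieve [Finite N] [IsSimpleGroup N] (R : Rp t n q p T N G c d) (hna : ¬ IsMulCommutative N) {lo ta tb : ℕ}
    (ho : Nat.card N = o) (hA : Nat.card (MulAut N) ≤ A) (hlo : lo ≤ n) (hlb : lb p ≤ n) (hsk : sk t n q = false)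
    (ht : ta ≠ 0 → ∃ c, Tri N ta tb c) (he : ∀ e ∈ els, e.Ok N) (h : chk o A lo lb sk ta tb els = true) : G := by
  rw [chk, Bool.and_eq_true, Bool.and_eq_true, List.all_eq_true] at h
  obtain ⟨⟨h1, h2⟩, h3⟩ := h
  rcases allU_sound h3 hlo with h4 | ⟨j, -, h4, h5⟩
  · have h5 : chkT t n o A lb sk (Dc n ta tb) els = true := by
      simp only [frc_eq, chkN, Bool.and_eq_true] at h4
      cases t
      exacts [h4.1.1.1.1.1, h4.1.1.1.1.2, h4.1.1.1.2, h4.1.1.2, h4.1.2, h4.2]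
    have hD : ∃ g, d g ≤ Dc n ta tb := by
      obtain ⟨g, hg⟩ := R.exists_small hna
      rw [Dc]
      by_cases h0 : ta = 0
      · subst h0
        exact ⟨g, hg⟩
      · rw [show Nat.beq ta 0 = false from by rw [← Bool.not_eq_true, Nat.beq_eq]; exact h0, cond_false]
        obtain ⟨_, x, y, hx, hy, -, hxy⟩ := ht h0
        rcases le_total (n ^ 2 / 4 + 1) (Dab n ta tb) with h6 | h6
        · exact ⟨g, by rwa [min_eq_left h6]⟩
        · exact ⟨x * y, by rw [min_eq_right h6]; exact R.le_Dab h2 h0 hx hy hxy⟩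
    have hw := fun e (h6 : e ∈ els) => And.intro (h1 e h6) (R.wit ho hA (h1 e h6) (he e h6))
    rw [chkT, dimB_of R.dim, Bool.not_true, Bool.false_or] at h5
    rcases allU_sound h5 R.two_le with h6 | ⟨q0, h6, h7, h8⟩
    · exact R.exq_sound ho hA hD hlb hsk hw h6
    · exact R.uni_sound hA hD hlb hw h6 h7 (Bool.and_eq_true _ _ ▸ h8).2
  · rw [Bool.or_eq_true, Nat.blt_eq, Nat.ble_eq] at h5
    rcases h5 with h5 | h5
    · exact absurd ((Nat.pow_le_pow_left h4 2).trans (ho ▸ R.sq)) (not_le.2 h5)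
    · refine R.generic hna ?_
      calc 64 * Nat.card (MulAut N) ^ 2 ≤ 64 * A ^ 2 := by gcongr
        _ ≤ 2 ^ Gn.EO j := h5
        _ ≤ 2 ^ Gn.EO n := Nat.pow_le_pow_right two_pos (Gn.EO_mono h4)
        _ ≤ _ := Nat.pow_le_pow_left R.two_le _

end Cfsg.Agent.N2C.RX
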