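import Cfsg.Agent.N2.Cl.SzG.Scott

/-!
# N2 (S3519), class S: two general lemmas for `Rp0` (helper30)

* `lowM` : a matrix annihilated by a monic polynomial of degree `a` has a commutant of dimension at least `n² / a`;
* `card_ord_mul_le` : the number of elements of order `r` if the Sylow `r`-subgroups have order `r`.
-/

set_option autoImplicit false
set_option linter.unusedSectionVars false
set_option maxHeartbeats 200000

namespace Cfsg.Agent.N2C.RX.R0

open Module Subgroup Polynomial
open Cfsg.Agent.N2C.SzG (cA toE cA_congr)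

section lin

variable {L : Type} [Field L]

/-- the commutant as a subspace -/
def Cm {V : Type} [AddCommGroup V] [Module L V] (T : End L V) : Submodule L (End L V) :=
  LinearMap.ker (LinearMap.mulLeft L T - LinearMap.mulRight L T)

theorem mem_Cm {V : Type} [AddCommGroup V] [Module L V] {T x : End L V} : x ∈ Cm T ↔ T * x = x * T := sub_eq_zero

theorem step {V : Type} [AddCommGroup V] [Module L V] [FiniteDimensional L V] (T : End L V) (c : L) (W : Submodule L V)
    (hW : ∀ v, T v - c • v ∈ W) (hT : ∀ w ∈ W, T w ∈ W) :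
    finrank L (Cm (T.restrict hT)) + (finrank L V - finrank L W) ^ 2 ≤ finrank L (Cm T) := by
  obtain ⟨W', hc⟩ := W.exists_isCompl
  let ι : (W →ₗ[L] W) →ₗ[L] (W →ₗ[L] V) := LinearMap.llcomp L W W V W.subtype
  let Φ : (Cm (T.restrict hT) × (W' →ₗ[L] V)) →ₗ[L] End L V :=
    LinearMap.ofIsComplProd hc ∘ₗ (ι ∘ₗ (Cm (T.restrict hT)).subtype).prodMap LinearMap.id
  have h1 : ∀ y (w : W), Φ y w = (y.1.1 w : V) := fun y w => LinearMap.ofIsCompl_apply_left hc w
  have h2 : ∀ y (w : W'), Φ y w = y.2 w := fun y w => LinearMap.ofIsCompl_apply_right hc w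
  have hinj : Function.Injective Φ := fun y z e => Prod.ext
    (Subtype.ext (LinearMap.ext fun w => Subtype.ext (by rw [← h1, ← h1, e]))) (LinearMap.ext fun w => by rw [← h2, ← h2, e])
  let Ψ : (Cm (T.restrict hT) × (W' →ₗ[L] V)) →ₗ[L] (W' →ₗ[L] V) :=
    LinearMap.lcomp L V W'.subtype ∘ₗ (LinearMap.mulLeft L T - LinearMap.mulRight L T) ∘ₗ Φ
  have h3 : ∀ y (w : W'), Ψ y w = T (Φ y w) - Φ y (T w) := fun _ _ => rfl
  have h4 : (LinearMap.ker Ψ).map Φ ≤ Cm T := by
    rintro _ ⟨y, hy, rfl⟩
    refine mem_Cm.2 (LinearMap.ext_on_codisjoint hc.codisjoint (fun w hw => ?_) fun w hw => ?_)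
    · have h5 := congrArg Subtype.val (LinearMap.congr_fun (mem_Cm.1 y.1.2) ⟨w, hw⟩)
      rw [End.mul_apply, End.mul_apply, h1 y ⟨w, hw⟩, h1 y ⟨T w, hT w hw⟩]
      exact h5
    · have h5 := LinearMap.congr_fun (LinearMap.mem_ker.1 hy) ⟨w, hw⟩
      rw [h3] at h5
      exact sub_eq_zero.1 h5
  let ι' : (W' →ₗ[L] W) →ₗ[L] (W' →ₗ[L] V) := LinearMap.llcomp L W' W V W.subtype
  have h5 : LinearMap.range Ψ ≤ LinearMap.range ι' := by
    rintro _ ⟨y, rfl⟩
    refine ⟨(Ψ y).codRestrict W fun w => ?_, rfl⟩
    have e : Ψ y w = (T (Φ y w) - c • Φ y w) - Φ y (T w - c • w) := by rw [h3, map_sub, map_smul]; abel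
    rw [e, h1 y ⟨_, hW w⟩]
    exact W.sub_mem (hW _) (Subtype.property _)
  have h6 := Submodule.finrank_mono h4
  rw [← (Submodule.equivMapOfInjective Φ hinj _).finrank_eq] at h6
  have h7 := (Submodule.finrank_mono h5).trans (LinearMap.finrank_range_le _)
  have h8 := LinearMap.finrank_range_add_finrank_ker (K := L) (V := Cm (T.restrict hT) × (W' →ₗ[L] V)) (V₂ := W' →ₗ[L] V) Ψ
  have h9 := Submodule.finrank_add_eq_of_isCompl hc
  have : Module.Free L (Cm (T.restrict hT)) := Module.Free.of_divisionRing L (Cm (T.restrict hT))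
  rw [finrank_prod, finrank_linearMap] at h8
  rw [finrank_linearMap] at h7
  rw [← h9, Nat.add_sub_cancel_left]
  rw [← h9, mul_add] at h8
  nlinarith

theorem restr {V : Type} [AddCommGroup V] [Module L V] (T : End L V) {W : Submodule L V} (hT : ∀ w ∈ W, T w ∈ W) (l : List L)
    (w : W) : ((l.map fun c => (T.restrict hT - c • 1 : End L W)).prod w : V) = (l.map fun c => T - c • 1).prod w := by
  induction l with
  | nil => rfl
  | cons c l ih =>
    rw [List.map_cons, List.map_cons, List.prod_cons, List.prod_cons, End.mul_apply, End.mul_apply, ← ih]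
    rfl

theorem low_list (l : List L) : ∀ (V : Type) [AddCommGroup V] [Module L V] [FiniteDimensional L V] (T : End L V),
    (l.map fun c => T - c • 1).prod = 0 → finrank L V ^ 2 ≤ l.length * finrank L (Cm T) := by
  induction l using List.reverseRecOn with
  | nil =>
    intro V _ _ _ T h
    have : Subsingleton V := ⟨fun a b => (LinearMap.congr_fun h a).trans (LinearMap.congr_fun h b).symm⟩
    simp [finrank_zero_of_subsingleton]
  | append_singleton l c ih =>
    intro V _ _ _ T h
    rw [List.map_append, List.prod_append, List.map_singleton, List.prod_singleton] at h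
    have hT : ∀ w ∈ LinearMap.range (T - c • 1), T w ∈ LinearMap.range (T - c • 1) := by
      rintro _ ⟨v, rfl⟩
      exact ⟨T v, by simp⟩
    have h1 := ih _ (T.restrict hT) (LinearMap.ext fun w => Subtype.ext (by
      obtain ⟨_, v, rfl⟩ := w
      rw [restr]
      exact LinearMap.congr_fun h v))
    have h2 := step T c (LinearMap.range (T - c • 1)) (fun v => ⟨v, rfl⟩) hT
    obtain ⟨m, hm⟩ := Nat.exists_eq_add_of_le (Submodule.finrank_le (LinearMap.range (T - c • 1)))
    rw [hm, Nat.add_sub_cancel_left] at h2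
    rw [hm, List.length_append, List.length_singleton]
    generalize finrank L (LinearMap.range (T - c • 1)) = k at h1 h2 ⊢
    generalize finrank L (Cm (T.restrict hT)) = x at h1 h2
    generalize finrank L (Cm T) = y at h2 ⊢
    generalize l.length = b at h1 ⊢
    rcases Nat.eq_zero_or_pos b with rfl | hb
    · obtain rfl : k = 0 := by simpa using h1
      simpa using le_trans (Nat.le_add_left _ _) h2
    · refine Nat.le_of_mul_le_mul_left ?_ hb
      have h3 : (b + 1) * k ^ 2 ≤ (b + 1) * (b * x) := Nat.mul_le_mul_left _ h1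
      have h4 : b * (b + 1) * (x + m ^ 2) ≤ b * (b + 1) * y := Nat.mul_le_mul_left _ h2
      have h5 : 2 * (b * m * k) ≤ k ^ 2 + (b * m) ^ 2 := by
        zify
        nlinarith [sq_nonneg ((k : ℤ) - b * m)]
      nlinarith

theorem low_split [Finite L] {n : ℕ} (M : Matrix (Fin n) (Fin n) L) {f : L[X]} (hf : f.Monic) (hs : f.Splits)
    (h : aeval M f = 0) : Nat.card L ^ n ^ 2 ≤ cA M ^ f.natDegree := by
  obtain ⟨l, hl⟩ := Quotient.exists_rep f.roots
  have h1 := low_list l (Fin n → L) (toE L n M) (by
    have h2 := congrArg (toE L n) h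
    rw [hs.eq_prod_roots_of_monic hf, ← hl, Multiset.quot_mk_to_coe, Multiset.map_coe, Multiset.prod_coe, map_list_prod,
      map_list_prod, map_zero, List.map_map, List.map_map] at h2
    rw [← h2]
    refine congrArg List.prod (List.map_congr_left fun c _ => ?_)
    simp only [Function.comp_apply, map_sub, aeval_X, aeval_C, Algebra.algebraMap_eq_smul_one]
    exact congrArg _ ((map_smul (Matrix.toLinAlgEquiv' (R := L) (n := Fin n)) c 1).trans (by rw [map_one])).symm)
  have h2 : cA M = Nat.card L ^ finrank L (Cm (toE L n M)) := by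
    rw [← cA_congr (toE L n), ← natCard_eq_pow_finrank (K := L) (V := Cm (toE L n M))]
    exact Nat.card_congr (Equiv.subtypeEquivRight fun a => mem_Cm.symm)
  rw [h2, ← pow_mul, hs.natDegree_eq_card_roots, ← hl, mul_comm]
  rw [finrank_fin_fun] at h1
  exact Nat.pow_le_pow_right Nat.card_pos h1

theorem cA_map_le {K : Type} [Field K] [Finite K] [Algebra K L] [FiniteDimensional K L] {n : ℕ}
    (M : Matrix (Fin n) (Fin n) K) : cA (M.map (algebraMap K L)) ≤ cA M ^ finrank K L := by
  let b := finBasis K L
  have e : Nat.card (Fin (finrank K L) → {a // M * a = a * M}) = cA M ^ finrank K L := by rw [Nat.card_fun, Nat.card_fin, cA]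
  rw [← e]
  refine Nat.card_le_card_of_injective (fun x s => ⟨x.1.map (b.coord s), Matrix.ext fun i j => ?_⟩) fun x y e =>
    Subtype.ext (Matrix.ext fun i j => b.ext_elem fun s => ?_)
  · have h1 := congrArg (fun z => b.coord s (z i j)) x.2
    simp only [Matrix.mul_apply, map_sum, Matrix.map_apply, ← Algebra.smul_def, map_smul, smul_eq_mul,
      mul_comm _ (algebraMap K L _)] at h1 ⊢
    simpa only [mul_comm] using h1
  · exact congrFun (congrFun (congrArg Subtype.val (congrFun e s)) i) j

/-- **the commutant of a matrix annihilated by a polynomial of small degree is large** -/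
theorem lowM {K : Type} [Field K] [Finite K] {n : ℕ} (M : Matrix (Fin n) (Fin n) K) {f : K[X]} (hf : f.Monic)
    (h : aeval M f = 0) : Nat.card K ^ n ^ 2 ≤ cA M ^ f.natDegree := by
  have h1 := low_split (M.map (algebraMap K f.SplittingField)) (hf.map (algebraMap K f.SplittingField))
    (SplittingField.splits f) (by
      rw [aeval_map_algebraMap]
      exact (aeval_algHom_apply ((Algebra.ofId K f.SplittingField).mapMatrix) M f).trans (by rw [h, map_zero]))
  rw [hf.natDegree_map, natCard_eq_pow_finrank (K := K), ← pow_mul, mul_comm, pow_mul] at h1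
  have h2 := h1.trans (Nat.pow_le_pow_left (cA_map_le M) _)
  rw [← pow_mul (cA M), mul_comm, pow_mul] at h2
  exact (Nat.pow_le_pow_iff_left finrank_pos.ne').1 h2

end lin

/-- the number of elements of order `r` if `r²` does not divide the order -/
theorem card_ord_mul_le {N : Type*} [Group N] [Finite N] {g : N} {r : ℕ} (hr : r.Prime) (hg : orderOf g = r)
    (h2 : ¬ r ^ 2 ∣ Nat.card N) :
    Nat.card {x : N // orderOf x = r} * Nat.card (normalizer (zpowers g : Set N)) ≤ (r - 1) * Nat.card N := by
  classical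
  have : Fact r.Prime := ⟨hr⟩
  have hp : ∀ {x : N}, orderOf x = r → IsPGroup r (zpowers x) := fun hx =>
    IsPGroup.of_card (n := 1) (by rw [Nat.card_zpowers, hx, pow_one])
  let P : Sylow r N := (hp hg).toSylow fun h => h2 (by
    rw [← (zpowers g).card_mul_index, Nat.card_zpowers, hg, sq]
    exact Nat.mul_dvd_mul_left _ h)
  have h1 : Nat.card (Sylow r N) = (normalizer (zpowers g : Set N)).index := P.card_eq_index_normalizer
  have h3 : ∀ Q : Sylow r N, Nat.card {x : Q // x ≠ 1} = r - 1 := fun Q => by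
    have := Fintype.ofFinite Q
    have h4 : Nat.card Q = r := (Nat.card_congr (Sylow.equiv Q P).toEquiv).trans ((Nat.card_zpowers g).trans hg)
    refine Eq.trans ?_ (congrArg (· - 1) h4)
    rw [Nat.card_eq_fintype_card, Nat.card_eq_fintype_card]
    exact Set.card_ne_eq 1
  choose Q hQ using fun x : {x : N // orderOf x = r} => (hp x.2).exists_le_sylow
  have h4 : Nat.card {x : N // orderOf x = r} ≤ Nat.card (Σ Q : Sylow r N, {x : Q // x ≠ 1}) :=
    Nat.card_le_card_of_injective (fun x => ⟨Q x, ⟨x.1, hQ x (mem_zpowers _)⟩, fun e => hr.one_lt.ne'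
      (by rw [← x.2, show x.1 = 1 from congrArg Subtype.val e, orderOf_one])⟩)
      fun x y e => Subtype.ext (congrArg (fun z : Σ Q : Sylow r N, {x : Q // x ≠ 1} => (z.2.1 : N)) e)
  have := Fintype.ofFinite (Sylow r N)
  rw [Nat.card_sigma, Finset.sum_congr rfl fun Q _ => h3 Q, Finset.sum_const, Finset.card_univ, smul_eq_mul,
    ← Nat.card_eq_fintype_card, h1] at h4
  rw [← (normalizer (zpowers g : Set N)).index_mul_card, ← mul_assoc, mul_comm (r - 1)]
  exact Nat.mul_le_mul_right _ h4

end Cfsg.Agent.N2C.RX.R0
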