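import Cfsg.Agent.N2.Cl.RX.Defs
import Cfsg.Agent.N2.Cl.RX.Rp0A
import Cfsg.Agent.N2.Cl.Res.Kinds

/-!
# N2 (S3519), class S: `boxRp0` (helper30)

`R0.dd_spec` : `dd N g` is the dimension of the commutant of a lift of `g`; `R0.rp0_of` : the part without forms.
-/

set_option autoImplicit false
set_option linter.unusedSectionVars false
set_option maxHeartbeats 200000

namespace Cfsg.Agent.N2C.RX

open Cfsg Cfsg.Geo Subgroup Module Matrix Cfsg.Agent.DS.Cl Cfsg.Agent.DS.Cl.Fwd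
open Cfsg.Agent.N2C.Cyc hiding cA
open Cfsg.Agent.N2C.Res (Rep repL repH)
open Cfsg.Agent.N2C.SzG (cA)
open Cfsg.Agent.TH.Cl (KL KU KSp KO)

namespace R0

section rings

variable {E E' : Type} [Ring E] [Ring E']

theorem cA_prod (a : E) (b : E') : cA ((a, b) : E × E') = cA a * cA b := by
  rw [cA, cA, cA, ← Nat.card_prod]
  exact Nat.card_congr ⟨fun x => (⟨x.1.1, congrArg Prod.fst x.2⟩, ⟨x.1.2, congrArg Prod.snd x.2⟩),
    fun y => ⟨(y.1.1, y.2.1), Prod.ext y.1.2 y.2.2⟩, fun _ => rfl, fun _ => rfl⟩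

theorem cA_inv (u : Eˣ) : cA ((u⁻¹ : Eˣ) : E) = cA (u : E) :=
  Nat.card_congr (Equiv.subtypeEquivRight fun _ =>
    ⟨fun h => Commute.units_inv_left (u := u⁻¹) h, fun h => Commute.units_inv_left h⟩)

theorem card_cen_prod : Nat.card (Subring.center (E × E')) = Nat.card (Subring.center E) * Nat.card (Subring.center E') := by
  rw [← Nat.card_prod]
  exact Nat.card_congr ⟨fun x => (⟨x.1.1, Subring.mem_center_iff.2 fun g => congrArg Prod.fst (Subring.mem_center_iff.1 x.2 (g, 0))⟩,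
      ⟨x.1.2, Subring.mem_center_iff.2 fun g => congrArg Prod.snd (Subring.mem_center_iff.1 x.2 (0, g))⟩),
    fun y => ⟨(y.1.1, y.2.1), Subring.mem_center_iff.2 fun g =>
      Prod.ext (Subring.mem_center_iff.1 y.1.2 g.1) (Subring.mem_center_iff.1 y.2.2 g.2)⟩, fun _ => rfl, fun _ => rfl⟩

variable {K : Type} [Field K] {n : ℕ}

theorem cA_transpose (M : Matrix (Fin n) (Fin n) K) : cA Mᵀ = cA M :=
  Nat.card_congr ⟨fun x => ⟨x.1ᵀ, by simpa using (congrArg Matrix.transpose x.2).symm⟩,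
    fun x => ⟨x.1ᵀ, by simpa using (congrArg Matrix.transpose x.2).symm⟩, fun _ => rfl, fun _ => rfl⟩

theorem card_cen_mat (hn : 0 < n) : Nat.card (Subring.center (Matrix (Fin n) (Fin n) K)) = Nat.card K := by
  have : Nonempty (Fin n) := ⟨⟨0, hn⟩⟩
  refine (Nat.card_eq_of_bijective (fun c : K => (⟨Matrix.scalar (Fin n) c, Subring.mem_center_iff.2 fun g =>
    (Matrix.scalar_commute c (fun _ => .all _ _) g).symm⟩ : Subring.center (Matrix (Fin n) (Fin n) K)))
    ⟨fun _ _ e => Matrix.scalar_inj.1 (Subtype.mk.inj e), fun z => ?_⟩).symm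
  have h1 : z.1 ∈ Set.center (Matrix (Fin n) (Fin n) K) := z.2
  rw [Matrix.center_eq_range] at h1
  exact h1.imp fun c hc => Subtype.ext hc

variable (n K) in
/-- the scalar matrices -/
def sc : Kˣ →* GL (Fin n) K := Units.map (Matrix.scalar (Fin n) : K →+* Matrix (Fin n) (Fin n) K).toMonoidHom

theorem sc_inj (hn : 0 < n) : Function.Injective (sc K n) := fun _ _ e =>
  have : Nonempty (Fin n) := ⟨⟨0, hn⟩⟩
  Units.ext (Matrix.scalar_inj.1 (congrArg Units.val e))

theorem det_sc (c : Kˣ) : Matrix.GeneralLinearGroup.det (sc K n c) = c ^ n :=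
  Units.ext (show (Matrix.scalar (Fin n) (c : K)).det = _ by simp)

end rings

section gen

variable {A : Type} [Ring A] [StarRing A] [Finite A] {F : FR A} {H N : Subgroup (RingAut A)} {p : ℕ}

theorem cc_eq (g : N) (hg : (g : RingAut A) ∈ F.S) : N2.cn (⟨g, hg⟩ : F.S) = cc F N g :=
  Nat.card_congr ⟨fun x => ⟨x.1, mem_centralizer_singleton_iff.2 (congrArg Subtype.val (mem_centralizer_singleton_iff.1 x.2)), x.1.2⟩,
    fun y => ⟨⟨y.1, y.2.2⟩, mem_centralizer_singleton_iff.2 (Subtype.ext (mem_centralizer_singleton_iff.1 y.2.1))⟩,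
    fun _ => rfl, fun _ => rfl⟩

theorem good1 (r : Res F H N) (g : N) (h : cc F N g ^ 3 * Nat.card (MulAut N) ≤ Nat.card F.S) : Gd F H :=
  Res.gd_of_cn r (a := ⟨g, Res.le_S r g.2⟩) (Res.le_H r g.2) (cc_eq g _).le h

theorem good2 (r : Res F H N) (g : N) {s : ℕ} (hs : s.Prime) (hg : orderOf g = s) (h2 : ¬ s ^ 2 ∣ Nat.card (MulAut N))
    (h : (cc F N g * (s - 1)) ^ 3 * Nat.card N ≤ Nat.card F.S * Nat.card (normalizer (zpowers g : Set N)) ^ 3) : Gd F H := by
  have := finAut (A := A)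
  let a : F.S := ⟨g, Res.le_S r g.2⟩
  let B := H.subgroupOf F.S
  let f : B →* RingAut A := F.S.subtype.comp B.subtype
  have hB : ¬ s ^ 2 ∣ Nat.card B := fun k => h2 (k.trans (Res.card_B_dvd_aut r))
  have hN : (N.comap f).Normal := ⟨fun x hx b => r.nrm _ b.2 _ hx⟩
  have hi : (N.comap f).index.gcd s = 1 := (Nat.coprime_comm.1 ((Nat.Prime.coprime_iff_not_dvd hs).2 fun k => hB (by
    rw [← (N.comap f).index_mul_card, sq]
    refine Nat.mul_dvd_mul k ?_
    have h3 := orderOf_dvd_natCard (⟨⟨a, Res.le_H r g.2⟩, g.2⟩ : N.comap f)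
    rw [← orderOf_injective (f.comp (N.comap f).subtype) fun _ _ e => Subtype.ext (Subtype.ext (Subtype.ext e))] at h3
    exact ((orderOf_coe g).trans hg).symm.dvd.trans h3)))
  have ho : ∀ x : F.S, IsConj a x → orderOf (x : RingAut A) = s := fun x hx => by
    obtain ⟨v, rfl⟩ := isConj_iff.1 hx
    rw [orderOf_coe, show v * a * v⁻¹ = MulAut.conj v a from rfl, MulEquiv.orderOf_eq, ← orderOf_coe]
    exact (orderOf_coe g).trans hg
  have h3 : N2.cc B a ≤ Nat.card {x : N // orderOf x = s} := by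
    refine Nat.card_le_card_of_injective (fun x => ⟨⟨x.1, ?_⟩, (orderOf_coe _).symm.trans (ho _ x.2.1)⟩)
      fun x y e => Subtype.ext (Subtype.ext (congrArg (fun z => (z.1 : RingAut A)) e))
    have h4 : (⟨x.1, x.2.2⟩ : B) ∈ zpowers ((⟨x.1, x.2.2⟩ : B) ^ (N.comap f).index) := mem_zpowers_pow_iff.2 (by
      rw [← orderOf_coe, ← orderOf_coe, ho _ x.2.1, hi])
    exact zpowers_le.2 ((N.comap f).pow_index_mem _) h4
  have h4 := card_ord_mul_le hs hg fun k => hB (k.trans (Res.card_N_dvd_B r))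
  have h5 : Nat.card N ≤ Nat.card B := Nat.le_of_dvd Nat.card_pos (Res.card_N_dvd_B r)
  refine N2.good_of_cc (A := B) (a := a) (Res.le_H r g.2) (cc_eq g _).le h3
    (Nat.le_of_mul_le_mul_right ?_ (pow_pos (Nat.card_pos (α := normalizer (zpowers g : Set N))) 3))
  calc _ = cc F N g ^ 3 * (Nat.card {x : N // orderOf x = s} * Nat.card (normalizer (zpowers g : Set N))) ^ 3 := by ring
    _ ≤ cc F N g ^ 3 * ((s - 1) * Nat.card N) ^ 3 := by gcongr
    _ = (cc F N g * (s - 1)) ^ 3 * Nat.card N * Nat.card N ^ 2 := by ring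
    _ ≤ Nat.card F.S * Nat.card (normalizer (zpowers g : Set N)) ^ 3 * Nat.card B ^ 2 := by gcongr
    _ = _ := by ring

variable {K : Type} [Field K] [Fintype K] {n : ℕ} (R : Rep F K n)

/-- the centre and the commutants in `A` are powers of those for matrices -/
def DD : Prop := ∃ k, 0 < k ∧ Nat.card (Subring.center A) = Nat.card K ^ k ∧ ∀ u ∈ F.Iso, cA (u : A) = cA (R.ρ u) ^ k

variable {R}

/-- **`dd` is the dimension of the commutant of any lift** -/
theorem dd_spec (h : DD R) {u : Aˣ} (hu : u ∈ F.Iso) {g : N} (e : cj A u = g) : cA (R.ρ u) = Nat.card K ^ dd N g := by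
  obtain ⟨k, hk, h1, h2⟩ := h
  obtain ⟨d, hd⟩ : ∃ d, cA (R.ρ u) = Nat.card K ^ d := ⟨_, (SzG.cA_toU (R.gl u)).symm.trans (SzG.cA_eq _)⟩
  have h3 : Nat.card {x : A // (g : RingAut A) x = x} = cA (u : A) :=
    Nat.card_congr (Equiv.subtypeEquivRight fun x => by rw [← e]; exact Units.mul_inv_eq_iff_eq_mul u)
  rw [dd, h3, h2 u hu, hd, h1, ← pow_mul, mul_comm, pow_mul, Nat.log_pow (Nat.one_lt_pow hk.ne' Finite.one_lt_card)]

variable (R)

theorem exists_sc {z : Aˣ} (hz : z ∈ ZI F) : ∃ c, sc K n c = R.gl z :=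
  R.scalar_of_cen (Subring.mem_center_iff.2 fun x => (ZI_comm hz x).symm)

theorem det_I0 {u : Aˣ} (hu : u ∈ I0 F) : Matrix.GeneralLinearGroup.det (R.gl u) = 1 := by
  have h1 : I0 F ≤ (Matrix.GeneralLinearGroup.det.comp R.gl).ker := commutator_le.2 fun a _ b _ => by
    rw [MonoidHom.mem_ker, map_commutatorElement, commutatorElement_eq_one_iff_mul_comm, mul_comm]
  exact h1 hu

include R in
/-- the central isometries `z` such that `z u` is conjugate to `u` -/
theorem card_tw (u : Aˣ) {m : ℕ} (hz : ∀ z ∈ ZI F, z ^ m = 1) :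
    Nat.card {z : Aˣ // z ∈ ZI F ∧ ∃ v ∈ F.Iso, v * u = z * u * v} ≤ Nat.gcd n m := by
  refine le_trans ?_ (card_pow_eq_one_le K (Nat.gcd_pos_of_pos_left m R.pos))
  choose c hc using fun z : {z : Aˣ // z ∈ ZI F ∧ ∃ v ∈ F.Iso, v * u = z * u * v} => exists_sc R z.2.1
  refine Nat.card_le_card_of_injective (fun z => ⟨c z, pow_gcd_eq_one.2 ⟨?_, sc_inj R.pos ?_⟩⟩) fun z w e =>
    Subtype.ext (R.gl_inj z.2.1.1 w.2.1.1 (by rw [← hc, ← hc, Subtype.mk.inj e]))
  · obtain ⟨v, -, e⟩ := z.2.2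
    have h1 := congrArg (fun x => Matrix.GeneralLinearGroup.det (R.gl x)) e
    simp only [map_mul, ← hc, det_sc] at h1
    rw [mul_comm, mul_assoc] at h1
    exact (mul_eq_right.1 h1.symm)
  · rw [map_pow, hc, ← map_pow, hz _ z.2.1, map_one, map_one]

theorem cO_le {u : Aˣ} : cO F u ≤ cA (R.ρ u) :=
  Nat.card_le_card_of_injective (fun v => ⟨R.ρ v.1, by
    rw [← map_mul, ← map_mul]; exact congrArg (fun x : Aˣ => R.ρ x) v.2.2.symm⟩)
    fun v w e => Subtype.ext (R.gl_inj v.2.1 w.2.1 (Units.ext (Subtype.mk.inj e)))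

theorem card_scal (hs : F.Span) {m : ℕ} (hz : ∀ z ∈ ZI F, z ^ m = 1) :
    Nat.card ((scalars (Fin n) K).subgroupOf (R.P N)) ∣ Nat.gcd n m := by
  have h1 : IsCyclic (scalars (Fin n) K) := isCyclic_of_surjective _ (sc K n).rangeRestrict_surjective
  have h2 : IsCyclic ((scalars (Fin n) K).subgroupOf (R.P N)) :=
    isCyclic_of_injective (G' := scalars (Fin n) K)
      (((R.P N).subtype.comp (Subgroup.subtype _)).codRestrict _ fun x => x.2)
      fun _ _ e => Subtype.ext (Subtype.ext (Subtype.mk.inj e))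
  rw [← IsCyclic.exponent_eq_card]
  refine Monoid.exponent_dvd_of_forall_pow_eq_one ?_
  rintro ⟨⟨_, u, hu, rfl⟩, c, hc⟩
  have hu' := Res.lft_le_Iso F N hu
  refine Subtype.ext (Subtype.ext (show R.gl u ^ Nat.gcd n m = 1 from pow_gcd_eq_one.2 ⟨?_, ?_⟩))
  · have h3 : sc K n c = R.gl u := hc
    rw [← h3, ← map_pow, ← det_sc, h3, det_I0 R (Res.lft_le F N hu), map_one]
  · rw [← map_pow, hz u (mem_ZI hu' (R.cen_of_scalar hs hu' ⟨c, hc⟩)), map_one]

include R in
theorem sq_le (r : Res F H N) : n ^ 2 ≤ Nat.card N := by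
  have := finAut (A := A)
  have := Fintype.ofFinite N
  choose s hs e using fun x : N => Res.exists_lft r x.2
  have h1 := finrank_le_of_span_eq_top (R := K) (v := fun x => R.ρ (s x)) (eq_top_iff.2 fun M _ =>
    R.add_mat r (Submodule.span K (Set.range fun x => R.ρ (s x))).toAddSubgroup (by
      rintro _ ⟨u, hu, rfl⟩
      obtain ⟨z, hz, k⟩ := cj_eq_iff.1 (e ⟨_, Res.cj_mem hu⟩).symm
      obtain ⟨c, hc⟩ := (mem_scalars_iff _).1 (R.scalar_of_cen hz)
      rw [k, map_mul, Units.val_mul, hc, Matrix.mul_smul, mul_one]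
      exact Submodule.smul_mem _ _ (Submodule.subset_span ⟨_, rfl⟩)) M)
  rwa [Module.finrank_matrix, Fintype.card_fin, finrank_self, mul_one, ← sq, ← Nat.card_eq_fintype_card] at h1

variable {R}

theorem scott (r : Res F H N) (h : DD R) (x y : N) (e : closure ({x, y} : Set N) = ⊤) :
    dd N x + dd N y + dd N (x * y) ≤ n ^ 2 + 2 := by
  obtain ⟨u, hu, eu⟩ := Res.exists_lft r x.2
  obtain ⟨v, hv, ev⟩ := Res.exists_lft r y.2
  have h1 : SzG.Gen (u : A) v := SzG.gen_of_res r fun s hs => by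
    have h2 : (closure {x, y}).map N.subtype ≤ closure {cj A u, cj A v} := by
      rw [MonoidHom.map_closure, Set.image_pair, eu, ev]
      exact le_rfl
    exact h2 ⟨⟨s, hs⟩, e ▸ trivial, rfl⟩
  have h2 := SzG.scottM (x := R.gl u) (y := R.gl v) (h1.map R.ρ R.surj)
  rw [← map_mul, R.gl_val, R.gl_val, R.gl_val, dd_spec h (Res.lft_le_Iso F N hu) eu, dd_spec h (Res.lft_le_Iso F N hv) ev,
    dd_spec (g := x * y) h (Res.lft_le_Iso F N (mul_mem hu hv)) (by rw [map_mul, eu, ev]; rfl), ← pow_add, ← pow_add] at h2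
  exact (Nat.pow_le_pow_iff_right Finite.one_lt_card).1 h2

theorem low (r : Res F H N) (h : DD R) (x : N) {a : ℕ} (ha : 0 < a) (e : x ^ a = 1) : n ^ 2 ≤ a * dd N x := by
  obtain ⟨u, hu, eu⟩ := Res.exists_lft r x.2
  obtain ⟨c, hc⟩ := (mem_scalars_iff _).1 (R.scalar_of_cen (z := u ^ a) (DS.Cl.cj_eq_one_iff.1 (by
    rw [map_pow, eu]; exact congrArg Subtype.val e)))
  have h1 := lowM (R.ρ u) (Polynomial.monic_X_pow_sub_C (c : K) ha.ne') (by
    rw [map_sub, map_pow, Polynomial.aeval_X, Polynomial.aeval_C, Algebra.algebraMap_eq_smul_one, ← hc, map_pow,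
      Units.val_pow_eq_pow_val, R.gl_val, sub_self])
  rw [Polynomial.natDegree_X_pow_sub_C, dd_spec h (Res.lft_le_Iso F N hu) eu, ← pow_mul, mul_comm] at h1
  exact (Nat.pow_le_pow_iff_right Finite.one_lt_card).1 h1

/-- **the part without forms** -/
theorem rp0_of (c : Ctx F H p) (r : Res F H N) (h : DD R) {t : Kd} {q : ℕ} (hp : CharP K p) (hK : Fintype.card K = kq t q)
    (hd : dimOk t n q) (ho : oD t n q * Nat.card F.S = oI t n q) (hF : Frm (R.P N) t q)
    (hz : ∀ z ∈ ZI F, z ^ zz t q = 1) (hz' : zz t q ≤ Nat.card (ZI F))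
    (hs : ∀ u ∈ F.Iso, ∀ d, cA (R.ρ u) = Nat.card K ^ d → cO F u ^ 2 ≤ q ^ ec t n d) :
    Rp0 t n q p (Nat.card F.S) N (Gd F H) (cc F N) (dd N) where
  prime := c.prime
  pow := by
    obtain ⟨m, -, hm⟩ := FiniteField.card K p
    have h1 := Fintype.one_lt_card (α := K)
    obtain ⟨f, -, hf⟩ := (Nat.dvd_prime_pow c.prime).1 (show q ∣ p ^ (m : ℕ) by
      rw [← hm, hK]; cases t <;> simp [kq])
    refine ⟨f, Nat.pos_of_ne_zero fun e => ?_, hf⟩
    rw [hK, hf, e] at h1
    cases t <;> simp [kq] at h1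
  dim := hd
  ord := ho
  dvd := card_dvd_of_le (Res.le_S r)
  core := ⟨K, inferInstance, inferInstance, R.P N, hp, hK, R.core c.span r, (R.exists_soc c.span r).elim fun e _ => ⟨e⟩,
    card_scal R c.span hz, hF⟩
  sq := sq_le R r
  good1 := good1 r
  good2 := fun g _ => good2 r g
  scott := scott r h
  low := fun x _ ha _ => low r h x ha
  crude := fun g => by
    obtain ⟨u, hu, eu⟩ := Res.exists_lft r g.2
    have hu' := Res.lft_le_Iso F N hu
    have h1 := cn_mul_le (Res.lft_le F N hu) (card_tw R u hz)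
    rw [show el (Res.lft_le F N hu) = ⟨g, Res.le_S r g.2⟩ from Subtype.ext eu, cc_eq] at h1
    calc _ ≤ (Nat.gcd n (zz t q) * cO F u) ^ 2 := Nat.pow_le_pow_left ((Nat.mul_le_mul_left _ hz').trans h1) 2
      _ ≤ _ := by rw [mul_pow]; exact Nat.mul_le_mul_left _ (hs u hu' _ (dd_spec h hu' eu))

end gen

section kinds

variable {K : Type} [Field K] [Fintype K]

/-- linear groups -/
theorem dd_L {n : ℕ} (F : FR (LR (Fin n) K)) (hn : 0 < n) : DD (repL F hn) := by
  refine ⟨2, two_pos, (card_cen_prod (E := Matrix (Fin n) (Fin n) K) (E' := Matrix (Fin n) (Fin n) K)).trans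
    (by rw [card_cen_mat hn, sq]), fun u hu => ?_⟩
  obtain ⟨g, rfl⟩ := (LR.mem_gl u).2 hu.1
  exact (cA_prod (g : Matrix (Fin n) (Fin n) K) ((g⁻¹ : GL (Fin n) K) : Matrix (Fin n) (Fin n) K)ᵀ).trans
    (by rw [cA_transpose, cA_inv, sq]; rfl)

variable {V : Type} [AddCommGroup V] [Module K V] [Finite V] (h : HF K V) (F : FR h.EB) {n : ℕ} (b : Basis (Fin n) K V)
  (hn : 0 < n)

theorem cA_H (a : h.EB) : cA ((repH h F b hn).ρ a) = cA a :=
  SzG.cA_congr (RingEquiv.ofBijective _ (SB.Idem.piB_bij h b)) a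

/-- forms -/
theorem dd_H : DD (repH h F b hn) :=
  ⟨1, one_pos, (Nat.card_congr (Subring.centerCongr (RingEquiv.ofBijective _ (SB.Idem.piB_bij h b))).toEquiv).trans
    (by rw [card_cen_mat hn, pow_one]), fun u _ => by rw [cA_H, pow_one]⟩

theorem cO_H {u : h.EBˣ} (hu : u ∈ F.Iso) {d : ℕ} (hd : cA ((repH h F b hn).ρ u) = Nat.card K ^ d) :
    cO F u ^ 2 ≤ Fintype.card K ^ (d + n) := by
  have : Module.Finite K V := Module.Finite.of_finite
  have h1 := SzG.sizeG h F hu le_rfl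
  rw [cA_H] at hd
  rw [show Nat.card {x : h.EB // u * x = x * u} = Nat.card K ^ d from hd, natCard_eq_pow_finrank (K := K) (V := V),
    finrank_eq_card_basis b, Fintype.card_fin, ← pow_add, Nat.card_eq_fintype_card (α := K)] at h1
  exact le_trans (Nat.pow_le_pow_left (Nat.card_le_card_of_injective
    (fun v => ⟨v.1, mem_centralizer_singleton_iff.2 v.2.2, v.2.1⟩) fun _ _ e => Subtype.ext (congrArg (fun x => x.1) e)) 2) h1

variable {h F}

theorem two_ne {m : ℕ} (hm : Nat.gcd 2 (Fintype.card K - 1) = m) : m = 1 ∧ (2 : K) = 0 ∨ m = 2 ∧ (2 : K) ≠ 0 := by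
  have h1 := Fintype.one_lt_card (α := K)
  rcases Nat.even_or_odd' (Fintype.card K) with ⟨j, hj | hj⟩
  · refine Or.inl ⟨?_, ?_⟩
    · rw [← hm]
      exact Nat.coprime_two_left.2 ⟨j - 1, by omega⟩
    · have h2 := FiniteField.cast_card_eq_zero K
      by_contra h3
      have h4 := FiniteField.odd_card_of_char_ne_two (F := K) fun e => h3 (by
        have := ringChar.spec K 2
        rw [e] at this
        exact_mod_cast this.2 dvd_rfl)
      omega
  · refine Or.inr ⟨by rw [← hm]; exact Nat.gcd_eq_left ⟨j, by omega⟩, fun e => ?_⟩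
    have h2 := FiniteField.cast_card_eq_zero K
    rw [hj, Nat.cast_add, Nat.cast_mul, Nat.cast_ofNat, e, zero_mul, zero_add, Nat.cast_one] at h2
    exact one_ne_zero h2

theorem ZI_bil [Nontrivial V] (hτ : ∀ c, h.τ c = c) :
    (∀ z ∈ ZI F, z ^ Nat.gcd 2 (Fintype.card K - 1) = 1) ∧ Nat.gcd 2 (Fintype.card K - 1) ≤ Nat.card (ZI F) := by
  rcases two_ne (K := K) rfl with ⟨h1, h2⟩ | ⟨h1, h2⟩ <;> rw [h1]
  · refine ⟨fun z hz => ?_, Nat.card_pos⟩
    rcases ZI_cases hτ hz with rfl | rfl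
    · exact one_pow 1
    · refine (pow_one _).trans (Units.ext (h.ap_ext fun v => ?_))
      change -v = v
      rw [neg_eq_iff_add_eq_zero, ← two_smul K, h2, zero_smul]
  · exact ⟨fun z hz => ZI_pow_two hτ hz, card_ZI_two F h2⟩

end kinds

end R0

open R0

/-- **[Rp0]** -/
theorem boxRp0 : BoxRp0 := by
  refine ⟨fun K _ _ n F H N p k hn c r => ?_, fun K V _ _ _ _ _ h F q H N p k hn c r => ?_,
    fun K V _ _ _ _ _ h F j H N p k hj c r => ?_, fun K V _ _ _ _ _ h F Q H N p t k c r ht hd ho => ?_⟩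
  · have h0 : 0 < n := by omega
    refine rp0_of c r (dd_L F h0) (Res.charP_L h0 c) rfl hn ((mul_assoc _ _ _).trans (card_S_L k)) (Res.not_sd_L h0 r)
      (fun _ => ZI_pow_L) (card_ZI_L F h0) fun u _ d hd => ?_
    rw [ec, mul_comm, pow_mul, ← Nat.card_eq_fintype_card, ← hd]
    exact Nat.pow_le_pow_left (cO_le _) 2
  · have : Module.Finite K V := Module.Finite.of_finite
    have h0 : 0 < finrank K V := by omega
    let b := finBasis K V
    refine rp0_of c r (dd_H h F b h0) (Res.charP_H h F b h0 c) k.card hn ((mul_assoc _ _ _).trans (card_S_U k))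
      ⟨Res.cj_U F b h0 k.u k.card N, Res.not_sd_U b h0 k.u r⟩ (fun _ => ZI_pow_U k) (card_ZI_U k) fun u hu d hd => ?_
    rw [ec, pow_mul, ← k.card]
    exact cO_H h F b h0 hu hd
  · have : Module.Finite K V := Module.Finite.of_finite
    have h1 := k.dim
    have h0 : 0 < finrank K V := by omega
    have := nontrivial_of_dim h0
    let b := finBasis K V
    exact rp0_of c r (dd_H h F b h0) (Res.charP_H h F b h0 c) rfl ⟨by omega, by omega⟩
      (by rw [oD, oI, show finrank K V / 2 = j by omega]; exact card_S_Sp k)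
      ⟨Res.fixA b h0 k.sp N, Res.sd_H h F b h0 k.sp.1 N, Res.not_fixQ b h0 k.sp r⟩ (ZI_bil k.sp.1).1 (ZI_bil k.sp.1).2
      fun u hu d hd => cO_H h F b h0 hu hd
  · have : Module.Finite K V := Module.Finite.of_finite
    have h1 := k.dim
    have h0 : 0 < finrank K V := by omega
    have := nontrivial_of_dim h0
    let b := finBasis K V
    rcases ht with rfl | rfl | rfl <;>
      exact rp0_of c r (dd_H h F b h0) (Res.charP_H h F b h0 c) rfl hd ho ⟨Res.fixQ b h0 k.o N, Res.sd_H h F b h0 k.o.1 N⟩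
        (ZI_bil k.o.1).1 (ZI_bil k.o.1).2 fun u hu d hd => cO_H h F b h0 hu hd

end Cfsg.Agent.N2C.RX
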