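import Cfsg.Agent.N2.Cl.RX.Gen

/-!
# N2 (S3519), class S: orders of the classical groups, uniform bounds (helper85)
-/

set_option autoImplicit false

namespace Cfsg.Agent.N2C.RX

open Cfsg.Agent.N2C.Cyc

def gl (q : ℕ) : ℕ → ℕ
  | 0 => 1
  | n + 1 => gl q n * (q ^ n * (q ^ (n + 1) - 1))

def gu (q : ℕ) : ℕ → ℕ
  | 0 => 1
  | n + 1 => gu q n * (q ^ n * (bif Nat.beq (n % 2) 0 then q ^ (n + 1) + 1 else q ^ (n + 1) - 1))

def pp (q : ℕ) : ℕ → ℕ
  | 0 => 1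
  | n + 1 => pp q n * (q ^ (2 * (n + 1)) - 1)

theorem gl_eq (q n : ℕ) : gl q n = oGL n q := by
  induction n with
  | zero => simp [gl, oGL]
  | succ n ih => rw [gl, ih, oGL_succ]

theorem gu_eq (q n : ℕ) : gu q n = oGU n q := by
  induction n with
  | zero => simp [gu, oGU]
  | succ n ih =>
    rw [gu, ih, oGU_succ]
    rcases Nat.mod_two_eq_zero_or_one n with h | h
    · rw [h, if_pos (Nat.even_iff.2 h)]; rfl
    · rw [h, if_neg (by rw [Nat.even_iff]; omega)]; rfl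

theorem pp_eq (q n : ℕ) : pp q n = PP n q := by
  induction n with
  | zero => simp [pp, PP]
  | succ n ih => rw [pp, ih, PP_succ]

/-- `oI` -/
def tI : Kd → ℕ → ℕ → ℕ
  | .L, n, q => gl q n
  | .U, n, q => gu q n
  | .S, n, q => q ^ ((n / 2) ^ 2) * pp q (n / 2)
  | .O, n, q => q ^ ((n / 2) ^ 2) * pp q (n / 2)
  | .P, n, q => q ^ (n / 2 * (n / 2 - 1)) * (q ^ (n / 2) - 1) * pp q (n / 2 - 1)
  | .M, n, q => q ^ (n / 2 * (n / 2 - 1)) * (q ^ (n / 2) + 1) * pp q (n / 2 - 1)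

theorem tI_eq (t : Kd) (n q : ℕ) : tI t n q = oI t n q := by
  cases t <;> simp only [tI, oI, gl_eq, gu_eq, pp_eq, oSp, oP, oM]

/-- the dimension of the group plus three times the dimension of the centre -/
def dimE : Kd → ℕ → ℕ
  | .L, n => n ^ 2 + 2
  | .U, n => n ^ 2 + 2
  | .S, n => n * (n + 1) / 2
  | _, n => n * (n - 1) / 2

def lN : Kd → ℕ → ℕ
  | .L, q => (q - 1) ^ 3
  | .U, _ => 3
  | .O, _ => 8
  | _, _ => 5

def lD : Kd → ℕ → ℕ → ℕ
  | .L, n, q => 2 * n * q ^ 3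
  | .U, n, _ => 4 * n
  | .O, _, _ => 3
  | _, _, _ => 8

/-- a bound for `gcd n zz` -/
def wmax : Kd → ℕ → ℕ
  | .L, n => n
  | .U, n => n
  | .O, _ => 1
  | _, _ => 2

variable {t : Kd} {n q q0 T : ℕ}

theorem five_le (hd : dimOk t n q) : 5 ≤ n := by
  cases t <;> first | exact hd | exact le_trans (by norm_num) hd.1

theorem lD_pos (hd : dimOk t n q) (h0 : 2 ≤ q0) : 0 < lD t n q0 := by
  have := five_le hd
  have : 0 < q0 := by omega
  have : 0 < n := by omega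
  cases t <;> simp only [lD] <;> positivity

theorem oD_pos (hq : 2 ≤ q) : 0 < oD t n q := by
  cases t <;> simp only [oD]
  · exact Nat.mul_pos (Nat.gcd_pos_of_pos_right _ (by omega)) (by omega)
  · exact Nat.mul_pos (Nat.gcd_pos_of_pos_right _ (by omega)) (by omega)
  · exact Nat.gcd_pos_of_pos_left _ two_pos
  · exact two_pos
  · exact Nat.gcd_pos_of_pos_left _ four_pos
  · exact Nat.gcd_pos_of_pos_left _ four_pos

theorem gcd_le_wmax (hd : dimOk t n q) : Nat.gcd n (zz t q) ≤ wmax t n := by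
  have h5 := five_le hd
  have h2 : Nat.gcd n (Nat.gcd 2 (q - 1)) ∣ 2 := (Nat.gcd_dvd_right _ _).trans (Nat.gcd_dvd_left _ _)
  cases t
  · exact Nat.gcd_le_left _ (by omega)
  · exact Nat.gcd_le_left _ (by omega)
  · exact Nat.le_of_dvd two_pos h2
  · rcases (Nat.dvd_prime Nat.prime_two).1 h2 with h | h
    · exact h.le
    · have h3 : 2 ∣ n := h ▸ Nat.gcd_dvd_left _ _
      have := hd.2.1
      omega
  · exact Nat.le_of_dvd two_pos h2
  · exact Nat.le_of_dvd two_pos h2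

theorem gcd_four {x : ℕ} (hq : 2 ≤ q) (hx : q % 2 = 0 → x % 2 = 1) : Nat.gcd 4 x ≤ Nat.gcd 2 (q - 1) ^ 3 := by
  rcases Nat.mod_two_eq_zero_or_one q with h | h
  · have h1 : Nat.Coprime 2 x := (Nat.coprime_two_left).2 (Nat.odd_iff.2 (hx h))
    rw [show Nat.gcd 4 x = 1 from Nat.Coprime.pow_left 2 h1]
    exact Nat.pow_pos (Nat.gcd_pos_of_pos_left _ two_pos)
  · rw [Nat.gcd_eq_left (show 2 ∣ q - 1 by omega)]
    exact (Nat.gcd_le_left _ four_pos).trans (by norm_num)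

/-- **the uniform lower bound** -/
theorem low_W (hd : dimOk t n q) (ho : oD t n q * T = oI t n q) (h0 : 2 ≤ q0) (hq : q0 ≤ q) :
    lN t q0 * q ^ dimE t n ≤ lD t n q0 * (T * zz t q ^ 3) := by
  have h2 : 2 ≤ q := h0.trans hq
  have h5 := five_le hd
  have h25 : 25 ≤ n ^ 2 := Nat.pow_le_pow_left h5 2
  have ev : ∀ k, q % 2 = 0 → q ^ (k + 1) % 2 = 0 ∧ 0 < q ^ (k + 1) := fun k h =>
    ⟨Nat.even_iff.1 (Nat.even_pow.2 ⟨Nat.even_iff.2 h, by omega⟩), by positivity⟩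
  cases t with
  | L =>
    have h1 := oGL_ge' h2 (show 1 ≤ n by omega)
    have h3 : Nat.gcd n (q - 1) * (q - 1) * T = oGL n q := ho
    have h4 : q ^ (n ^ 2 - 1) ≤ 2 * n * T := Nat.le_of_mul_le_mul_left (by
      calc (q - 1) * q ^ (n ^ 2 - 1) ≤ 2 * (Nat.gcd n (q - 1) * (q - 1) * T) := h3 ▸ h1
        _ ≤ 2 * (n * (q - 1) * T) := by gcongr; exact Nat.gcd_le_left _ (by omega)
        _ = (q - 1) * (2 * n * T) := by ring) (show 0 < q - 1 by omega)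
    have h6 : (q0 - 1) * q ≤ q0 * (q - 1) := by
      rw [Nat.sub_mul, Nat.mul_sub, one_mul, mul_one]; omega
    calc (q0 - 1) ^ 3 * q ^ (n ^ 2 + 2) = ((q0 - 1) * q) ^ 3 * q ^ (n ^ 2 - 1) := by
          rw [show n ^ 2 + 2 = n ^ 2 - 1 + 3 by omega]; ring
      _ ≤ (q0 * (q - 1)) ^ 3 * (2 * n * T) := by gcongr
      _ = 2 * n * q0 ^ 3 * (T * (q - 1) ^ 3) := by ring
  | U =>
    have h1 := oGU_ge h2 (show 2 ≤ n by omega)
    have h3 : Nat.gcd n (q + 1) * (q + 1) * T = oGU n q := ho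
    have h4 : (q ^ 2 - 1) * q ^ (n ^ 2 - 3) ≤ n * T := Nat.le_of_mul_le_mul_left (by
      calc (q + 1) * ((q ^ 2 - 1) * q ^ (n ^ 2 - 3)) ≤ Nat.gcd n (q + 1) * (q + 1) * T := by rw [h3, ← mul_assoc]; exact h1
        _ ≤ n * (q + 1) * T := by gcongr; exact Nat.gcd_le_left _ (by omega)
        _ = (q + 1) * (n * T) := by ring) (show 0 < q + 1 by omega)
    have h6 : 3 * q ^ 2 ≤ 4 * (q ^ 2 - 1) := by have := Nat.pow_le_pow_left h2 2; omega
    calc 3 * q ^ (n ^ 2 + 2) = 3 * q ^ 2 * q ^ (n ^ 2 - 3) * q ^ 3 := by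
          rw [show n ^ 2 + 2 = n ^ 2 - 3 + 5 by omega]; ring
      _ ≤ 4 * (q ^ 2 - 1) * q ^ (n ^ 2 - 3) * (q + 1) ^ 3 := by gcongr; omega
      _ = 4 * ((q ^ 2 - 1) * q ^ (n ^ 2 - 3)) * (q + 1) ^ 3 := by ring
      _ ≤ 4 * (n * T) * (q + 1) ^ 3 := by gcongr
      _ = 4 * n * (T * (q + 1) ^ 3) := by ring
  | S =>
    obtain ⟨k, rfl⟩ : ∃ k, n = 2 * k := ⟨n / 2, by have := hd.2; omega⟩
    have h1 := oSp_ge' h2 k
    have h3 : Nat.gcd 2 (q - 1) * T = oSp (2 * k / 2) q := ho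
    rw [Nat.mul_div_cancel_left _ two_pos] at h3
    have h4 : Nat.gcd 2 (q - 1) * T ≤ T * Nat.gcd 2 (q - 1) ^ 3 := by
      rw [mul_comm]; exact Nat.mul_le_mul_left _ (Nat.le_self_pow (by norm_num) _)
    show 5 * q ^ (2 * k * (2 * k + 1) / 2) ≤ 8 * (T * Nat.gcd 2 (q - 1) ^ 3)
    rw [show 2 * k * (2 * k + 1) / 2 = 2 * k ^ 2 + k from Nat.div_eq_of_eq_mul_right two_pos (by ring)]
    omega
  | O =>
    obtain ⟨k, rfl⟩ : ∃ k, n = 2 * k + 1 := ⟨n / 2, by have := hd.2.1; omega⟩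
    have h1 := oSp_ge' h2 k
    have h3 : 2 * T = oSp ((2 * k + 1) / 2) q := ho
    rw [show (2 * k + 1) / 2 = k by omega] at h3
    show 8 * q ^ ((2 * k + 1) * (2 * k + 1 - 1) / 2) ≤ 3 * (T * Nat.gcd 2 (q - 1) ^ 3)
    rw [show (2 * k + 1) * (2 * k + 1 - 1) / 2 = 2 * k ^ 2 + k from Nat.div_eq_of_eq_mul_right two_pos (by
      rw [Nat.add_sub_cancel]; ring), Nat.gcd_eq_left (show 2 ∣ q - 1 by have := hd.2.2; omega)]
    omega
  | P =>
    obtain ⟨k, rfl⟩ : ∃ k, n = 2 * (k + 1) := ⟨n / 2 - 1, by have := hd.1; have := hd.2; omega⟩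
    have h1 := oP_ge h2 (m := k) (by have := hd.1; omega)
    have h3 : Nat.gcd 4 (q ^ (2 * (k + 1) / 2) - 1) * T = oP (2 * (k + 1) / 2) q := ho
    rw [Nat.mul_div_cancel_left _ two_pos] at h3
    have h4 := Nat.mul_le_mul_right T (gcd_four (x := q ^ (k + 1) - 1) h2 fun h => by have := ev k h; omega)
    show 5 * q ^ (2 * (k + 1) * (2 * (k + 1) - 1) / 2) ≤ 8 * (T * Nat.gcd 2 (q - 1) ^ 3)
    rw [show 2 * (k + 1) * (2 * (k + 1) - 1) / 2 = 2 * k ^ 2 + 3 * k + 1 from Nat.div_eq_of_eq_mul_right two_pos (by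
      rw [show 2 * (k + 1) - 1 = 2 * k + 1 by omega]; ring), mul_comm T]
    omega
  | M =>
    obtain ⟨k, rfl⟩ : ∃ k, n = 2 * (k + 1) := ⟨n / 2 - 1, by have := hd.1; have := hd.2; omega⟩
    have h1 := oM_ge h2 k
    have h3 : Nat.gcd 4 (q ^ (2 * (k + 1) / 2) + 1) * T = oM (2 * (k + 1) / 2) q := ho
    rw [Nat.mul_div_cancel_left _ two_pos] at h3
    have h4 := Nat.mul_le_mul_right T (gcd_four (x := q ^ (k + 1) + 1) h2 fun h => by have := ev k h; omega)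
    show 5 * q ^ (2 * (k + 1) * (2 * (k + 1) - 1) / 2) ≤ 8 * (T * Nat.gcd 2 (q - 1) ^ 3)
    rw [show 2 * (k + 1) * (2 * (k + 1) - 1) / 2 = 2 * k ^ 2 + 3 * k + 1 from Nat.div_eq_of_eq_mul_right two_pos (by
      rw [show 2 * (k + 1) - 1 = 2 * k + 1 by omega]; ring), mul_comm T]
    omega

/-- from `q0` to `q` -/
theorem unif {a b E x W u v : ℕ} (hq : q0 ≤ q) (hW : a * q ^ E ≤ b * W) (hb : 0 < b) (hx : x ≤ E)
    (h : u * b ≤ a * v * q0 ^ (E - x)) : u * q ^ x ≤ W * v := by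
  refine Nat.le_of_mul_le_mul_left ?_ hb
  calc b * (u * q ^ x) = u * b * q ^ x := by ring
    _ ≤ a * v * q ^ (E - x) * q ^ x := Nat.mul_le_mul_right _ (h.trans (by gcongr))
    _ = a * q ^ E * v := by rw [mul_assoc, ← pow_add, Nat.sub_add_cancel hx]; ring
    _ ≤ b * W * v := Nat.mul_le_mul_right _ hW
    _ = _ := by ring

theorem unif2 {a b E x W u v : ℕ} (hq : q0 ≤ q) (hW : a * q ^ E ≤ b * W) (hb : 0 < b) (hx : x ≤ 2 * E)
    (h : u * b ^ 2 ≤ a ^ 2 * v * q0 ^ (2 * E - x)) : u * q ^ x ≤ W ^ 2 * v :=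
  unif hq (by rw [mul_comm 2, pow_mul, ← mul_pow, ← mul_pow]; exact Nat.pow_le_pow_left hW 2) (pow_pos hb 2) hx h

theorem ratio {x y Q ν ν0 : ℕ} (h0 : 0 < q0) (hQ : ν = 0 ∨ q0 ≤ Q) (hν : ν ≤ ν0) (h : x * Q ^ ν ≤ y * (Q + 1) ^ ν) :
    x * q0 ^ ν0 ≤ y * (q0 + 1) ^ ν0 := by
  obtain ⟨k, rfl⟩ := Nat.exists_eq_add_of_le hν
  have h1 : x * q0 ^ ν ≤ y * (q0 + 1) ^ ν := by
    rcases hQ with rfl | hQ
    · exact h
    refine Nat.le_of_mul_le_mul_left ?_ (pow_pos (h0.trans_le hQ) ν)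
    calc Q ^ ν * (x * q0 ^ ν) = x * Q ^ ν * q0 ^ ν := by ring
      _ ≤ y * (Q + 1) ^ ν * q0 ^ ν := Nat.mul_le_mul_right _ h
      _ = y * ((Q + 1) * q0) ^ ν := by rw [mul_pow, mul_assoc]
      _ ≤ y * (Q * (q0 + 1)) ^ ν := Nat.mul_le_mul_left _ (Nat.pow_le_pow_left (by nlinarith) ν)
      _ = _ := by rw [mul_pow]; ring
  rw [pow_add, pow_add, ← mul_assoc, ← mul_assoc]
  exact Nat.mul_le_mul h1 (Nat.pow_le_pow_left (Nat.le_succ _) k)

theorem ec_mono (t : Kd) (n : ℕ) {d d' : ℕ} (h : d ≤ d') : ec t n d ≤ ec t n d' := by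
  cases t <;> simp only [ec] <;> omega

/-- `gB ≤ gK q ^ gE` -/
def gK : Kd → ℕ → ℕ → ℕ
  | .L, _, _ => 1
  | .U, a, b => (if a = 0 then 1 else 2) * (if b = 0 then 1 else 2)
  | .S, _, b => if b = 0 then 1 else 2
  | _, a, b => (if a = 0 then 1 else if a = 1 then 2 else 4) * (if b = 0 then 1 else 2)

def gE : Kd → ℕ → ℕ → ℕ → ℕ
  | .L, _, _, d => d
  | .U, a, b, d => a ^ 2 + (if b = 0 then 0 else 1) + d
  | .S, a, _, d => (if a = 0 then 0 else 3) + (d / 2 + a + 1)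
  | _, a, _, d => (if a = 0 then 0 else if a = 1 then 0 else 1) + d / 2

theorem gB_le (hq : 1 ≤ q) (t : Kd) (a b d : ℕ) : gB t q a b d ≤ gK t a b * q ^ gE t a b d := by
  have h1 : q + 1 ≤ 2 * q := by omega
  have hO : (if a = 0 then 1 else if a = 1 then 2 else 2 * (q + 1)) * (if b = 0 then 1 else 2) * q ^ (d / 2) ≤
      (if a = 0 then 1 else if a = 1 then 2 else 4) * (if b = 0 then 1 else 2) *
        q ^ ((if a = 0 then 0 else if a = 1 then 0 else 1) + d / 2) := by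
    rw [pow_add, ← mul_assoc, mul_right_comm _ (if b = 0 then 1 else 2) (q ^ (if a = 0 then 0 else _))]
    refine Nat.mul_le_mul_right _ (Nat.mul_le_mul_right _ ?_)
    split_ifs <;> simp only [pow_zero, pow_one] <;> omega
  cases t
  · exact (one_mul _).ge
  · simp only [gB, gK, gE]
    rw [pow_add, pow_add, ← mul_assoc, mul_mul_mul_comm]
    gcongr
    · split_ifs with h
      · rw [h]; rfl
      · have h2 : 0 < a ^ 2 := pow_pos (Nat.pos_of_ne_zero h) 2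
        calc (q + 1) * q ^ (a ^ 2 - 1) ≤ 2 * q * q ^ (a ^ 2 - 1) := by gcongr
          _ = 2 * q ^ (a ^ 2 - 1 + 1) := by ring
          _ = _ := by rw [Nat.sub_add_cancel h2]
    · split_ifs <;> simp only [pow_zero, pow_one] <;> omega
  · simp only [gB, gK, gE]
    rw [pow_add q _ (d / 2 + a + 1), ← mul_assoc, mul_comm (if b = 0 then 1 else 2)]
    gcongr
    split_ifs <;> rfl
  · exact hO
  · exact hO
  · exact hO

/-- the least divisor -/
def mfa (q : ℕ) : ℕ → ℕ → ℕ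
  | 0, d => d
  | f + 1, d => bif Nat.beq (q % d) 0 then d else mfa q f (d + 1)

def mf (q : ℕ) : ℕ := mfa q q 2

theorem mfa_eq {p f k d : ℕ} (hp : p.Prime) (hf : 0 < f) (h2 : 2 ≤ d) (h1 : d ≤ p) (h3 : p ≤ d + k) : mfa (p ^ f) k d = p := by
  induction k generalizing d with
  | zero => exact le_antisymm h1 h3
  | succ k ih =>
    rw [mfa]
    rcases h1.eq_or_lt with rfl | h4
    · rw [Nat.mod_eq_zero_of_dvd (dvd_pow_self d hf.ne')]; rfl
    · rw [show Nat.beq (p ^ f % d) 0 = false from ?_, cond_false]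
      · exact ih (by omega) h4 (by omega)
      rw [← Bool.not_eq_true, Nat.beq_eq]
      intro h
      obtain ⟨i, -, rfl⟩ := (Nat.dvd_prime_pow hp).1 (Nat.dvd_of_mod_eq_zero h)
      rcases i with _ | i
      · exact absurd h2 (by norm_num)
      · exact absurd (Nat.le_self_pow (Nat.succ_ne_zero i) p) (not_le.2 h4)

theorem mf_eq {p f : ℕ} (hp : p.Prime) (hf : 0 < f) : mf (p ^ f) = p :=
  mfa_eq hp hf le_rfl hp.two_le ((Nat.le_self_pow hf.ne' p).trans (Nat.le_add_left _ _))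

end Cfsg.Agent.N2C.RX
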