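import Cfsg.Agent.N2.Cl.Defs
import Cfsg.Agent.N2.Cl.Cyc.Ord
import Cfsg.Agent.N2.Tri.Defs
import Cfsg.Agent.H915.LD

/-!
# N2 (S3519), class S with alternating, sporadic or cross characteristic socle: interface (helper85)

`Rp` collects everything that the sieve uses of the ring frame.  See `notes/N2/classS-x.md`.
-/

set_option autoImplicit false

namespace Cfsg.Agent.N2C.RX

open Cfsg Cfsg.Geo Subgroup Cfsg.Agent.DS.Cl Cfsg.Agent.N2C.Cyc Cfsg.Agent.H915.LD
open Cfsg.Agent.N2 (Cf Fam)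

/-- the kinds: linear, unitary, symplectic, orthogonal (odd dimension, plus type, minus type) -/
inductive Kd
  | L | U | S | O | P | M
  deriving DecidableEq

/-- the number of scalar isometries -/
def zz : Kd → ℕ → ℕ
  | .L, q => q - 1
  | .U, q => q + 1
  | _, q => Nat.gcd 2 (q - 1)

/-- the order of the field -/
def kq : Kd → ℕ → ℕ
  | .U, q => q ^ 2
  | _, q => q

/-- the dimensions -/
def dimOk : Kd → ℕ → ℕ → Prop
  | .L, n, _ => 5 ≤ n
  | .U, n, _ => 5 ≤ n
  | .S, n, _ => 6 ≤ n ∧ n % 2 = 0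
  | .O, n, q => 7 ≤ n ∧ n % 2 = 1 ∧ q % 2 = 1
  | .P, n, _ => 8 ≤ n ∧ n % 2 = 0
  | .M, n, _ => 8 ≤ n ∧ n % 2 = 0

/-- the order of the simple group is `oI / oD` -/
def oI : Kd → ℕ → ℕ → ℕ
  | .L, n, q => oGL n q
  | .U, n, q => oGU n q
  | .S, n, q => oSp (n / 2) q
  | .O, n, q => oSp (n / 2) q
  | .P, n, q => oP (n / 2) q
  | .M, n, q => oM (n / 2) q

def oD : Kd → ℕ → ℕ → ℕ
  | .L, n, q => Nat.gcd n (q - 1) * (q - 1)
  | .U, n, q => Nat.gcd n (q + 1) * (q + 1)
  | .S, _, q => Nat.gcd 2 (q - 1)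
  | .O, _, _ => 2
  | .P, n, q => Nat.gcd 4 (q ^ (n / 2) - 1)
  | .M, n, q => Nat.gcd 4 (q ^ (n / 2) + 1)

/-- a bilinear form is fixed -/
def bil : Kd → Prop
  | .L => False
  | .U => False
  | _ => True

/-- the forms fixed by the core -/
def Frm {n : ℕ} {K : Type} [Field K] (P : Subgroup (GL (Fin n) K)) : Kd → ℕ → Prop
  | .L, _ => ¬ SD P
  | .U, q => Cj P q ∧ ¬ SD P
  | .S, _ => FixA P ∧ SD P ∧ ¬ FixQ P
  | _, _ => FixQ P ∧ SD P

/-- the core -/
def Cr (t : Kd) (n q p : ℕ) (N : Type) [Group N] : Prop :=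
  ∃ (K : Type) (_ : Field K) (_ : Fintype K) (P : Subgroup (GL (Fin n) K)), CharP K p ∧ Fintype.card K = kq t q ∧ Core P ∧
    Nonempty (H915.LD.Soc P ≃* N) ∧ Nat.card ((scalars (Fin n) K).subgroupOf P) ∣ Nat.gcd n (zz t q) ∧ Frm P t q

/-- the square of the crude bound for the centraliser is `q ^ ec` -/
def ec : Kd → ℕ → ℕ → ℕ
  | .L, _, d => 2 * d
  | .U, n, d => 2 * (d + n)
  | _, n, d => d + n

/-- the permutation of the eigenvalues induced by the field -/
def fr : Kd → ℕ → ℤ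
  | .U, q => -q
  | _, q => q

/-- semisimple elements: the exponent -/
def es : Kd → ℕ → ℕ → ℕ
  | .L, d, _ => d
  | .U, d, _ => d
  | .S, d, m => (d + m) / 2
  | _, d, m => (d - m) / 2

/-- the components off the fixed space are unitary groups over the field of `q ^ eq` elements, or linear groups if `eq = 0`;
`e` is the order of `fr` -/
def eq : Kd → ℕ → ℕ
  | .L, _ => 0
  | .U, e => if e % 2 = 1 then e else 0
  | _, e => if e % 2 = 0 then e / 2 else 0

/-- the number of unitary components; `z` is the number of eigenvalues other than one -/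
def nu (t : Kd) (e z : ℕ) : ℕ := if eq t e = 0 then 0 else z / e

/-- the fixed space: exponent of `(q + 1) / q` -/
def dl : Kd → ℕ → ℕ
  | .L, _ => 0
  | .U, m => if m = 0 then 0 else 1
  | .S, _ => 0
  | _, m => if m = 2 then 1 else 0

/-- the fixed space: constant -/
def kp : Kd → ℕ → ℕ
  | .L, _ => 1
  | .U, _ => 1
  | .S, _ => 1
  | _, m => if m = 0 then 1 else 2

/-- the number of scalars `c` such that `c u` is conjugate to `u` -/
def ww (t : Kd) (n q r : ℕ) : ℕ := if r ∣ zz t q ∧ r ∣ n then r else 1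

/-- `a` blocks of size `p`, one block of size `b` : the dimension of the centraliser -/
def dG (n p : ℕ) : ℕ := (n / p) ^ 2 * p + 2 * (n / p) * (n % p) + n % p

/-- the bound for the centraliser of a unipotent element with `a ≤ 2` blocks of size `p` and one block of size `b` -/
def gB : Kd → ℕ → ℕ → ℕ → ℕ → ℕ
  | .L, q, _, _, d => q ^ d
  | .U, q, a, b, d => (if a = 0 then 1 else (q + 1) * q ^ (a ^ 2 - 1)) * (if b = 0 then 1 else q + 1) * q ^ d
  | .S, q, a, b, d => (if a = 0 then 1 else q ^ 3) * (if b = 0 then 1 else 2) * q ^ (d / 2 + a + 1)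
  | _, q, a, b, d => (if a = 0 then 1 else if a = 1 then 2 else 2 * (q + 1)) * (if b = 0 then 1 else 2) * q ^ (d / 2)

/-- the equation lemmas are written in this file -/
theorem rlz : True := by
  have := @zz.eq_3; have := @kq.eq_2; have := @bil.eq_3; have := @Frm.eq_4; have := @ec.eq_3; have := @fr.eq_2
  have := @es.eq_4; have := @eq.eq_3; have := @dl.eq_4; have := @kp.eq_4; have := @gB.eq_4
  have := @zz.eq_def; have := @kq.eq_def; have := @bil.eq_def; have := @Frm.eq_def; have := @ec.eq_def; have := @fr.eq_def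
  have := @es.eq_def; have := @eq.eq_def; have := @dl.eq_def; have := @kp.eq_def; have := @gB.eq_def
  trivial

section

variable (t : Kd) (n q p T : ℕ) (N : Type) [Group N] (G : Prop) (c d : N → ℕ)

/-- elements of prime order other than the characteristic; `μ i` is the multiplicity of the eigenvalue `ζ ^ i` of the lift
`u` with `u ^ r = 1`, `h u h⁻¹ = u ^ j` -/
def Semi : Prop := ∀ (r : ℕ) [Fact r.Prime] (g : N) (j : ℕ), r ≠ p → 2 < r → orderOf g = r → IsConj g (g ^ j) →
  (j : ZMod r) ≠ 1 → ∃ μ : ZMod r → ℕ, ∑ i, μ i = n ∧ μ 0 ≠ n ∧ d g = ∑ i, μ i ^ 2 ∧ (∀ i, μ (j * i) = μ i) ∧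
    (∀ i, μ ((fr t q : ℤ) * i) = μ i) ∧ (bil t → ∀ i, μ (-i) = μ i) ∧
    ∀ e z : ℕ, orderOf ((fr t q : ℤ) : ZMod r) = e → (Finset.univ.filter fun i => i ≠ 0 ∧ μ i ≠ 0).card = z →
      c g * zz t q * (q ^ eq t e) ^ nu t e z * q ^ dl t (μ 0) ≤
        ww t n q r * kp t (μ 0) * q ^ es t (d g) (μ 0) * (q ^ eq t e + 1) ^ nu t e z * (q + 1) ^ dl t (μ 0)

/-- self-centralising elements of order `p` : all Jordan blocks but one have size `p` -/
def Green : Prop := ∀ g : N, 5 ≤ p → orderOf g = p → ¬ p ^ 2 ∣ Nat.card N → centralizer {g} ≤ zpowers g →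
  (t = .S → (n / p) % 2 = 0) ∧ (c g * zz t q) ^ 2 ≤ q ^ ec t n (dG n p) ∧
    (n / p ≤ 2 → c g * zz t q ≤ gB t q (n / p) (n % p) (dG n p))

/-- `T` is the order of the simple classical group, `G` is the goal, `c g` is the order of the centraliser of `g` in the
classical group, `d g` is the dimension of the centraliser of a lift of `g` in `End V` -/
structure Rp0 : Prop where
  prime : p.Prime
  pow : ∃ f, 0 < f ∧ q = p ^ f
  dim : dimOk t n q
  ord : oD t n q * T = oI t n q
  dvd : Nat.card N ∣ T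
  core : Cr t n q p N
  sq : n ^ 2 ≤ Nat.card N
  good1 : ∀ g : N, c g ^ 3 * Nat.card (MulAut N) ≤ T → G
  good2 : ∀ (g : N) (r : ℕ), r.Prime → orderOf g = r → ¬ r ^ 2 ∣ Nat.card (MulAut N) →
    (c g * (r - 1)) ^ 3 * Nat.card N ≤ T * Nat.card (normalizer (zpowers g : Set N)) ^ 3 → G
  scott : ∀ x y : N, closure ({x, y} : Set N) = ⊤ → d x + d y + d (x * y) ≤ n ^ 2 + 2
  low : ∀ (x : N) (a : ℕ), 0 < a → a ≤ 6 → x ^ a = 1 → n ^ 2 ≤ a * d x
  crude : ∀ g : N, (c g * zz t q) ^ 2 ≤ Nat.gcd n (zz t q) ^ 2 * q ^ ec t n (d g)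

/-- all facts -/
structure Rp : Prop extends Rp0 t n q p T N G c d where
  semi : Semi t n q p N c d
  green : Green t n q p N c

end

/-! ### the ring frame -/

section ring

variable {A : Type} [Ring A] [StarRing A]

/-- the order of the centraliser in `F.S` -/
noncomputable def cc (F : FR A) (N : Subgroup (RingAut A)) (g : N) : ℕ :=
  Nat.card ↥(centralizer {(g : RingAut A)} ⊓ F.S)

/-- the dimension of the centraliser of a lift in `End V`: the ring automorphism `g` fixes `kA ^ d` elements; `kA` is the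
order of the centre of `A` -/
noncomputable def dd (N : Subgroup (RingAut A)) (g : N) : ℕ :=
  Nat.log (Nat.card (Subring.center A)) (Nat.card {x : A // (g : RingAut A) x = x})

end ring

/-- a statement about the data `t n q p F H N` -/
abbrev St : Type 1 := ∀ (A : Type) [Ring A] [StarRing A], Kd → ℕ → ℕ → ℕ → FR A → Subgroup (RingAut A) → Subgroup (RingAut A) → Prop

/-- a statement for all four kinds (the type `t` of an orthogonal group is determined by the order of `F.S`) -/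
structure Box (X : St) : Prop where
  l : ∀ (K : Type) [Field K] [Fintype K] (n : ℕ) (F : FR (Fwd.LR (Fin n) K)) (H N : Subgroup (RingAut (Fwd.LR (Fin n) K)))
    (p : ℕ), TH.Cl.KL F → 5 ≤ n → Ctx F H p → Res F H N → X _ .L n (Fintype.card K) p F H N
  u : ∀ (K V : Type) [Field K] [Fintype K] [AddCommGroup V] [Module K V] [Finite V] (h : Fwd.HF K V) (F : FR h.EB) (q : ℕ)
    (H N : Subgroup (RingAut h.EB)) (p : ℕ), TH.Cl.KU h F q → 5 ≤ Module.finrank K V → Ctx F H p → Res F H N →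
    X _ .U (Module.finrank K V) q p F H N
  s : ∀ (K V : Type) [Field K] [Fintype K] [AddCommGroup V] [Module K V] [Finite V] (h : Fwd.HF K V) (F : FR h.EB) (k : ℕ)
    (H N : Subgroup (RingAut h.EB)) (p : ℕ), TH.Cl.KSp h F k → 3 ≤ k → Ctx F H p → Res F H N →
    X _ .S (Module.finrank K V) (Fintype.card K) p F H N
  o : ∀ (K V : Type) [Field K] [Fintype K] [AddCommGroup V] [Module K V] [Finite V] (h : Fwd.HF K V) (F : FR h.EB)
    (Q : QuadraticForm K V) (H N : Subgroup (RingAut h.EB)) (p : ℕ) (t : Kd), TH.Cl.KO h F Q → Ctx F H p → Res F H N →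
    t = .O ∨ t = .P ∨ t = .M → dimOk t (Module.finrank K V) (Fintype.card K) →
    oD t (Module.finrank K V) (Fintype.card K) * Nat.card F.S = oI t (Module.finrank K V) (Fintype.card K) →
    X _ t (Module.finrank K V) (Fintype.card K) p F H N

/-- [Rp0] -/
def BoxRp0 : Prop := Box fun _ _ _ t n q p F H N => Rp0 t n q p (Nat.card F.S) N (Gd F H) (cc F N) (dd N)
/-- [Semi] -/
def BoxSemi : Prop := Box fun _ _ _ t n q p F _ N => Semi t n q p N (cc F N) (dd N)
/-- [Green] -/
def BoxGreen : Prop := Box fun _ _ _ t n q p F _ N => Green t n q p N (cc F N)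

/-- a row: the goal follows from `Rp` for the simple groups in the family `Q` -/
def RowX (Q : ℕ → Fam) : Prop := Cf → ∀ (t : Kd) (n q p T : ℕ) (N : Type) [Group N] [Finite N] [IsSimpleGroup N] (G : Prop)
  (c d : N → ℕ), ¬ IsMulCommutative N → Q p N → Rp t n q p T N G c d → G

/-- **assembly** -/
theorem on_of (b0 : BoxRp0) (bs : BoxSemi) (bg : BoxGreen) {Q : ℕ → Fam} (h : RowX Q) : On (pRes Q) := by
  refine ⟨fun K _ _ n F H p k hn c ⟨_, _, N, r, hQ⟩ => ?_, fun K V _ _ _ _ _ f F q H p k hn c ⟨_, _, N, r, hQ⟩ => ?_,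
    fun K V _ _ _ _ _ f F j H p k hn c ⟨_, _, N, r, hQ⟩ => ?_, fun K V _ _ _ _ _ f F Q' H p k c ⟨_, _, N, r, hQ⟩ => ?_⟩ <;>
    rw [c.ringChar_eq] at hQ <;> have := r.simple
  · have := finAut (A := Fwd.LR (Fin n) K)
    exact h c.cf _ _ _ _ _ N _ _ _ r.noncomm hQ
      ⟨b0.l K n F H N p k hn c r, bs.l K n F H N p k hn c r, bg.l K n F H N p k hn c r⟩
  · have := finAut (A := f.EB)
    exact h c.cf _ _ _ _ _ N _ _ _ r.noncomm hQ
      ⟨b0.u K V f F q H N p k hn c r, bs.u K V f F q H N p k hn c r, bg.u K V f F q H N p k hn c r⟩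
  · have := finAut (A := f.EB)
    exact h c.cf _ _ _ _ _ N _ _ _ r.noncomm hQ
      ⟨b0.s K V f F j H N p k hn c r, bs.s K V f F j H N p k hn c r, bg.s K V f F j H N p k hn c r⟩
  · have := finAut (A := f.EB)
    have h7 := k.dim
    obtain ⟨t, h1, h2, h3⟩ : ∃ t, (t = .O ∨ t = .P ∨ t = .M) ∧ dimOk t (Module.finrank K V) (Fintype.card K) ∧
        oD t (Module.finrank K V) (Fintype.card K) * Nat.card F.S = oI t (Module.finrank K V) (Fintype.card K) := by
      rcases card_S_O k with ⟨m, h1, h2, h3⟩ | ⟨m, h1, -, h3⟩ | ⟨m, h1, -, h3⟩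
      · exact ⟨.O, Or.inl rfl, ⟨h7, by omega, Nat.odd_iff.1 h2⟩, by
          rw [oD, oI, show Module.finrank K V / 2 = m by omega]; exact h3⟩
      · exact ⟨.P, Or.inr (Or.inl rfl), ⟨by omega, by omega⟩, by
          rw [oD, oI, show Module.finrank K V / 2 = m by omega]; exact h3⟩
      · exact ⟨.M, Or.inr (Or.inr rfl), ⟨by omega, by omega⟩, by
          rw [oD, oI, show Module.finrank K V / 2 = m by omega]; exact h3⟩
    exact h c.cf _ _ _ _ _ N _ _ _ r.noncomm hQ
      ⟨b0.o K V f F Q' H N p t k c r h1 h2 h3, bs.o K V f F Q' H N p t k c r h1 h2 h3,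
        bg.o K V f F Q' H N p t k c r h1 h2 h3⟩

end Cfsg.Agent.N2C.RX
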