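import Cfsg.Agent.N2.Cl.RX.GreenJ
import Cfsg.Agent.N2.Cl.RX.Defs
import Cfsg.Agent.N2.Cl.Res.Base
import Cfsg.Agent.N2.Cl.SzG.Main
import Cfsg.Agent.TH.Cl.Cases.Sim

/-!
# N2 (S3519), box Green: the lift, linear groups, the crude bound (helper32)
-/

set_option autoImplicit false
set_option linter.unusedSectionVars false

namespace Cfsg.Agent.N2C.RX.Gr

open Module Subgroup Cfsg.Agent.DS.Cl Cfsg.Agent.DS.Cl.Fwd Cfsg.Agent.N2C.Cyc
open Cfsg.Agent.SB.Fld (prL prU)

variable {K V : Type} [Field K] [Fintype K] [AddCommGroup V] [Module K V] [Finite V] {p : ℕ}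

/-- the lift of order `p` and its Jordan blocks -/
theorem lift {A : Type} [Ring A] [StarRing A] [Finite A] {F : FR A} {H N : Subgroup (RingAut A)} (r : Res F H N)
    (ρ : A →+* End K V) (hs : Function.Surjective ρ) (hp : p.Prime) [CharP K p] {e : ℕ} (he : ∀ z ∈ ZI F, z ^ e = 1)
    (hc : p.Coprime e) {g : N} (hg : orderOf g = p) (h2 : ¬ p ^ 2 ∣ Nat.card N) (hC : centralizer {g} ≤ zpowers g) :
    ∃ (u : Aˣ) (v : Fin (finrank K V / p) → V) (w : V), u ∈ F.Iso ∧ cc F N g * Nat.card (ZI F) ≤ cO F u ∧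
      Jb (ρ u - 1) p (finrank K V / p) (finrank K V % p) v w := by
  have : Module.Finite K V := Module.Finite.of_finite
  have := finAut (A := A)
  let π : lft F N →* N := ((cj A).comp (lft F N).subtype).codRestrict N fun u => Res.cj_mem u.2
  let σ : lft F N →* End K V := (ρ : A →* End K V).comp ((Units.coeHom A).comp (lft F N).subtype)
  have hz : ∀ z, π z = 1 → (z : Aˣ) ∈ ZI F := fun z h => ⟨Res.lft_le_Iso F N z.2, congrArg Subtype.val h⟩
  obtain ⟨u, rfl, h1, h3⟩ := jordan σ hp (fun φ h => by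
      obtain ⟨c, _, hc⟩ := End.mem_center_iff.1 (Semigroup.mem_center_iff.2 fun x => by
        obtain ⟨x, rfl⟩ := hs x
        exact Res.add_top r (((Subring.centralizer {φ}).comap ρ).toAddSubgroup)
          (fun u hu y hy => by rw [Set.mem_singleton_iff.1 hy]; exact h ⟨u, hu⟩) x φ rfl |>.symm)
      exact ⟨c, hc⟩) π (fun x => by
      obtain ⟨u, hu, h⟩ := Res.exists_lft r x.2
      exact ⟨⟨u, hu⟩, Subtype.ext h⟩) (fun z h φ => by
      obtain ⟨x, rfl⟩ := hs φ
      show ρ x * ρ _ = ρ _ * ρ x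
      rw [← map_mul, ← map_mul]
      exact congrArg ρ (ZI_comm (hz z h) x).symm) (fun z h => Subtype.ext (he _ (hz z h))) hc hg h2 hC
  obtain ⟨a, b, v, w, j⟩ := exists_jb hp.pos (nil hp (by rw [← map_pow, h1, map_one])) h3
  obtain rfl := j.div
  obtain rfl := j.mod
  refine ⟨u, v, w, Res.lft_le_Iso F N u.2, le_trans (le_of_eq ?_)
    (cn_mul_le_cop' (Res.lft_le F N u.2) (congrArg Subtype.val h1) he hc), j⟩
  congr 1
  exact Nat.card_congr
    { toFun := fun x => ⟨⟨x.1, x.2.2⟩, mem_centralizer_singleton_iff.2 (Subtype.ext (mem_centralizer_singleton_iff.1 x.2.1))⟩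
      invFun := fun x => ⟨x.1.1, mem_centralizer_singleton_iff.2 (congrArg Subtype.val (mem_centralizer_singleton_iff.1 x.2)),
        x.1.2⟩
      left_inv := fun _ => rfl
      right_inv := fun _ => rfl }

theorem comm_sub {R : Type} [Ring R] {x u : R} (h : x * u = u * x) : x * (u - 1) = (u - 1) * x := by
  rw [mul_sub, sub_mul, h, mul_one, one_mul]

theorem finEnd : Finite (End K V) := Finite.of_injective _ DFunLike.coe_injective

theorem dvd_card (p : ℕ) [CharP K p] : p ∣ Fintype.card K := by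
  obtain ⟨f, -, hf⟩ := FiniteField.card K p
  exact hf ▸ dvd_pow_self p f.ne_zero

theorem green_L {n : ℕ} {F : FR (LR (Fin n) K)} {H N : Subgroup (RingAut (LR (Fin n) K))} (hn : 5 ≤ n) (c : Ctx F H p)
    (r : Res F H N) : Green .L n (Fintype.card K) p N (cc F N) := fun g _ hg h2 hC => by
  have := TH.Cl.Cases.charP_of_cast c.prime (TH.Cl.Cases.cast_LR (by omega) c.char)
  obtain ⟨u, v, w, -, h1, j⟩ := lift r (prL n K) SB.Fld.luL.surj c.prime (fun z hz => ZI_pow_L hz)
    (((Nat.coprime_self_sub_right Fintype.card_pos).2 (Nat.coprime_one_right _)).coprime_dvd_left (dvd_card p)) hg h2 hC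
  have := finEnd (K := K) (V := Fin n → K)
  have h3 : cc F N g * zz .L (Fintype.card K) ≤ Fintype.card K ^ dG n p := by
    refine ((Nat.mul_le_mul_left _ (card_ZI_L F (by omega))).trans h1).trans (le_trans ?_ (j.card_le.trans (le_of_eq ?_)))
    · refine Nat.card_le_card_of_injective (fun x => ⟨prL n K x.1, comm_sub (by
        rw [← map_mul, ← map_mul]; exact congrArg _ (congrArg Units.val x.2.2))⟩) fun x y e => Subtype.ext ?_
      obtain ⟨s, hs⟩ := (Iso_L F).le x.2.1
      obtain ⟨t, ht⟩ := (Iso_L F).le y.2.1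
      have h4 : prL n K (LR.gl s : (LR (Fin n) K)ˣ) = prL n K (LR.gl t : (LR (Fin n) K)ˣ) := by
        rw [hs, ht]; exact congrArg Subtype.val e
      rw [← hs, ← ht, show s = t from Units.ext (Matrix.toLinAlgEquiv'.injective h4)]
    · rw [Nat.card_eq_fintype_card, finrank_fin_fun, dG]
  exact ⟨nofun, (Nat.pow_le_pow_left h3 2).trans (le_of_eq (by rw [ec, ← pow_mul, mul_comm])), fun _ => h3⟩

/-- forms -/
theorem lift_H {h : HF K V} {F : FR h.EB} {H N : Subgroup (RingAut h.EB)} (r : Res F H N) (hp : p.Prime) [CharP K p]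
    {e z : ℕ} (he : ∀ z ∈ ZI F, z ^ e = 1) (hc : p.Coprime e) (hz : z ≤ Nat.card (ZI F)) {g : N} (hg : orderOf g = p)
    (h2 : ¬ p ^ 2 ∣ Nat.card N) (hC : centralizer {g} ≤ zpowers g) :
    ∃ (u : h.EB) (v : Fin (finrank K V / p) → V) (w : V), u * star u = 1 ∧ cc F N g * z ≤ cU u ∧
      (cc F N g * z) ^ 2 ≤ Fintype.card K ^ (dG (finrank K V) p + finrank K V) ∧
      Jb (h.ap u - 1) p (finrank K V / p) (finrank K V % p) v w := by
  have : Module.Finite K V := Module.Finite.of_finite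
  obtain ⟨u, v, w, hu, h1, j⟩ := lift r (prU h) Function.surjective_id hp he hc hg h2 hC
  have := finEnd (K := K) (V := V)
  have h3 := (Nat.mul_le_mul_left _ hz).trans h1
  refine ⟨u, v, w, hu.1, h3.trans (cO_le_cU F u), (Nat.pow_le_pow_left h3 2).trans
    (le_trans (Nat.pow_le_pow_left ?_ 2) ((SzG.sizeG h F hu le_rfl).trans ?_)), j⟩
  · exact Nat.card_le_card_of_injective (fun x => ⟨x.1, mem_centralizer_singleton_iff.2 x.2.2, x.2.1⟩)
      fun x y e => Subtype.ext (Subtype.mk.inj e)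
  · rw [pow_add, ← Nat.card_eq_fintype_card, ← Module.natCard_eq_pow_finrank]
    exact Nat.mul_le_mul_right _ ((Nat.card_le_card_of_injective (fun x => ⟨h.ap x.1, comm_sub x.2.symm⟩)
      fun x y e => Subtype.ext (by have h4 := congrArg Subtype.val e; exact h4)).trans j.card_le)

/-- a statement about a unipotent isometry with its blocks -/
def Al (X : ∀ (K V : Type) [Field K] [Fintype K] [AddCommGroup V] [Module K V] [Finite V] (h : HF K V), h.EB → ℕ → ℕ → ℕ → Prop) :
    Prop :=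
  ∀ (K V : Type) [Field K] [Fintype K] [AddCommGroup V] [Module K V] [Finite V] (h : HF K V) (u : h.EB) (p a b : ℕ)
    (v : Fin a → V) (w : V), p.Prime → 5 ≤ p → CharP K p → u * star u = 1 → Jb (h.ap u - 1) p a b v w →
    X K V h u a b (a ^ 2 * p + 2 * a * b + b)

/-- part B -/
structure GB : Prop where
  u : Al fun K _ _ _ _ _ _ h u a b d => ∀ q, SB.Cl.IsU h → Fintype.card K = q ^ 2 → a ≤ 2 → cU u ≤ gB .U q a b d
  s : Al fun K _ _ _ _ _ _ h u a b d => (∀ c, h.τ c = c) → (∀ x, h.b x x = 0) →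
    a % 2 = 0 ∧ (a ≤ 2 → cU u ≤ gB .S (Fintype.card K) a b d)
  o : Al fun K _ _ _ _ _ _ h u a b d => (∀ c, h.τ c = c) → (∀ x y, h.b x y = h.b y x) → a ≤ 2 →
    cU u ≤ gB .O (Fintype.card K) a b d

theorem lift_two {h : HF K V} {F : FR h.EB} {H N : Subgroup (RingAut h.EB)} (hτ : ∀ c, h.τ c = c) (hn : 0 < finrank K V)
    (r : Res F H N) (hp : p.Prime) (h5 : 5 ≤ p) [CharP K p] {g : N} (hg : orderOf g = p) (h2 : ¬ p ^ 2 ∣ Nat.card N)
    (hC : centralizer {g} ≤ zpowers g) :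
    ∃ (u : h.EB) (v : Fin (finrank K V / p) → V) (w : V), u * star u = 1 ∧
      cc F N g * Nat.gcd 2 (Fintype.card K - 1) ≤ cU u ∧ (cc F N g * Nat.gcd 2 (Fintype.card K - 1)) ^ 2 ≤
        Fintype.card K ^ (dG (finrank K V) p + finrank K V) ∧ Jb (h.ap u - 1) p (finrank K V / p) (finrank K V % p) v w := by
  have := nontrivial_of_dim hn
  exact lift_H r hp (fun z hz => ZI_pow_two hτ hz) ((Nat.coprime_primes hp Nat.prime_two).2 (by omega))
    ((Nat.gcd_le_left _ two_pos).trans (card_ZI_two F fun e => by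
      have := Nat.le_of_dvd two_pos ((CharP.cast_eq_zero_iff K p 2).1 (by exact_mod_cast e))
      omega)) hg h2 hC

theorem boxGreen_of (B : GB) : BoxGreen := by
  refine ⟨fun K _ _ n F H N p _ hn c r => green_L hn c r, fun K V _ _ _ _ _ h F q H N p k hn c r g h5 hg h2 hC => ?_,
    fun K V _ _ _ _ _ h F m H N p k hn c r g h5 hg h2 hC => ?_,
    fun K V _ _ _ _ _ h F Q H N p t k c r ht _ _ g h5 hg h2 hC => ?_⟩ <;> have h1 := k.dim <;>
    have hp := TH.Cl.Cases.charP_of_cast c.prime (TH.Cl.Cases.cast_EB h (by omega) c.char)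
  · obtain ⟨u, v, w, hu, h3, h4, j⟩ := lift_H r c.prime (fun z hz => ZI_pow_U k hz)
      (((Nat.coprime_self_add_right (m := q)).2 (Nat.coprime_one_right _)).coprime_dvd_left
        (c.prime.dvd_of_dvd_pow (k.card ▸ dvd_card (K := K) p))) (card_ZI_U k) hg h2 hC
    exact ⟨nofun, by rwa [k.card, ← pow_mul] at h4, fun h6 => h3.trans (B.u K V h u p _ _ v w c.prime h5 hp hu j q k.u k.card h6)⟩
  · obtain ⟨u, v, w, hu, h3, h4, j⟩ := lift_two k.sp.1 (by omega) r c.prime h5 hg h2 hC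
    have h6 := B.s K V h u p _ _ v w c.prime h5 hp hu j k.sp.1 k.sp.2.1
    exact ⟨fun _ => h6.1, h4, fun h7 => h3.trans (h6.2 h7)⟩
  · obtain ⟨u, v, w, hu, h3, h4, j⟩ := lift_two k.o.1 (by omega) r c.prime h5 hg h2 hC
    have h6 := B.o K V h u p _ _ v w c.prime h5 hp hu j k.o.1 fun x y => by
      rw [k.o.2.1, k.o.2.1, QuadraticMap.polar_comm]
    rcases ht with rfl | rfl | rfl <;> exact ⟨nofun, h4, fun h7 => h3.trans (h6 h7)⟩

end Cfsg.Agent.N2C.RX.Gr
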