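import Cfsg.Agent.N2.Cl.RX.GreenB
import Cfsg.Agent.N2.Cl.RX.GreenC

/-!
# N2 (S3519), box Green (helper32, helper38)
-/

set_option autoImplicit false

namespace Cfsg.Agent.N2C.RX

theorem boxGreen : BoxGreen := Gr.boxGreen_of
  ⟨fun _ _ _ _ _ _ _ _ _ _ _ _ _ _ hp h5 _ hu j _ => Gr.gU hp h5 hu j,
    fun _ _ _ _ _ _ _ _ _ _ _ _ _ _ hp h5 _ hu j ht hs => ⟨Gr.gS_even hp h5 hu j ht hs, Gr.gS hp h5 hu j ht hs⟩,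
    fun _ _ _ _ _ _ _ _ _ _ _ _ _ _ hp h5 _ hu j => Gr.gO hp h5 hu j⟩

end Cfsg.Agent.N2C.RX
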