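import Cfsg.Agent.N2.Cl.RX.Rp0
import Cfsg.Agent.N2.Cl.Sz.Main

/-!
# N2 (S3519), class S: `boxSemi` (helper96)
-/

set_option autoImplicit false
set_option linter.unusedSectionVars false
set_option maxHeartbeats 400000

namespace Cfsg.Agent.N2C.RX

open Cfsg Cfsg.Geo Subgroup Module Matrix Cfsg.Agent.DS.Cl Cfsg.Agent.DS.Cl.Fwd
open Cfsg.Agent.N2C.Cyc
open Cfsg.Agent.N2C.Res (Rep repL repH)
open Cfsg.Agent.N2C.Sz (Mu)
open R0

namespace Sm

/-- the commutator is the good lift -/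
theorem lift_grp {G T : Type} [Group G] [Group T] (π : G →* T) (hk : ∀ z, π z = 1 → ∀ y, Commute z y) {u h : G} {s j : ℕ}
    (h1 : π u ^ s = 1) (h2 : π h * π u * (π h)⁻¹ = π u ^ (j + 1)) :
    (h * u * h⁻¹ * u⁻¹) ^ s = 1 ∧ h * (h * u * h⁻¹ * u⁻¹) * h⁻¹ = (h * u * h⁻¹ * u⁻¹) ^ (j + 1) ∧ π (h * u * h⁻¹ * u⁻¹) = π u ^ j := by
  obtain ⟨z, hz, e⟩ : ∃ z, (∀ y, Commute z y) ∧ h * u * h⁻¹ = z * u ^ (j + 1) :=
    ⟨h * u * h⁻¹ * (u ^ (j + 1))⁻¹, hk _ (by rw [map_mul, map_mul, map_mul, map_inv, h2, map_inv, map_pow, mul_inv_cancel]),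
      (inv_mul_cancel_right _ _).symm⟩
  have h3 : h * u * h⁻¹ * u⁻¹ = z * u ^ j := by rw [e, pow_succ, mul_assoc, mul_inv_cancel_right]
  refine ⟨?_, ?_, by rw [map_mul, map_mul, map_mul, map_inv, h2, map_inv, pow_succ, mul_inv_cancel_right]⟩
  · have h4 := congrArg (· ^ s) e
    simp only [conj_pow] at h4
    rw [← (hk _ ((map_pow π u s).trans h1) h).eq, mul_inv_cancel_right, (hz _).mul_pow, pow_succ, ((Commute.refl u).pow_left j).mul_pow,
      ← mul_assoc, eq_comm, mul_eq_right] at h4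
    rw [h3, (hz _).mul_pow, h4]
  · rw [h3, ← mul_assoc, ← (hz h).eq, mul_assoc z, mul_assoc z, ← conj_pow, e, (hz _).mul_pow, (hz _).mul_pow, ← mul_assoc, ← pow_succ',
      ← pow_mul, ← pow_mul, mul_comm j]

variable {A : Type} [Ring A] [StarRing A] [Finite A] {F : FR A} {H N : Subgroup (RingAut A)} {p : ℕ}

theorem exists_lift (r : Res F H N) {s j : ℕ} (hs : s.Prime) {g : N} (ho : orderOf g = s) (hc : IsConj g (g ^ j))
    (hj : (j : ZMod s) ≠ 1) : j.Coprime s ∧ ∃ u ∈ lft F N, cj A u = g ∧ u ^ s = 1 ∧ ∃ v : Aˣ, v * u = u ^ j * v := by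
  obtain ⟨c, hc⟩ := isConj_iff.1 hc
  have h1 : j.Coprime s := (Nat.coprime_comm.1 (hs.coprime_iff_not_dvd.2 fun k => by
    rw [orderOf_dvd_iff_pow_eq_one.1 (ho ▸ k), conj_eq_one_iff] at hc
    rw [hc, orderOf_one] at ho
    exact hs.one_lt.ne ho))
  obtain ⟨j, rfl⟩ := Nat.exists_eq_succ_of_ne_zero (n := j) (by rintro rfl; exact hs.one_lt.ne' (by simpa using h1))
  obtain ⟨u, hu, eu⟩ := Res.exists_lft r g.2
  obtain ⟨v, hv, ev⟩ := Res.exists_lft r c.2
  obtain ⟨h2, h3, h4⟩ := lift_grp (cj A) (fun z hz y => (units_comm (DS.Cl.cj_eq_one_iff.1 hz) y).symm) (u := u) (h := v) (s := s) (j := j)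
    (by rw [eu, ← ho]; exact congrArg Subtype.val (pow_orderOf_eq_one g)) (by rw [eu, ev]; exact congrArg Subtype.val hc)
  obtain ⟨k, hk⟩ := exists_pow_eq_self_of_coprime (x := g) (n := j) (ho ▸ Nat.coprime_comm.1 (hs.coprime_iff_not_dvd.2 fun k => hj (by
    rw [Nat.cast_succ, (ZMod.natCast_eq_zero_iff _ _).2 k, zero_add])))
  refine ⟨h1, (v * u * v⁻¹ * u⁻¹) ^ k, pow_mem (mul_mem (mul_mem (mul_mem hv hu) (inv_mem hv)) (inv_mem hu)) k, ?_,
    Sz.pow_val_pow h2 k, v, ?_⟩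
  · rw [map_pow, h4, eu]
    exact congrArg Subtype.val hk
  · rw [← mul_inv_eq_iff_eq_mul, ← conj_pow, h3, ← pow_mul, ← pow_mul, mul_comm]

variable {K : Type} [Field K] [Fintype K] {n : ℕ} {R : Rep F K n}

include R in
theorem card_ww {u : Aˣ} {s : ℕ} (hs : s.Prime) (hu : u ^ s = 1) {t : Kd} {q : ℕ} (hz : ∀ z ∈ ZI F, z ^ zz t q = 1) :
    Nat.card {z : Aˣ // z ∈ ZI F ∧ ∃ v ∈ F.Iso, v * u = z * u * v} ≤ ww t n q s := by
  refine le_trans (b := Nat.gcd s (Nat.gcd (zz t q) n)) (le_trans ?_ (card_pow_eq_one_le K (Nat.gcd_pos_of_pos_left _ hs.pos))) ?_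
  · choose c hc using fun z : {z : Aˣ // z ∈ ZI F ∧ ∃ v ∈ F.Iso, v * u = z * u * v} => exists_sc R z.2.1
    refine Nat.card_le_card_of_injective (fun z => ⟨c z, pow_gcd_eq_one.2 ⟨sc_inj R.pos ?_, pow_gcd_eq_one.2 ⟨sc_inj R.pos ?_, ?_⟩⟩⟩)
      fun z w e => Subtype.ext (R.gl_inj z.2.1.1 w.2.1.1 (by rw [← hc, ← hc, Subtype.mk.inj e]))
    · obtain ⟨v, -, e⟩ := z.2.2
      have h2 : (z.1 * u) ^ s = 1 := by
        rw [show z.1 * u = v * u * v⁻¹ by rw [e, mul_inv_cancel_right], conj_pow, hu, mul_one, mul_inv_cancel]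
      rw [(show Commute z.1 u from Units.ext (ZI_comm z.2.1 u)).mul_pow, hu, mul_one] at h2
      rw [map_pow, hc, ← map_pow, h2, map_one, map_one]
    · rw [map_pow, hc, ← map_pow, hz _ z.2.1, map_one, map_one]
    · obtain ⟨v, -, e⟩ := z.2.2
      have h1 := congrArg (fun x => Matrix.GeneralLinearGroup.det (R.gl x)) e
      simp only [map_mul, ← hc, det_sc] at h1
      rw [mul_comm, mul_assoc] at h1
      exact (mul_eq_right.1 h1.symm)
  · show _ ≤ if s ∣ zz t q ∧ s ∣ n then s else 1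
    split_ifs with k
    · exact Nat.gcd_le_left _ hs.pos
    · exact (hs.coprime_iff_not_dvd.2 (mt Nat.dvd_gcd_iff.1 k)).le

/-- the part without forms -/
theorem semi_of (r : Res F H N) (h : DD R) {t : Kd} {q : ℕ} (hp : p.Prime) [CharP K p] (hz : ∀ z ∈ ZI F, z ^ zz t q = 1)
    (hz' : zz t q ≤ Nat.card (ZI F))
    (hs : ∀ (s : ℕ) [Fact s.Prime], ∀ u ∈ F.Iso, (s : K) ≠ 0 → 2 < s → u ^ s = 1 → ∃ μ : ZMod s → ℕ,
      Mu (Fintype.card K) n (R.ρ u) μ ∧ (μ 0 = n → u = 1) ∧ (∀ i, μ ((fr t q : ℤ) * i) = μ i) ∧ (bil t → ∀ i, μ (-i) = μ i) ∧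
      ∀ e z : ℕ, orderOf ((fr t q : ℤ) : ZMod s) = e → (Finset.univ.filter fun i => i ≠ 0 ∧ μ i ≠ 0).card = z →
        cO F u * (q ^ eq t e) ^ nu t e z * q ^ dl t (μ 0) ≤
          kp t (μ 0) * q ^ es t (∑ i, μ i ^ 2) (μ 0) * (q ^ eq t e + 1) ^ nu t e z * (q + 1) ^ dl t (μ 0)) :
    Semi t n q p N (cc F N) (dd N) := by
  intro s _ g j hsp h2 ho hc hj
  have hs' : s.Prime := Fact.out
  obtain ⟨h1, u, hu, eu, hm, v, hv⟩ := exists_lift r hs' ho hc hj
  have hu' := Res.lft_le_Iso F N hu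
  obtain ⟨μ, h3, h4, h5, h6, h7⟩ := hs s u hu'
    (fun k => hsp ((Nat.prime_dvd_prime_iff_eq hp hs').1 ((CharP.cast_eq_zero_iff K p s).1 k)).symm) h2 hm
  have h8 : dd N g = ∑ i, μ i ^ 2 := Nat.pow_right_injective (Fintype.one_lt_card (α := K)) (by
    have h8 := dd_spec h hu' eu
    rw [Nat.card_eq_fintype_card] at h8
    exact h8.symm.trans ((Nat.card_congr (Equiv.subtypeEquivRight fun _ => eq_comm)).trans h3.card))
  refine ⟨μ, h3.sum, fun k => ?_, h8, h3.conj (R.ρ v) j (v.isUnit.map _) (by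
    rw [← map_pow, ← map_mul, ← map_mul, ← Units.val_pow_eq_pow_val, ← Units.val_mul, hv, Units.val_mul]) h1, h5, h6, fun e z he hz2 => ?_⟩
  · rw [h4 k, map_one] at eu
    rw [show g = 1 from Subtype.ext eu.symm, orderOf_one] at ho
    omega
  have h9 := cn_mul_le (Res.lft_le F N hu) (card_ww (R := R) hs' hm hz)
  rw [show el (Res.lft_le F N hu) = ⟨g, Res.le_S r g.2⟩ from Subtype.ext eu, cc_eq] at h9
  rw [h8]
  calc _ ≤ ww t n q s * (cO F u * (q ^ eq t e) ^ nu t e z * q ^ dl t (μ 0)) :=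
        (Nat.mul_le_mul_right _ (Nat.mul_le_mul_right _ ((Nat.mul_le_mul_left _ hz').trans h9))).trans_eq (by ring)
    _ ≤ _ := (Nat.mul_le_mul_left _ (h7 e z he hz2)).trans_eq (by ring)

theorem mu_map {B : Type} [Ring B] (φ : A ≃+* B) {q m : ℕ} [NeZero m] {u : A} {μ : ZMod m → ℕ} (h : Mu q n u μ) : Mu q n (φ u) μ :=
  ⟨h.sum, (Sz.cA_map φ u).trans h.card, h.frob, fun g j hg e => h.conj (φ.symm g) j (hg.map φ.symm) (φ.injective (by
    rw [map_mul, map_mul, map_pow, φ.apply_symm_apply, e]))⟩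

variable {V : Type} [AddCommGroup V] [Module K V] [Finite V] {h : HF K V}

theorem eq_one_H {u : h.EBˣ} (e : finrank K (LinearMap.ker (h.ap u - 1)) = finrank K V) : u = 1 :=
  Units.ext (h.ap_ext fun v => sub_eq_zero.1 (show v ∈ LinearMap.ker (h.ap u - 1) from Submodule.eq_top_of_finrank_eq e ▸ trivial))

theorem nu_bil {t : Kd} (ht : bil t) {e : ℕ} (z : ℕ) (he : 0 < e) :
    (Even e ∧ eq t e = e / 2 ∧ nu t e z = z / e) ∨ (¬ Even e ∧ nu t e z = 0) := by
  have h1 : eq t e = if e % 2 = 0 then e / 2 else 0 := by cases t <;> first | rfl | exact ht.elim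
  rw [show nu t e z = if eq t e = 0 then 0 else z / e from rfl, h1, Nat.even_iff]
  by_cases k : e % 2 = 0
  · exact Or.inl ⟨k, if_pos k, by rw [if_pos k, if_neg (by omega)]⟩
  · exact Or.inr ⟨k, by rw [if_neg k, if_pos rfl]⟩

theorem ord_pos {s : ℕ} [Fact s.Prime] (hs : (s : K) ≠ 0) : 0 < orderOf (Fintype.card K : ZMod s) :=
  (isOfFinOrder_iff_pow_eq_one.2 ⟨s - 1, Nat.sub_pos_of_lt (Fact.out : s.Prime).one_lt,
    ZMod.pow_card_sub_one_eq_one (Sz.card_ne hs)⟩).orderOf_pos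

end Sm

open Sm

/-- **[Semi]** -/
theorem boxSemi : BoxSemi := by
  refine ⟨fun K _ _ n F H N p k hn c r => ?_, fun K V _ _ _ _ _ h F q H N p k hn c r => ?_,
    fun K V _ _ _ _ _ h F j H N p k hj c r => ?_, fun K V _ _ _ _ _ h F Q H N p t k c r ht hd ho => ?_⟩
  · have h0 : 0 < n := by omega
    have := Res.charP_L h0 c
    refine semi_of r (dd_L F h0) c.prime (fun _ => ZI_pow_L) (card_ZI_L F h0) fun s _ u hu hs h2 hm => ?_
    obtain ⟨μ, h1, h3⟩ := Sz.exists_mu (RingEquiv.refl _) hs (u := (repL F h0).ρ u) (by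
      rw [← map_pow, ← Units.val_pow_eq_pow_val, hm, Units.val_one, map_one])
    rw [Fintype.card_fin] at h1
    refine ⟨μ, h1, fun e => (repL F h0).gl_inj hu (one_mem _) (Units.ext ?_), fun i => ?_, False.elim, fun e z _ _ => ?_⟩
    · rw [h3] at e
      change finrank K (End.eigenspace (toLinAlgEquiv' ((repL F h0).ρ u)) 1) = n at e
      rw [End.eigenspace_def] at e
      rw [map_one, Rep.gl_val, Units.val_one]
      have h4 := LinearMap.ker_eq_top.1 (Submodule.eq_top_of_finrank_eq (e.trans (finrank_fin_fun K).symm))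
      rw [sub_eq_zero, one_smul, ← map_one (toLinAlgEquiv' (R := K) (n := Fin n))] at h4
      exact toLinAlgEquiv'.injective h4
    · rw [show fr .L (Fintype.card K) = Fintype.card K from rfl, Int.cast_natCast, h1.frob]
    · show cO F u * 1 * 1 ≤ 1 * Fintype.card K ^ (∑ i, μ i ^ 2) * 1 * 1
      rw [mul_one, mul_one, mul_one, mul_one, one_mul, ← h1.card]
      exact Sz.cO_le_cA_L F u
  · have h0 : 0 < finrank K V := by omega
    have := nontrivial_of_dim h0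
    let b := finBasis K V
    have := Res.charP_H h F b h0 c
    refine semi_of r (dd_H h F b h0) c.prime (fun _ => ZI_pow_U k) (card_ZI_U k) fun s _ u hu hs h2 hm => ?_
    obtain ⟨μ, h1, h3, h4, h5⟩ := Sz.size_U k.u k.card hs hu.1 (by rw [← Units.val_pow_eq_pow_val, hm, Units.val_one])
    rw [show fr .U q = -q from rfl, Int.cast_neg, Int.cast_natCast]
    refine ⟨μ, mu_map (Sz.eH h) h1, fun e => eq_one_H (h3.symm.trans e), fun i => by rw [neg_mul, h4], False.elim, fun e z he hz => ?_⟩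
    rw [show kp .U (μ 0) = 1 from rfl, show es .U (∑ i, μ i ^ 2) (μ 0) = ∑ i, μ i ^ 2 from rfl, one_mul]
    refine le_trans (Nat.mul_le_mul_right _ (Nat.mul_le_mul_right _ (cO_le_cU F u))) ?_
    have h6 : μ 0 ≠ 0 → 1 ≤ dl .U (μ 0) := fun t => (if_neg t).ge
    by_cases t : e % 2 = 1
    · rw [show eq .U e = e from if_pos t]
      exact h5 e _ _ he (fun _ => hz ▸ (if_neg fun o : eq .U e = 0 => by
        rw [show eq .U e = e from if_pos t] at o; omega).ge) h6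
    · rw [show nu .U e z = 0 from if_pos (if_neg t)]
      exact h5 e 0 _ he (fun o => absurd (Nat.odd_iff.1 o) t) h6
  · have h1 := k.dim
    have h0 : 0 < finrank K V := by omega
    have := nontrivial_of_dim h0
    let b := finBasis K V
    have := Res.charP_H h F b h0 c
    refine semi_of r (dd_H h F b h0) c.prime (ZI_bil k.sp.1).1 (ZI_bil k.sp.1).2 fun s _ u hu hs h2 hm => ?_
    obtain ⟨μ, h1, h3, h4, h5⟩ := Sz.size_Sp k.sp ⟨j, by omega⟩ h2 hs hu hm
    rw [show fr .S (Fintype.card K) = Fintype.card K from rfl, Int.cast_natCast]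
    refine ⟨μ, mu_map (Sz.eH h) h1, fun e => eq_one_H (h3.symm.trans e), h1.frob, fun _ => h4, fun e z he hz => ?_⟩
    rw [show kp .S (μ 0) = 1 from rfl, show es .S (∑ i, μ i ^ 2) (μ 0) = (∑ i, μ i ^ 2 + μ 0) / 2 from rfl,
      show dl .S (μ 0) = 0 from rfl, one_mul, pow_zero, pow_zero, mul_one, mul_one]
    rcases nu_bil (t := .S) trivial z (he ▸ ord_pos hs) with ⟨-, t2, t3⟩ | ⟨t1, t3⟩
    · rw [t2, t3]
      exact h5 e _ he fun _ => hz ▸ le_rfl
    · rw [t3]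
      exact h5 e 0 he fun o => absurd o t1
  · have h1 := k.dim
    have h0 : 0 < finrank K V := by omega
    have := nontrivial_of_dim h0
    let b := finBasis K V
    have := Res.charP_H h F b h0 c
    have hz : zz t (Fintype.card K) = Nat.gcd 2 (Fintype.card K - 1) := by rcases ht with rfl | rfl | rfl <;> rfl
    have hf : fr t (Fintype.card K) = Fintype.card K := by rcases ht with rfl | rfl | rfl <;> rfl
    refine semi_of r (dd_H h F b h0) c.prime (hz ▸ (ZI_bil k.o.1).1) (hz ▸ (ZI_bil k.o.1).2) fun s _ u hu hs h2 hm => ?_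
    obtain ⟨μ, h1, h3, h4, h5⟩ := Sz.size_O k.o h2 hs hu hm
    rw [hf, Int.cast_natCast]
    refine ⟨μ, mu_map (Sz.eH h) h1, fun e => eq_one_H (h3.symm.trans e), h1.frob, fun _ => h4, fun e z he hz => ?_⟩
    rw [show kp t (μ 0) = if μ 0 = 0 then 1 else 2 by rcases ht with rfl | rfl | rfl <;> rfl,
      show dl t (μ 0) = if μ 0 = 2 then 1 else 0 by rcases ht with rfl | rfl | rfl <;> rfl,
      show es t (∑ i, μ i ^ 2) (μ 0) = (∑ i, μ i ^ 2 - μ 0) / 2 by rcases ht with rfl | rfl | rfl <;> rfl]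
    rcases nu_bil (t := t) (by rcases ht with rfl | rfl | rfl <;> trivial) z (he ▸ ord_pos hs) with ⟨-, t2, t3⟩ | ⟨t1, t3⟩
    · rw [t2, t3]
      exact h5 e _ he fun _ => hz ▸ le_rfl
    · rw [t3]
      exact h5 e 0 he fun o => absurd o t1

end Cfsg.Agent.N2C.RX
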