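import Cfsg.Agent.N2.Cl.RX.LieRow
import Cfsg.Agent.N2.Cl.RX.Rp0
import Cfsg.Agent.N2.Cl.RX.Semi
import Cfsg.Agent.N2.Cl.RX.Green
import Cfsg.Agent.N2.Cl.RAlt.Deg
import Cfsg.Agent.N2.Tri.L2
import Cfsg.Agent.N2.Tri.L3
import Cfsg.Agent.N2.Tri.S4
import Cfsg.Agent.N2.Tri.S6
import Cfsg.Agent.N2.Tri.O7
import Cfsg.Agent.N2.Tri.U3
import Cfsg.Agent.N2.Tri.U43b
import Cfsg.Agent.N2.Tri.U56
import Cfsg.Agent.N2.Tri.O8p
import Cfsg.Agent.N2.Tri.O8m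
import Cfsg.Agent.N2.Tri.Sz8
import Cfsg.Agent.N2.Tri.Exc
import Cfsg.Agent.H364.LieNam
import Cfsg.Agent.OrdDiv.Table
import Cfsg.Agent.H659.Sp4NotSD
import Cfsg.Agent.H936.U33All
import Cfsg.Agent.H936.U33Two
import Cfsg.Agent.S0252
import Cfsg.Agent.S0253
import Cfsg.Agent.S0254
import Cfsg.Agent.S0255
import Cfsg.Agent.S0256
import Cfsg.Agent.S0822

/-!
# N2 (S3519), class S: the row for socles of Lie type in another characteristic (helper6)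
-/

set_option autoImplicit false
set_option maxHeartbeats 800000

namespace Cfsg.Agent.N2C.RX.Li

open Cfsg Cfsg.Geo Cfsg.Agent.OrdDiv Cfsg.Agent.H902 Cfsg.Agent.H902.Names Cfsg.Agent.TH.Sim Cfsg.Agent.TH.Sim.LieN
open Cfsg.Agent.H889.Enum Cfsg.Agent.N2.Tg Cfsg.Agent.H915.LD

variable {t : Kd} {n q p T : ℕ} {N : Type} [Group N] {G : Prop} {c d : N → ℕ} {g : Grp} {X : Art.Sh} {r e m : ℕ}

theorem two_l27 (h : OrdDiv.Real (.psl 2 7) N) : IsLieTypeChar 2 N := by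
  obtain ⟨K, _, _, hK, ⟨f⟩⟩ := h
  obtain ⟨f'⟩ := S0255.result hK (ZMod.card 2)
  exact Or.inl ⟨ZMod 2, inferInstance, inferInstance, inferInstance, 3, by decide, by decide, ⟨f.trans f'⟩⟩

theorem u42_of (h : OrdDiv.Real (.psp 2 3) N) :
    ∃ (_ : Fintype (GaloisField 2 2)), Fintype.card (GaloisField 2 2) = 4 ∧ Nonempty (N ≃* PSU 4 (GaloisField 2 2) 2) := by
  obtain ⟨K, _, _, hK, ⟨f⟩⟩ := h
  have := Fintype.ofFinite (GaloisField 2 2)
  have h5 : Fintype.card (GaloisField 2 2) = 4 := Nat.card_eq_fintype_card.symm.trans (GaloisField.card 2 2 two_ne_zero)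
  obtain ⟨f'⟩ := S0822.result h5 hK
  exact ⟨_, h5, ⟨f.trans f'.symm⟩⟩

theorem two_s43 (h : OrdDiv.Real (.psp 2 3) N) : IsLieTypeChar 2 N := by
  obtain ⟨_, h5, f⟩ := u42_of h
  exact Or.inr (Or.inr (Or.inl ⟨GaloisField 2 2, inferInstance, inferInstance, inferInstance, 4, 2, h5, by decide,
    by decide, f⟩))

theorem sk_c (S : Su t n q p T N G c d X r e) (hg : IsLie g X r e) (h : OrdDiv.Real g N) (hm : m ≤ lc X (r ^ e)) :
    skC r m t n q = false := by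
  refine Bool.eq_false_iff.2 fun k => ?_
  have k' : (Nat.blt n m && Nat.beq (Nat.gcd (Nat.gcd n (zz t q)) r) 1) = true := k
  rw [Bool.and_eq_true, Nat.blt_eq, Nat.beq_eq] at k'
  obtain ⟨K, _, _, P, _, -, -, ⟨f⟩, hs, -⟩ := S.R.core
  have := Fact.mk S.R.prime
  refine absurd (hm.trans (bd_lc hg h S.re (H937.T2.prime_ne_zero (F := K) p S.re.hp S.ne) n
    ⟨P, inferInstance, f.toMonoidHom.comp (toSoc P), P.subtype, f.surjective.comp (toSoc_surjective P),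
      fun x hx y => ?_, ?_, by rw [P.ker_subtype]; exact bot_le⟩)) (not_le.2 k'.1)
  · exact (Subgroup.mem_center_iff.1 (scalars_le_center (ker_comp f ▸ (hx : x ∈ (f.toMonoidHom.comp (toSoc P)).ker))) y).symm
  · rw [ker_comp f]
    exact Nat.Coprime.coprime_dvd_left hs k'.2

theorem su_s (S : Su t n q p T N G c d X 3 e) (h2 : p ≠ 2) (h : OrdDiv.Real (.psp 2 3) N) : suS t n = false := by
  refine Bool.eq_false_iff.2 fun k => ?_
  have k' : (t.isS && Nat.beq n 8) = true := k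
  rw [Bool.and_eq_true, Nat.beq_eq] at k'
  obtain ⟨k1, rfl⟩ := k'
  obtain ⟨K, _, _, P, _, -, hC, ⟨f⟩, -, hF⟩ := S.R.core
  have := Fact.mk S.R.prime
  obtain ⟨_, h5, ⟨f'⟩⟩ := u42_of h
  cases t <;> try exact Bool.false_ne_true k1
  exact absurd (H659.Sp4.sd_six' hC p h2 S.ne (by simp) h5 (f.trans f') hF.2.1) (by simp)

theorem su_u (S : Su t n q p T N G c d X 3 e) (h : OrdDiv.Real (.psu 3 3) N) : suU t n = false := by
  refine Bool.eq_false_iff.2 fun k => ?_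
  have k' : ((Nat.beq n 6 && Nat.beq (kb t) 1) || (Nat.ble 8 n && Nat.ble n 12)) = true := k
  simp only [Bool.or_eq_true, Bool.and_eq_true, Nat.beq_eq, Nat.ble_eq] at k'
  obtain ⟨K, _, _, P, _, -, hC, ⟨f⟩, -, hF⟩ := S.R.core
  have := Fact.mk S.R.prime
  obtain ⟨K', _, _, hK, ⟨f'⟩⟩ := h
  have h1 := H936.U33All.u33_all hC p S.ne (by rw [Fintype.card_fin]; omega) hK ⟨f.trans f'⟩
  rw [Fintype.card_fin] at h1
  rcases h1 with ⟨h1, h2, -⟩ | ⟨-, h1, -⟩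
  · have h3 := (k'.resolve_right (by omega)).2
    cases t
    exacts [hF h2, hF.2 h2, absurd h3 (by decide), absurd h3 (by decide), absurd h3 (by decide), absurd h3 (by decide)]
  · omega

theorem sk_u (S : Su t n q p T N G c d X 3 e) (h : OrdDiv.Real (.psu 3 3) N) : skU t n q = false := by
  refine Bool.eq_false_iff.2 fun k => ?_
  have k' : (Nat.beq n 13 && Nat.beq q 2) = true := k
  rw [Bool.and_eq_true, Nat.beq_eq, Nat.beq_eq] at k'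
  obtain ⟨rfl, rfl⟩ := k'
  obtain ⟨a, ha, hq⟩ := S.R.pow
  obtain rfl := eq_of_pow S.R.prime ha Nat.prime_two (k := 1) hq.symm
  obtain ⟨K, _, _, P, _, -, hC, ⟨f⟩, -⟩ := S.R.core
  obtain ⟨K', _, _, hK, ⟨f'⟩⟩ := h
  exact absurd (H936.U33Two.u33_two hC hK ⟨f.trans f'⟩ (by simp)).1 (by simp)

theorem isL {k s : ℕ} (hg : IsLie g (.L k) r e) (h : OrdDiv.Real g N) (hq : r ^ e = s) : OrdDiv.Real (.psl k s) N := by
  subst hq
  cases hg
  exact h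

variable [Finite N] [IsSimpleGroup N]

theorem core (R : Rp t n q p T N G c d) (hna : ¬ IsMulCommutative N) (hp : ¬ IsLieTypeChar p N) (hg : IsLie g X r e)
    (h : OrdDiv.Real g N) (hr : Art.Real X r e (Nat.card N)) (hx : ¬ Ex X (r ^ e)) (hpr : p ≠ r) : G := by
  have S : Su t n q p T N G c d X r e := ⟨R, hna, hr, card_aut (fun hc => hna ⟨⟨hc⟩⟩) hg h hr,
    RAlt.le_of_LS R.prime hr.hp hpr R.core (ls_lp hg h hr hx), hpr⟩
  by_cases hA : 64 * (ou X r e * Nat.card N) ^ 2 ≤ q ^ Gn.EO n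
  · exact R.generic hna (S.aut ▸ hA)
  have h3 : 3 ≤ n := by
    have h1 := R.dim
    cases t <;> first | exact le_trans (by decide) h1 | exact le_trans (by decide) h1.1
  have hb : bs r ≤ q := by
    obtain ⟨a, ha, rfl⟩ := R.pow
    refine le_trans ?_ (Nat.le_self_pow ha.ne' p)
    have h1 := R.prime.two_le
    show (bif Nat.beq r 2 then 3 else 2) ≤ p
    cases h2 : Nat.beq r 2
    · exact h1
    · rw [Nat.beq_eq] at h2
      exact lt_of_le_of_ne h1 (h2 ▸ hpr.symm)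
  have hm := mem_lst hr hx S.deg h3 hb hA
  clear hA hb h3 hpr hx hr hna R
  simp only [lst, List.mem_cons, Prod.mk.injEq, List.not_mem_nil, or_false] at hm
  rcases hm with ⟨rfl, hq⟩ | ⟨rfl, hq⟩ | ⟨rfl, hq⟩ | ⟨rfl, hq⟩ | ⟨rfl, hq⟩ | ⟨rfl, hq⟩ |
    ⟨rfl, hq⟩ | ⟨rfl, hq⟩ | ⟨rfl, hq⟩ | ⟨rfl, hq⟩ | ⟨rfl, hq⟩ | ⟨rfl, hq⟩ |
    ⟨rfl, hq⟩ | ⟨rfl, hq⟩ | ⟨rfl, hq⟩ | ⟨rfl, hq⟩ | ⟨rfl, hq⟩ | ⟨rfl, hq⟩ |
    ⟨rfl, hq⟩ | ⟨rfl, hq⟩ | ⟨rfl, hq⟩ | ⟨rfl, hq⟩ | ⟨rfl, hq⟩ | ⟨rfl, hq⟩ |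
    ⟨rfl, hq⟩ | ⟨rfl, hq⟩ | ⟨rfl, hq⟩ | ⟨rfl, hq⟩ | ⟨rfl, hq⟩ | ⟨rfl, hq⟩ |
    ⟨rfl, hq⟩ | ⟨rfl, hq⟩ | ⟨rfl, hq⟩ | ⟨rfl, hq⟩ | ⟨rfl, hq⟩ | ⟨rfl, hq⟩ |
    ⟨rfl, hq⟩ | ⟨rfl, hq⟩ | ⟨rfl, hq⟩ | ⟨rfl, hq⟩ | ⟨rfl, hq⟩ | ⟨rfl, hq⟩
  · obtain ⟨rfl, rfl⟩ := S.pe (s := 7) (k := 1) (by norm_num) hq
    cases hg
    exact S.t2 c_l2_7 (fun k => hp (k ▸ two_l27 h)) (L2.dat_l2_7 h) (by norm_num)
  · obtain ⟨rfl, rfl⟩ := S.pe (s := 2) (k := 3) (by norm_num) hq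
    cases hg
    exact S.t3 c_l2_8 S.zero rfl rfl (L2.dat_l2_8 h (S.ord (by decide +kernel))) (by norm_num)
  · obtain ⟨rfl, rfl⟩ := S.pe (s := 11) (k := 1) (by norm_num) hq
    cases hg
    exact S.t2 c_l2_11 S.zero (L2.dat_l2_11 h) (by norm_num)
  · obtain ⟨rfl, rfl⟩ := S.pe (s := 13) (k := 1) (by norm_num) hq
    cases hg
    exact S.t2 c_l2_13 S.zero (L2.dat_l2_13 h) (by norm_num)
  · obtain ⟨rfl, rfl⟩ := S.pe (s := 2) (k := 4) (by norm_num) hq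
    cases hg
    exact S.t1 c_l2_16 (L2.dat_l2_16 h)
  · obtain ⟨rfl, rfl⟩ := S.pe (s := 17) (k := 1) (by norm_num) hq
    cases hg
    exact S.t2 c_l2_17 S.zero (L2.dat_l2_17 h) (by norm_num)
  · obtain ⟨rfl, rfl⟩ := S.pe (s := 19) (k := 1) (by norm_num) hq
    cases hg
    exact S.tc c_l2_19 (L2.dat_l2_19 h) (by norm_num)
  · obtain ⟨rfl, rfl⟩ := S.pe (s := 23) (k := 1) (by norm_num) hq
    cases hg
    exact S.tc c_l2_23 (L2.dat_l2_23 h) (by norm_num)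
  · obtain ⟨rfl, rfl⟩ := S.pe (s := 5) (k := 2) (by norm_num) hq
    cases hg
    exact S.t2 c_l2_25 S.zero (L2.dat_l2_25 h) (by norm_num)
  · obtain ⟨rfl, rfl⟩ := S.pe (s := 3) (k := 3) (by norm_num) hq
    cases hg
    exact S.t1 c_l2_27 (L2.dat_l2_27 h)
  · obtain ⟨rfl, rfl⟩ := S.pe (s := 29) (k := 1) (by norm_num) hq
    cases hg
    exact S.tc c_l2_29 (L2.dat_l2_29 h) (by norm_num)
  · obtain ⟨rfl, rfl⟩ := S.pe (s := 31) (k := 1) (by norm_num) hq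
    cases hg
    exact S.tc c_l2_31 (L2.dat_l2_31 h) (by norm_num)
  · obtain ⟨rfl, rfl⟩ := S.pe (s := 37) (k := 1) (by norm_num) hq
    cases hg
    exact S.tc c_l2_37 (L2.dat_l2_37 h) (by norm_num)
  · obtain ⟨rfl, rfl⟩ := S.pe (s := 41) (k := 1) (by norm_num) hq
    cases hg
    exact S.tc c_l2_41 (L2.dat_l2_41 h) (by norm_num)
  · obtain ⟨rfl, rfl⟩ := S.pe (s := 43) (k := 1) (by norm_num) hq
    cases hg
    exact S.tc c_l2_43 (L2.dat_l2_43 h) (by norm_num)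
  · obtain ⟨rfl, rfl⟩ := S.pe (s := 47) (k := 1) (by norm_num) hq
    cases hg
    exact S.tc c_l2_47 (L2.dat_l2_47 h) (by norm_num)
  · obtain ⟨rfl, rfl⟩ := S.pe (s := 3) (k := 1) (by norm_num) hq
    cases hg
    exact S.t3 c_l3_3 S.zero rfl rfl (L3.dat_l3_3 h (S.ord (by decide +kernel))) (by norm_num)
  · obtain ⟨rfl, rfl⟩ := S.pe (s := 2) (k := 2) (by norm_num) hq
    have hg' := hg
    cases hg
    exact S.t3 c_l3_4 S.zero (sk_c S hg' h (by decide)) rfl (L3.dat_l3_4 h (S.ord (by decide +kernel))) (by norm_num)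
  · obtain ⟨rfl, rfl⟩ := S.pe (s := 5) (k := 1) (by norm_num) hq
    exact S.t0 c_l3_5
  · obtain ⟨rfl, rfl⟩ := S.pe (s := 2) (k := 1) (by norm_num) hq
    cases hg
    exact S.tE c_l5_2 (L3.dat_l5_2 h) (by norm_num)
  · obtain ⟨rfl, rfl⟩ := S.pe (s := 3) (k := 1) (by norm_num) hq
    cases hg with
    | psp => exact S.t3 c_s4_3 (fun k => hp (k ▸ two_s43 h)) rfl (su_s S (fun k => hp (k ▸ two_s43 h)) h) (S4.dat_s4_3 h (S.ord (by decide +kernel))) (by norm_num)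
    | oodd _ _ _ hn ho => exact absurd hn (by decide)
  · obtain ⟨rfl, rfl⟩ := S.pe (s := 2) (k := 2) (by norm_num) hq
    cases hg with
    | psp => exact S.t3 c_s4_4 S.zero rfl rfl (S4.dat_s4_4 h (S.ord (by decide +kernel))) (by norm_num)
    | oodd _ _ _ hn ho => exact absurd hn (by decide)
  · obtain ⟨rfl, rfl⟩ := S.pe (s := 5) (k := 1) (by norm_num) hq
    cases hg with
    | psp => exact S.t2 c_s4_5 S.zero (S4.dat_s4_5 h) (by norm_num)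
    | oodd _ _ _ hn ho => exact absurd hn (by decide)
  · obtain ⟨rfl, rfl⟩ := S.pe (s := 7) (k := 1) (by norm_num) hq
    cases hg with
    | psp => exact S.t1 c_s4_7 (S4.dat_s4_7 h)
    | oodd _ _ _ hn ho => exact absurd hn (by decide)
  · obtain ⟨rfl, rfl⟩ := S.pe (s := 2) (k := 1) (by norm_num) hq
    cases hg with
    | psp => exact S.t3 c_s6_2 S.zero rfl rfl (S6.dat_s6_2 h (S.ord (by decide +kernel))) (by norm_num)
    | oodd _ _ _ hn ho => exact absurd ho (by decide)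
  · obtain ⟨rfl, rfl⟩ := S.pe (s := 3) (k := 1) (by norm_num) hq
    cases hg with
    | psp => exact S.tE c_s6_3 ⟨⟨_, (S6.dat_s6_3 h).1⟩, (S6.dat_s6_3 h).2⟩ (by norm_num)
    | oodd => exact S.tE c_s6_3 (O7.dat_o7_3 h) (by norm_num)
  · obtain ⟨rfl, rfl⟩ := S.pe (s := 2) (k := 1) (by norm_num) hq
    cases hg with
    | psp => exact S.t1 c_s8_2 (S6.dat_s8_2 h)
    | oodd _ _ _ hn ho => exact absurd ho (by decide)
  · obtain ⟨rfl, rfl⟩ := S.pe (s := 3) (k := 1) (by norm_num) hq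
    cases hg
    exact S.t3 c_u3_3 S.zero (sk_u S h) (su_u S h) (U3.dat_u3_3 h (S.ord (by decide +kernel))) (by norm_num)
  · obtain ⟨rfl, rfl⟩ := S.pe (s := 2) (k := 2) (by norm_num) hq
    cases hg
    exact S.t2 c_u3_4 S.zero (U3.dat_u3_4 h) (by norm_num)
  · obtain ⟨rfl, rfl⟩ := S.pe (s := 5) (k := 1) (by norm_num) hq
    cases hg
    exact S.t2 c_u3_5 S.zero (U3.dat_u3_5 h) (by norm_num)
  · obtain ⟨rfl, rfl⟩ := S.pe (s := 3) (k := 1) (by norm_num) hq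
    have hg' := hg
    cases hg
    exact S.tU c_u4_3 (sk_c S hg' h (by decide)) (U43.dat_u43 h) (U43.dat_u43' h)
  · obtain ⟨rfl, rfl⟩ := S.pe (s := 2) (k := 1) (by norm_num) hq
    cases hg
    exact S.t3 c_u5_2 S.zero rfl rfl (U56.dat_u52 h) (by norm_num)
  · obtain ⟨rfl, rfl⟩ := S.pe (s := 2) (k := 1) (by norm_num) hq
    cases hg
    exact S.t1 c_u6_2 ⟨_, (U56.dat_u62 h).1⟩
  · obtain ⟨rfl, rfl⟩ := S.pe (s := 2) (k := 1) (by norm_num) hq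
    cases hg
    exact S.t3 c_o8p_2 S.zero rfl rfl (O8p.dat_o8p h) (by norm_num)
  · obtain ⟨rfl, rfl⟩ := S.pe (s := 2) (k := 1) (by norm_num) hq
    cases hg
    exact S.t1 c_o8m_2 (O8m.dat_o8m h)
  · obtain ⟨rfl, rfl⟩ := S.pe (s := 3) (k := 1) (by norm_num) hq
    cases hg
    exact S.t3 c_g2_3 S.zero rfl rfl (Exc.dat_g23 h) (by norm_num)
  · obtain ⟨rfl, rfl⟩ := S.pe (s := 2) (k := 2) (by norm_num) hq
    cases hg
    exact S.t3 c_g2_4 S.zero rfl rfl (Exc.dat_g24 h) (by norm_num)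
  · obtain ⟨rfl, rfl⟩ := S.pe (s := 5) (k := 1) (by norm_num) hq
    cases hg
    exact S.cs c_g2_5 (Exc.dat_g25 h) (by norm_num)
  · obtain ⟨rfl, rfl⟩ := S.pe (s := 2) (k := 1) (by norm_num) hq
    cases hg
    exact S.cs c_f4_2 (Exc.dat_f42 h) (by norm_num)
  · obtain ⟨rfl, rfl⟩ := S.pe (s := 2) (k := 1) (by norm_num) hq
    cases hg
    exact S.t1 c_td4_2 ⟨_, Exc.dat_td42 h⟩
  · obtain ⟨rfl, rfl⟩ := S.pe (s := 2) (k := 3) (by norm_num) hq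
    cases hg
    exact S.t3 c_sz_8 S.zero rfl rfl (Sz8.dat_sz8 h) (by norm_num)
  · obtain ⟨rfl, rfl⟩ := S.pe (s := 3) (k := 3) (by norm_num) hq
    exact S.t0 c_ree_27

/-- **the row of the cross characteristic socles** -/
theorem rowCross : RowX qCross := by
  rintro - t n q p T N _ _ _ G c d hna ⟨hp, hA, r, hr, hN⟩ R
  obtain ⟨g, X, e, hg, h, hR⟩ := H364.LieNam.lie_nam OrdDiv.table hr hN
  by_cases hx : Ex X (r ^ e)
  swap
  · exact core R hna hp hg h hR hx fun e => hp (e ▸ hN)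
  rcases hx with ⟨rfl, hq | hq | hq⟩ | ⟨hq, rfl | rfl | rfl⟩
  · obtain ⟨K, _, _, hK', ⟨e'⟩⟩ := isL hg h hq
    exact absurd ⟨5, le_rfl, ⟨e'.trans (S0252.result hK').some⟩⟩ hA
  · obtain ⟨K, _, _, hK', ⟨e'⟩⟩ := isL hg h hq
    exact absurd ⟨5, le_rfl, ⟨e'.trans (S0253.result hK').some⟩⟩ hA
  · obtain ⟨K, _, _, hK', ⟨e'⟩⟩ := isL hg h hq
    exact absurd ⟨6, by decide, ⟨e'.trans (S0254.result hK').some⟩⟩ hA
  · obtain ⟨K, _, _, hK', ⟨e'⟩⟩ := isL hg h hq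
    have := Fact.mk (by decide : Nat.Prime 7)
    have e7 := e'.trans (S0255.result (ZMod.card 7) hK').some.symm
    refine core R hna hp (.psl 2 7 1) ⟨ZMod 7, inferInstance, inferInstance, ZMod.card 7, ⟨e7⟩⟩
      (by rw [Nat.card_congr e7.toEquiv]; exact psl_real (by decide) le_rfl (ZMod.card 7) le_rfl (by decide)) (by decide) ?_
    rintro rfl
    exact hp (Or.inl ⟨ZMod 7, inferInstance, inferInstance, inferInstance, 2, le_rfl, by simp, ⟨e7⟩⟩)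
  · obtain ⟨K, _, _, hK', ⟨e'⟩⟩ := isL hg h hq
    exact absurd ⟨8, by decide, ⟨e'.trans (S0256.result hK').some⟩⟩ hA
  · have h' : OrdDiv.Real (.psu 4 2) N := by
      rw [← hq]
      cases hg
      exact h
    obtain ⟨K, _, _, hK', ⟨e'⟩⟩ := h'
    have e3 := e'.trans (S0822.result hK' (ZMod.card 3)).some
    refine core R hna hp (.psp 2 3 1) ⟨ZMod 3, inferInstance, inferInstance, ZMod.card 3, ⟨e3⟩⟩
      (by rw [Nat.card_congr e3.toEquiv]; exact psp_real (by decide) le_rfl (ZMod.card 3) le_rfl (by decide)) (by decide) ?_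
    rintro rfl
    exact hp (Or.inr (Or.inl ⟨ZMod 3, inferInstance, inferInstance, inferInstance, 2, le_rfl, by simp, ⟨e3⟩⟩))

/-- the row `scross` of class S -/
theorem onCross : On (pRes qCross) := on_of boxRp0 boxSemi boxGreen rowCross

end Cfsg.Agent.N2C.RX.Li
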