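import Mathlib

/-!
# N2 (S3519), box Green, part A: at most one Jordan block has size less than `p` (helper32)
-/

set_option autoImplicit false
set_option linter.unusedSectionVars false

namespace Cfsg.Agent.N2C.RX.Gr

open Module LinearMap Subgroup Polynomial

variable {K V : Type} [Field K] [AddCommGroup V] [Module K V] [FiniteDimensional K V] {p : ℕ}

theorem geom (hp : p.Prime) [CharP K p] (u : End K V) : ∑ i ∈ Finset.range p, u ^ i = (u - 1) ^ (p - 1) := by
  have : Fact p.Prime := ⟨hp⟩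
  have h : ∑ i ∈ Finset.range p, (X : K[X]) ^ i = (X - 1) ^ (p - 1) := by
    refine mul_right_cancel₀ (X_sub_C_ne_zero (1 : K)) ?_
    rw [C_1, geom_sum_mul, ← pow_succ, Nat.sub_add_cancel hp.one_le, sub_pow_char, one_pow]
  simpa using congrArg (aeval u) h

theorem nil (hp : p.Prime) [CharP K p] {u : End K V} (hu : u ^ p = 1) : (u - 1) ^ p = 0 := by
  rw [← Nat.sub_add_cancel hp.one_le, pow_succ, ← geom hp, geom_sum_mul, hu, sub_self]

/-- sums over free orbits -/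
theorem orbit_sum {G Ω : Type} [Group G] [MulAction G Ω] (hp : p.Prime) {σ : G} (hσ : σ ^ p = 1) (u : End K V) (F : Ω → V)
    (hF : ∀ q, F (σ • q) = u (F q)) (S : Finset Ω) (h1 : ∀ q ∈ S, σ • q ∈ S) (h2 : ∀ q ∈ S, σ • q ≠ q) :
    ∑ q ∈ S, F q ∈ range (∑ i ∈ Finset.range p, u ^ i) := by
  classical
  induction S using Finset.strongInduction with
  | H S ih =>
    rcases S.eq_empty_or_nonempty with rfl | ⟨q, hq⟩
    · simp
    have h3 : ∀ i, σ ^ i • q ∈ S := fun i => by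
      induction i with
      | zero => simpa using hq
      | succ i ih => rw [pow_succ', mul_smul]; exact h1 _ ih
    have h4 : ∀ i, F (σ ^ i • q) = (u ^ i) (F q) := fun i => by
      induction i with
      | zero => simp
      | succ i ih => rw [pow_succ', mul_smul, hF, ih, pow_succ', End.mul_apply]
    have h5 : ∀ i j, i < j → j < p → σ ^ i • q ≠ σ ^ j • q := fun i j hij hj e => by
      obtain ⟨k, rfl⟩ := Nat.exists_eq_add_of_lt hij
      rw [add_assoc, pow_add, mul_smul, smul_left_cancel_iff] at e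
      obtain ⟨l, hl⟩ := exists_pow_eq_self_of_coprime (x := σ) (n := k + 1)
        (((Nat.coprime_of_lt_prime (by omega) (by omega) hp).symm).coprime_dvd_right (orderOf_dvd_of_pow_eq_one hσ))
      exact h2 q hq (hl ▸ (MulAction.stabilizer G q).pow_mem e.symm l)
    set O := (Finset.range p).image fun i => σ ^ i • q with hO
    have h6 : O ⊆ S := fun x hx => by
      obtain ⟨i, -, rfl⟩ := Finset.mem_image.1 hx
      exact h3 i
    have h7 : ∀ i, σ ^ i • q ∈ O := fun i => Finset.mem_image.2 ⟨i % p, Finset.mem_range.2 (Nat.mod_lt _ hp.pos), by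
      conv_rhs => rw [← Nat.div_add_mod i p, pow_add, pow_mul, hσ, one_pow, one_mul]⟩
    rw [← Finset.sum_sdiff h6]
    refine add_mem (ih _ (Finset.sdiff_ssubset h6 ⟨_, h7 0⟩) (fun x hx => ?_) fun x hx => h2 x (Finset.mem_sdiff.1 hx).1) ?_
    · obtain ⟨a, b⟩ := Finset.mem_sdiff.1 hx
      refine Finset.mem_sdiff.2 ⟨h1 x a, fun c => b ?_⟩
      obtain ⟨i, -, e⟩ := Finset.mem_image.1 c
      have e' : x = σ ^ (p - 1 + i) • q := by
        rw [pow_add, mul_smul, e, ← mul_smul, ← pow_succ, Nat.sub_add_cancel hp.one_le, hσ, one_smul]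
      exact e' ▸ h7 _
    · rw [hO, Finset.sum_image fun i hi j hj e => ?_]
      · exact ⟨F q, by rw [LinearMap.sum_apply]; exact Finset.sum_congr rfl fun i _ => (h4 i).symm⟩
      · by_contra hne
        rcases lt_or_gt_of_ne hne with k | k
        · exact h5 i j k (Finset.mem_range.1 hj) e
        · exact h5 j i k (Finset.mem_range.1 hi) e.symm

variable {P : Type} [Group P] [Finite P] (ρ : P →* End K V)

/-- the relative trace: an endomorphism over `M` is a scalar on `ker (u - 1) / range (u - 1) ^ (p - 1)` -/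
theorem key (hp : p.Prime) [CharP K p] (irr : ∀ φ : End K V, (∀ t, Commute φ (ρ t)) → ∃ c : K, φ = c • 1) {u : P}
    (hu : u ^ p = 1) (M : Subgroup P) (h5 : u ∈ M) (hM : ∀ t, t⁻¹ * u * t ∈ M → t ∈ M) {φ : End K V} (hφ : ∀ t ∈ M, Commute φ (ρ t)) :
    ∃ c : K, ∀ y, ρ u y = y → φ y - c • y ∈ range ((ρ u - 1) ^ (p - 1)) := by
  classical
  have := Fintype.ofFinite (P ⧸ M)
  let f : P ⧸ M → End K V := fun q => ρ q.out * φ * ρ q.out⁻¹
  have h1 : ∀ t : P, f t = ρ t * φ * ρ t⁻¹ := fun t => by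
    obtain ⟨m, hm⟩ := QuotientGroup.mk_out_eq_mul M t
    show ρ _ * φ * ρ _ = _
    rw [hm, mul_inv_rev, map_mul, map_mul, mul_assoc (ρ t), ← (hφ m m.2).eq, mul_assoc, mul_assoc, ← mul_assoc (ρ m), ← map_mul,
      mul_inv_cancel, map_one, one_mul, mul_assoc]
  have h2 : ∀ (g : P) (q : P ⧸ M), f (g • q) = ρ g * f q * ρ g⁻¹ := fun g q => by
    induction q using QuotientGroup.induction_on with
    | H t => rw [MulAction.Quotient.smul_mk, smul_eq_mul, h1, h1, mul_inv_rev, map_mul, map_mul]; simp only [mul_assoc]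
  obtain ⟨c, hc⟩ := irr (∑ q, f q) fun g => by
    have h3 : ρ g * (∑ q, f q) * ρ g⁻¹ = ∑ q, f q := by
      rw [Finset.mul_sum, Finset.sum_mul, ← Equiv.sum_comp (MulAction.toPerm g) f]
      exact Finset.sum_congr rfl fun q _ => (h2 g q).symm
    show _ * _ = _ * _
    conv_lhs => rw [← h3, mul_assoc, ← map_mul, inv_mul_cancel, map_one, mul_one]
  refine ⟨c, fun y hy => ?_⟩
  have h3 : ρ u⁻¹ y = y := by
    conv_lhs => rw [← hy, ← End.mul_apply, ← map_mul, inv_mul_cancel, map_one]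
    rfl
  have h4 := orbit_sum hp hu (ρ u) (fun q => f q y) (fun q => by rw [h2, End.mul_apply, End.mul_apply, h3])
    (Finset.univ.erase ((1 : P) : P ⧸ M)) (fun q hq => ?_) fun q hq e => ?_
  · rw [geom hp, ← LinearMap.sum_apply, Finset.sum_erase_eq_sub (Finset.mem_univ _), hc, h1, inv_one, map_one, one_mul,
      mul_one] at h4
    exact neg_sub _ (φ y) ▸ neg_mem h4
  · refine Finset.mem_erase.2 ⟨fun e => (Finset.mem_erase.1 hq).1 ?_, Finset.mem_univ _⟩
    rw [← inv_smul_smul u q, e, MulAction.Quotient.smul_mk, smul_eq_mul, mul_one, QuotientGroup.eq, inv_inv, mul_one]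
    exact h5
  · induction q using QuotientGroup.induction_on with
    | H t =>
      rw [MulAction.Quotient.smul_mk, smul_eq_mul, eq_comm, QuotientGroup.eq, ← mul_assoc] at e
      exact (Finset.mem_erase.1 hq).1 (QuotientGroup.eq.2 (by rw [mul_one]; exact inv_mem (hM t e)))

/-- an endomorphism which commutes with `T` and has a given restriction to `ker T` -/
theorem exists_ext (T ψ : End K V) (s : ℕ) (h1 : T * ψ = 0) (h2 : ∀ y, ψ y ∈ range (T ^ s)) (h3 : ψ * T ^ (s + 1) = 0) :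
    ∃ φ : End K V, Commute φ T ∧ ∀ y, T y = 0 → φ y = ψ y := by
  obtain ⟨σ, hσ⟩ := (T ^ s).rangeRestrict.exists_rightInverse_of_surjective (range_rangeRestrict _)
  let χ : End K V := σ ∘ₗ ψ.codRestrict _ h2
  have h4 : T ^ s * χ = ψ := LinearMap.ext fun y => congrArg Subtype.val (LinearMap.congr_fun hσ ⟨ψ y, h2 y⟩)
  have h5 : χ * T ^ (s + 1) = 0 := LinearMap.ext fun y => by
    show σ ⟨ψ ((T ^ (s + 1)) y), _⟩ = 0
    rw [← map_zero σ]
    exact congrArg σ (Subtype.ext (LinearMap.congr_fun h3 y))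
  refine ⟨∑ i ∈ Finset.range (s + 1), T ^ (s - i) * χ * T ^ i, ?_, fun y hy => ?_⟩
  · show _ * _ = _ * _
    rw [Finset.sum_mul, Finset.mul_sum, Finset.sum_range_succ, Finset.sum_range_succ', mul_assoc _ (T ^ s), ← pow_succ,
      mul_assoc _ χ, h5, mul_zero, Nat.sub_zero, pow_zero, mul_one, h4, h1]
    congr 1
    refine Finset.sum_congr rfl fun i hi => ?_
    rw [← mul_assoc, ← mul_assoc, ← pow_succ', mul_assoc _ (T ^ i), ← pow_succ,
      show s - (i + 1) + 1 = s - i by have := Finset.mem_range.1 hi; omega]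
  · rw [LinearMap.sum_apply, Finset.sum_range_succ', Finset.sum_eq_zero fun i _ => by
      rw [End.mul_apply, pow_succ, End.mul_apply (T ^ i), hy, map_zero, map_zero], Nat.sub_zero, pow_zero, mul_one, h4, zero_add]

theorem conj_range {u t : P} (ht : t * u * t⁻¹ ∈ zpowers u) (s : ℕ) {y : V} (hy : y ∈ range ((ρ u - 1) ^ s)) :
    ρ t y ∈ range ((ρ u - 1) ^ s) := by
  obtain ⟨k, hk⟩ := (mem_powers_iff_mem_zpowers (x := u)).2 ht
  have h1 : ρ t * (ρ u - 1) = (ρ u ^ k - 1) * ρ t := by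
    rw [mul_sub, sub_mul, mul_one, one_mul, ← map_pow, ← map_mul, ← map_mul, show u ^ k = _ from hk, inv_mul_cancel_right]
  have h2 : ∀ s, ρ t * (ρ u - 1) ^ s = (ρ u ^ k - 1) ^ s * ρ t := fun s => by
    induction s with
    | zero => simp
    | succ s ih => rw [pow_succ, ← mul_assoc, ih, mul_assoc, h1, ← mul_assoc, ← pow_succ]
  obtain ⟨x, rfl⟩ := hy
  rw [← End.mul_apply, h2, ← mul_geom_sum, (show Commute (ρ u - 1) _ from Commute.sum_right _ _ _ fun i _ =>
    (((Commute.refl (ρ u)).sub_left (Commute.one_left _)).pow_right i)).mul_pow]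
  exact ⟨_, rfl⟩

theorem conj_fix {u t : P} (ht : t⁻¹ * u * t ∈ zpowers u) {y : V} (hy : ρ u y = y) : ρ u (ρ t y) = ρ t y := by
  obtain ⟨k, hk⟩ := (mem_powers_iff_mem_zpowers (x := u)).2 ht
  have h1 : ∀ k : ℕ, ρ (u ^ k) y = y := fun k => by
    induction k with
    | zero => simp
    | succ k ih => rw [pow_succ, map_mul, End.mul_apply, hy, ih]
  rw [← End.mul_apply, ← map_mul, show u * t = t * (t⁻¹ * u * t) by group, ← show u ^ k = _ from hk, map_mul, End.mul_apply, h1]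

/-- the linear algebra -/
theorem one_block {u h : P} {m : ℕ} (hn : h ∈ normalizer (zpowers u : Set P)) (hm : h ^ m = 1) (hm0 : (m : K) ≠ 0)
    (hk : ∀ φ : End K V, Commute φ (ρ u) → Commute φ (ρ h) → ∃ c : K, ∀ y, ρ u y = y → φ y - c • y ∈ range ((ρ u - 1) ^ (p - 1))) :
    finrank K (ker (ρ u - 1)) ≤ finrank K (range ((ρ u - 1) ^ (p - 1))) + 1 := by
  classical
  set T := ρ u - 1 with hT
  set I := range (T ^ (p - 1)) with hI
  have hk1 : ∀ y, y ∈ ker T ↔ ρ u y = y := fun y => sub_eq_zero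
  have n1 : ∀ t ∈ normalizer (zpowers u : Set P), t * u * t⁻¹ ∈ zpowers u := fun t ht =>
    (mem_normalizer_iff.1 ht u).1 (mem_zpowers u)
  have n2 : ∀ t ∈ normalizer (zpowers u : Set P), t⁻¹ * u * t ∈ zpowers u := fun t ht => by
    simpa using n1 _ (inv_mem ht)
  by_contra hlt
  have hex : ∃ s, ker T ⊓ range (T ^ s) ≤ I := ⟨p - 1, inf_le_right⟩
  obtain ⟨s, hs⟩ : ∃ s, Nat.find hex = s + 1 := Nat.exists_eq_succ_of_ne_zero fun e => by
    have h1 := Nat.find_spec hex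
    rw [e, pow_zero, range_eq_top.2 fun y => ⟨y, rfl⟩, inf_top_eq] at h1
    have := Submodule.finrank_mono h1
    omega
  have s1 : ker T ⊓ range (T ^ (s + 1)) ≤ I := hs ▸ Nat.find_spec hex
  have s2 : ¬ ker T ⊓ range (T ^ s) ≤ I := Nat.find_min hex (by omega)
  have s3 : I ≤ range (T ^ (s + 1)) := by
    obtain ⟨k, hk⟩ := Nat.exists_eq_add_of_le (hs ▸ Nat.find_min' hex (m := p - 1) inf_le_right)
    rw [hI, hk, pow_add]
    exact range_comp_le_range _ _
  set F := ker T ⊓ range (T ^ s) with hF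
  have hFt : ∀ t ∈ normalizer (zpowers u : Set P), ∀ y ∈ F, ρ t y ∈ F := fun t ht y hy =>
    ⟨(hk1 _).2 (conj_fix ρ (n2 t ht) ((hk1 _).1 hy.1)), conj_range ρ (n1 t ht) s hy.2⟩
  have hIt : ∀ t ∈ normalizer (zpowers u : Set P), ∀ y ∈ I, ρ t y ∈ I := fun t ht y hy => conj_range ρ (n1 t ht) _ hy
  have hinv : ∀ (t : P) y, ρ t (ρ t⁻¹ y) = y := fun t y => by rw [← End.mul_apply, ← map_mul, mul_inv_cancel, map_one]; rfl
  -- averaging
  have avg : ∀ ψ : End K V, (∀ y, ψ y ∈ F) → (∀ y ∈ range (T ^ (s + 1)), ψ y = 0) →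
      ∃ c : K, ∀ y ∈ ker T, ∑ i ∈ Finset.range m, ρ (h ^ i) (ψ (ρ (h ^ i)⁻¹ y)) - c • y ∈ I := fun ψ a1 a2 => by
    obtain ⟨φ, a3, a4⟩ := exists_ext T ψ s (LinearMap.ext fun y => (a1 y).1) (fun y => (a1 y).2)
      (LinearMap.ext fun y => a2 _ ⟨y, rfl⟩)
    have a5 : Commute φ (ρ u) := by simpa [hT] using a3.add_right (Commute.one_right φ)
    obtain ⟨c, hc⟩ := hk (∑ i ∈ Finset.range m, ρ (h ^ i) * φ * ρ (h ^ i)⁻¹) (Commute.sum_left _ _ _ fun i _ => by
      obtain ⟨k, hk⟩ := (mem_powers_iff_mem_zpowers (x := u)).2 (n2 _ (pow_mem hn i))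
      have a6 : (h ^ i)⁻¹ * u = u ^ k * (h ^ i)⁻¹ := by rw [show u ^ k = _ from hk, mul_inv_cancel_right]
      have a7 : u * h ^ i = h ^ i * u ^ k := by rw [show u ^ k = _ from hk]; group
      show _ * _ = _ * _
      rw [mul_assoc, ← map_mul, a6, map_mul, ← mul_assoc, mul_assoc _ φ, map_pow ρ u, (a5.pow_right k).eq, ← mul_assoc,
        ← map_pow, ← map_mul, ← a7, map_mul]
      simp only [mul_assoc]) (by
      have a6 := Finset.sum_range_succ' (fun i => ρ (h ^ i) * φ * ρ (h ^ i)⁻¹) m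
      rw [Finset.sum_range_succ, hm, pow_zero, add_left_inj] at a6
      show _ * _ = _ * _
      conv_lhs => rw [a6]
      rw [Finset.sum_mul, Finset.mul_sum]
      refine Finset.sum_congr rfl fun i _ => ?_
      rw [mul_assoc, ← map_mul, pow_succ', mul_inv_rev, inv_mul_cancel_right, map_mul]
      simp only [mul_assoc])
    refine ⟨c, fun y hy => ?_⟩
    have a6 := hc y ((hk1 y).1 hy)
    rwa [LinearMap.sum_apply, Finset.sum_congr rfl fun i _ => show _ = ρ (h ^ i) (ψ (ρ (h ^ i)⁻¹ y)) by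
      rw [End.mul_apply, End.mul_apply, a4 _ ((hk1 _).2 (conj_fix ρ (n2 _ (inv_mem (pow_mem hn i))) ((hk1 y).1 hy)))]] at a6
  have cmp : ∀ {f : ℕ → V} {z x : V}, (∀ i, f i - z ∈ I) → ∑ i ∈ Finset.range m, f i - x ∈ I → (m : K) • z - x ∈ I :=
    fun {f z x} a1 a2 => by
      have a3 := I.sub_mem a2 (I.sum_mem fun i (_ : i ∈ Finset.range m) => a1 i)
      rwa [Finset.sum_sub_distrib, Finset.sum_const, Finset.card_range, ← Nat.cast_smul_eq_nsmul K, sub_sub_sub_cancel_left,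
        ← neg_sub, neg_sub] at a3
  have sc : ∀ {c : K} {y : V}, c • y ∈ I → y ∉ I → c = 0 := fun {c y} a1 a2 => by
    by_contra a3
    exact a2 ((I.smul_mem_iff a3).1 a1)
  -- the projection onto a complement of `I` in `F`
  obtain ⟨E, e1, e2, e3⟩ : ∃ E ≤ F, Disjoint E I ∧ F ≤ E ⊔ I := by
    obtain ⟨E, a1⟩ := (I.comap F.subtype).exists_isCompl
    refine ⟨E.map F.subtype, Submodule.map_subtype_le _ _, Submodule.disjoint_def.2 ?_, fun y hy => ?_⟩
    · rintro _ ⟨x, hx, rfl⟩ a2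
      exact congrArg Subtype.val (Submodule.disjoint_def.1 a1.disjoint x a2 hx)
    · obtain ⟨a, ha, b, hb, a2⟩ := Submodule.mem_sup.1 (a1.sup_eq_top ▸ Submodule.mem_top (x := (⟨y, hy⟩ : F)))
      exact Submodule.mem_sup.2 ⟨b, ⟨b, hb, rfl⟩, a, ha, (add_comm _ _).trans (congrArg Subtype.val a2)⟩
  obtain ⟨C, c1, c2⟩ := (show Disjoint E (range (T ^ (s + 1))) from Submodule.disjoint_def.2 fun x a1 a2 =>
    Submodule.disjoint_def.1 e2 x a1 (s1 ⟨(e1 a1).1, a2⟩)).symm.exists_isCompl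
  let π : V →ₗ[K] E := E.projectionOnto C c2.symm
  have p1 : ∀ y ∈ range (T ^ (s + 1)), π y = 0 := fun y hy => Submodule.projectionOnto_apply_right _ ⟨y, c1 hy⟩
  have p2 : ∀ y ∈ F, (π y : V) - y ∈ I := fun y hy => by
    obtain ⟨a, ha, b, hb, rfl⟩ := Submodule.mem_sup.1 (e3 hy)
    rw [map_add, p1 b (s3 hb), add_zero, show π a = ⟨a, ha⟩ from Submodule.projectionOnto_apply_left _ ⟨a, ha⟩,
      sub_add_cancel_left]
    exact neg_mem hb
  have q1 : ∀ t ∈ normalizer (zpowers u : Set P), ∀ y ∈ F, ∀ i, ρ (h ^ i) (ρ t (π (ρ (h ^ i)⁻¹ y))) - ρ (h ^ i * t * (h ^ i)⁻¹) y ∈ I :=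
    fun t ht y hy i => by
      rw [map_mul, map_mul, End.mul_apply, End.mul_apply, ← map_sub, ← map_sub]
      exact hIt _ (pow_mem hn i) _ (hIt t ht _ (p2 _ (hFt _ (inv_mem (pow_mem hn i)) y hy)))
  obtain ⟨y₀, b1, b2⟩ := SetLike.not_le_iff_exists.1 s2
  -- `ker T ≤ F ⊔ I`
  have A : ∀ y ∈ ker T, y ∈ F ⊔ I := fun y hy => by
    obtain ⟨c, hc⟩ := avg (E.subtype ∘ₗ π) (fun y => e1 (π y).2) fun y hy => by simp [p1 y hy]
    have a1 := cmp (z := y₀) (fun i => by simpa using q1 1 (one_mem _) y₀ b1 i) (hc y₀ b1.1)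
    rw [← sub_smul] at a1
    have a2 : c ≠ 0 := sub_eq_zero.1 (sc a1 b2) ▸ hm0
    have a3 := (F ⊔ I).sub_mem (Submodule.mem_sup_left (F.sum_mem fun i (_ : i ∈ Finset.range m) =>
      hFt _ (pow_mem hn i) _ (e1 (π (ρ (h ^ i)⁻¹ y)).2))) (Submodule.mem_sup_right (hc y hy))
    exact ((F ⊔ I).smul_mem_iff a2).1 (by simpa using a3)
  -- `h` is a scalar on `F / I`
  obtain ⟨d, hd⟩ : ∃ d : K, ∀ y ∈ F, ρ h y - d • y ∈ I := by
    obtain ⟨c, hc⟩ := avg (ρ h ∘ₗ E.subtype ∘ₗ π) (fun y => hFt h hn _ (e1 (π y).2)) fun y hy => by simp [p1 y hy]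
    refine ⟨(m : K)⁻¹ * c, fun y hy => ?_⟩
    have a1 := cmp (z := ρ h y) (fun i => by
      have a2 := q1 h hn y hy i
      rwa [((Commute.refl h).pow_left i).eq, mul_inv_cancel_right] at a2) (hc y hy.1)
    have a2 := I.smul_mem (m : K)⁻¹ a1
    rwa [smul_sub, smul_smul, inv_mul_cancel₀ hm0, one_smul, smul_smul] at a2
  have hdi : ∀ i, ∀ y ∈ F, ρ (h ^ i) y - d ^ i • y ∈ I := fun i => by
    induction i with
    | zero => intro y _; simp
    | succ i ih =>
      intro y hy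
      have a1 := I.add_mem (ih _ (hFt h hn y hy)) (I.smul_mem (d ^ i) (hd y hy))
      rwa [smul_sub, sub_add_sub_cancel, smul_smul, ← pow_succ, ← End.mul_apply, ← map_mul, ← pow_succ] at a1
  -- two dimensions
  have h2 : 2 ≤ finrank K E := by
    have a1 := Submodule.finrank_mono (show ker T ≤ E ⊔ I from fun y hy => sup_le e3 le_sup_right (A y hy))
    have a2 := Submodule.finrank_add_le_finrank_add_finrank E I
    omega
  let b := finBasis K E
  let i0 : Fin (finrank K E) := ⟨0, by omega⟩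
  let i1 : Fin (finrank K E) := ⟨1, by omega⟩
  have nb : ∀ i, (b i : V) ∉ I := fun i a => b.ne_zero i (Subtype.ext (Submodule.disjoint_def.1 e2 _ (b i).2 a))
  let ψ : End K V := (b.coord i0 ∘ₗ π).smulRight (b i0 : V)
  have a0 : ∀ y, ψ y ∈ F := fun y => F.smul_mem _ (e1 (b i0).2)
  have a00 : ∀ y ∈ range (T ^ (s + 1)), ψ y = 0 := fun y hy => by simp [ψ, p1 y hy]
  obtain ⟨c, hc⟩ := avg ψ a0 a00
  have a1 : ∀ y ∈ F, (m : K) • ψ y - c • y ∈ I := fun y hy => cmp (fun i => by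
    have a2 := a00 _ (s3 (hdi i _ (hFt _ (inv_mem (pow_mem hn i)) y hy)))
    rw [hinv, map_sub, map_smul, sub_eq_zero] at a2
    rw [a2]
    exact hdi i _ (a0 _)) (hc y hy.1)
  have a2 : ∀ i, π (b i) = b i := fun i => Submodule.projectionOnto_apply_left _ _
  have a3 := a1 _ (e1 (b i0).2)
  have a4 := a1 _ (e1 (b i1).2)
  rw [show ψ (b i0) = b i0 by simp [ψ, a2], ← sub_smul] at a3
  rw [show ψ (b i1) = 0 by simp [ψ, a2, i0, i1], smul_zero, zero_sub, ← neg_smul] at a4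
  exact hm0 ((sub_eq_zero.1 (sc a3 (nb _))).trans (neg_eq_zero.1 (sc a4 (nb _))))

/-- **at most one Jordan block has size less than `p`** -/
theorem jordan (hp : p.Prime) [CharP K p] (irr : ∀ φ : End K V, (∀ t, Commute φ (ρ t)) → ∃ c : K, φ = c • 1)
    {N : Type} [Group N] (π : P →* N) (hπ : Function.Surjective π) (hz : ∀ z, π z = 1 → ∀ φ, Commute φ (ρ z)) {e : ℕ}
    (he : ∀ z, π z = 1 → z ^ e = 1) (hc : p.Coprime e) {g : N} (hg : orderOf g = p) (h2 : ¬ p ^ 2 ∣ Nat.card N)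
    (hC : centralizer {g} ≤ zpowers g) :
    ∃ u : P, π u = g ∧ u ^ p = 1 ∧ finrank K (ker (ρ u - 1)) ≤ finrank K (range ((ρ u - 1) ^ (p - 1))) + 1 := by
  have : Fact p.Prime := ⟨hp⟩
  have hgp : g ^ p = 1 := hg ▸ pow_orderOf_eq_one g
  obtain ⟨u, hu, hup⟩ : ∃ u : P, π u = g ∧ u ^ p = 1 := by
    obtain ⟨v, rfl⟩ := hπ g
    obtain ⟨k, hk⟩ := exists_pow_eq_self_of_coprime (x := π v) (n := e) (hg ▸ hc.symm)
    exact ⟨(v ^ e) ^ k, by rw [map_pow, map_pow, hk], by
      rw [← pow_mul, ← pow_mul, mul_comm e, mul_comm k, mul_assoc, mul_comm k, pow_mul, pow_mul,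
        he _ (by rw [map_pow, hgp]), one_pow]⟩
  have ho : orderOf u = p := orderOf_eq_prime hup fun e' => by
    rw [← hu, e', map_one, orderOf_one] at hg
    exact hp.one_lt.ne hg
  have hP : ¬ p ^ 2 ∣ Nat.card P := fun a => by
    rw [← π.ker.card_mul_index, index_ker, MonoidHom.range_eq_top.2 hπ, card_top] at a
    refine h2 ((Nat.Coprime.pow_left 2 ((Nat.Prime.coprime_iff_not_dvd hp).2 fun b => ?_)).dvd_of_dvd_mul_left a)
    obtain ⟨z, hz⟩ := exists_prime_orderOf_dvd_card' p b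
    have a1 : orderOf (z : P) ∣ e := orderOf_dvd_of_pow_eq_one (he z z.2)
    rw [orderOf_coe, hz] at a1
    exact (Nat.Prime.coprime_iff_not_dvd hp).1 hc a1
  have hR : Nat.card (zpowers u) = p := by rw [Nat.card_zpowers, ho]
  let R : Sylow p P := Sylow.ofCard (zpowers u) (by
    rw [hR, show (Nat.card P).factorization p = 1 from le_antisymm
      (not_lt.1 fun a => hP ((hp.pow_dvd_iff_le_factorization Nat.card_pos.ne').2 a))
      ((hp.dvd_iff_one_le_factorization Nat.card_pos.ne').1 (hR ▸ card_subgroup_dvd_card _)), pow_one])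
  have hM : ∀ t, t⁻¹ * u * t ∈ normalizer (zpowers u : Set P) → t ∈ normalizer (zpowers u : Set P) := fun t ht => by
    have a1 : IsPGroup p (zpowers (t⁻¹ * u * t)) := IsPGroup.of_card (n := 1) (by
      rw [Nat.card_zpowers, pow_one, ← ho]
      exact orderOf_injective (MulAut.conj t).symm.toMonoidHom (MulAut.conj t).symm.injective u)
    have a2 : t⁻¹ * u * t ∈ zpowers u := ((a1.inf_normalizer_sylow R).le ⟨mem_zpowers _, ht⟩).2
    refine inv_mem_iff.1 (mem_normalizer_fintype ?_)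
    rintro _ ⟨k, rfl⟩
    show t⁻¹ * u ^ k * t⁻¹⁻¹ ∈ zpowers u
    rw [← conj_zpow, inv_inv]
    exact zpow_mem a2 k
  have hcyc : IsCyclic (MulAut (zpowers u)) := by
    have a1 : IsCyclic (ZMod (Nat.card (zpowers u)))ˣ := by rw [hR]; infer_instance
    exact isCyclic_of_surjective _ (IsCyclic.mulAutMulEquiv (zpowers u)).symm.surjective
  have hA : Nat.card (MulAut (zpowers u)) = p - 1 := by rw [IsCyclic.card_mulAut, hR, Nat.totient_prime hp]
  let χ := (zpowers u).normalizerMonoidHom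
  obtain ⟨⟨_, h₀, rfl⟩, hgen⟩ := IsCyclic.exists_monoid_generator (α := χ.range)
  have a1 : χ (h₀ ^ p) = χ h₀ := by
    rw [map_pow, ← Nat.sub_add_cancel hp.one_le, pow_succ, ← hA, pow_card_eq_one', one_mul]
  refine ⟨u, hu, hup, one_block ρ (h := ↑(h₀ ^ p)) (h₀ ^ p).2 (pow_orderOf_eq_one _) (fun a => hP ?_) fun φ b1 b2 =>
    key ρ hp irr hup _ (le_normalizer (mem_zpowers u)) hM fun t ht => ?_⟩
  · rw [CharP.cast_eq_zero_iff K p, Subgroup.coe_pow, orderOf_pow] at a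
    by_cases a2 : p ∣ orderOf (h₀ : P)
    · rw [Nat.gcd_eq_right a2, Nat.dvd_div_iff_mul_dvd a2, ← pow_two] at a
      exact a.trans (orderOf_dvd_natCard _)
    · exact (a2 (a.trans (Nat.div_dvd_of_dvd (Nat.gcd_dvd_left _ _)))).elim
  · obtain ⟨i, hi⟩ := hgen ⟨_, ⟨t, ht⟩, rfl⟩
    have a2 : ((h₀ ^ p) ^ i)⁻¹ * ⟨t, ht⟩ ∈ χ.ker := by
      rw [MonoidHom.mem_ker, map_mul, map_inv, map_pow, a1, inv_mul_eq_one]
      exact congrArg Subtype.val hi
    rw [normalizerMonoidHom_ker] at a2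
    set x : P := ((((h₀ ^ p) ^ i)⁻¹ * ⟨t, ht⟩ : normalizer (zpowers u : Set P)) : P) with hx
    have a3 : x * u = u * x := (mem_centralizer_iff.1 a2 u (mem_zpowers u)).symm
    obtain ⟨k, hk⟩ := hC (mem_centralizer_singleton_iff.2 (show π x * g = g * π x by rw [← hu, ← map_mul, a3, map_mul]))
    obtain ⟨l, hl⟩ := (mem_powers_iff_mem_zpowers (x := u)).2 (zpow_mem (mem_zpowers u) k)
    have a4 : t = (↑(h₀ ^ p) : P) ^ i * (u ^ l * ((u ^ k)⁻¹ * x)) := by
      rw [show u ^ l = _ from hl, mul_inv_cancel_left, hx]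
      simp
    rw [a4, map_mul, map_mul, map_pow, map_pow]
    exact (b2.pow_right i).mul_right ((b1.pow_right l).mul_right (hz _ (by
      rw [map_mul, map_inv, map_zpow, hu, show g ^ k = _ from hk, inv_mul_cancel]) φ))

end Cfsg.Agent.N2C.RX.Gr
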