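import Cfsg.Agent.N2.Cl.RX.GreenB1
import Cfsg.Agent.N2.Cl.RX.Defs

/-!
# N2 (S3519), box Green: the bounds for the centraliser in the isometry group (helper38)

`gU`, `gS_even`, `gS`, `gO`.
-/

set_option autoImplicit false
set_option linter.unusedSectionVars false

namespace Cfsg.Agent.N2C.RX.Gr

open Module LinearMap Cfsg.Agent.DS.Cl Cfsg.Agent.DS.Cl.Fwd Cfsg.Agent.N2C.Cyc Cfsg.Agent.SB.Cl
open Cfsg.Agent.LieClassical.OrthCore (O Nondeg)

variable {K V : Type} [Field K] [Fintype K] [AddCommGroup V] [Module K V] [Finite V] {h : HF K V} {u s : h.EB} {p a b : ℕ}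
  {v : Fin a → V} {w : V}

section skew

theorem del_eq (hu : u * star u = 1) : u - star u = (u - 1) * (1 + star u) := by
  rw [mul_add, mul_one, sub_mul, hu, one_mul, sub_add_sub_cancel]

theorem del_pow (hu : u * star u = 1) {k : ℕ} {y : V} (hy : ((h.ap u - 1) ^ k) y = 0) : (h.ap (u - star u) ^ k) y = 0 := by
  have h1 : Commute (u - 1) (1 + star u) := (Commute.one_right _).add_right
    (Commute.sub_left (show Commute u (star u) from hu.trans (mul_eq_one_comm.1 hu).symm) (Commute.one_left _))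
  show h.ap ((u - star u) ^ k) y = 0
  rw [del_eq hu, h1.eq, h1.symm.mul_pow, h.ap_mul, show h.ap ((u - 1) ^ k) y = 0 from hy, map_zero]

theorem del_gen (hp : p.Prime) (h5 : 5 ≤ p) [CharP K p] (hu : u * star u = 1) (j : Jb (h.ap u - 1) p a b v w)
    {W : Submodule K V} (h1 : ∀ y ∈ W, h.ap (u - star u) y ∈ W) (h2 : ∀ i, v i ∈ W) (h3 : w ∈ W) : W = ⊤ := by
  obtain ⟨e, he⟩ := unit_of h5 j (x := u) rfl (fun y => by
    have h4 : (h.ap u - 1) (((h.ap u - 1) ^ (p - 1)) y) = 0 := by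
      rw [← End.mul_apply, ← pow_succ', Nat.sub_add_cancel hp.pos, j.nil, LinearMap.zero_apply]
    exact sub_eq_zero.1 h4) (y₀ := w) (add_sub_cancel _ _).symm
  have h4 : (u - star u) * (u * (e⁻¹ : h.EBˣ)) = u - 1 := by
    rw [del_eq hu, mul_assoc, ← mul_assoc (1 + star u), add_mul, one_mul, mul_eq_one_comm.1 hu, ← he, Units.mul_inv, mul_one]
  refine nak (T := h.ap (u - star u)) (p := p) (LinearMap.ext fun y => del_pow hu (by rw [j.nil, LinearMap.zero_apply])) h1
    fun y => ?_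
  obtain ⟨c, hc⟩ := j.top y
  obtain ⟨d, x, e'⟩ := j.mid _ hc
  refine ⟨h.ap (u * (e⁻¹ : h.EBˣ)) x, ?_⟩
  rw [← h.ap_mul, h4, show y - h.ap (u - 1) x = ∑ i, c i • v i + d • w by
    rw [sub_eq_iff_eq_add.1 e', show h.ap (u - 1) x = (h.ap u - 1) x from rfl]; abel]
  exact W.add_mem (W.sum_mem fun i _ => W.smul_mem _ (h2 i)) (W.smul_mem _ h3)

theorem b_neg (y z : V) : h.b y (-z) = -h.b y z := by rw [← zero_sub, h.sub_right, h.zero_right, zero_sub]

theorem sk_del (hu : u * star u = 1) (hc : s * u = u * s) (y z : V) :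
    h.b (h.ap s (h.ap (u - star u) y)) z = -h.b (h.ap s y) (h.ap (u - star u) z) := by
  have h1 : s * star u = star u * s := by
    calc s * star u = star u * (u * s) * star u := by rw [← mul_assoc, mul_eq_one_comm.1 hu, one_mul]
      _ = star u * s := by rw [← hc, mul_assoc, mul_assoc, hu, mul_one]
  have h2 : s * (u - star u) = (u - star u) * s := by rw [mul_sub, sub_mul, hc, h1]
  rw [← h.ap_mul, h2, h.ap_mul, ← h.b_star, star_sub, star_star, ← neg_sub, ← b_neg]
  rfl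

theorem sk_pow (hu : u * star u = 1) (hc : s * u = u * s) (k : ℕ) : ∀ y z : V,
    h.b (h.ap s ((h.ap (u - star u) ^ k) y)) z = (-1) ^ k * h.b (h.ap s y) ((h.ap (u - star u) ^ k) z) := by
  induction k with
  | zero => intro y z; rw [pow_zero, pow_zero, one_mul]; rfl
  | succ k ih =>
    intro y z
    conv_lhs => rw [pow_succ', End.mul_apply, sk_del hu hc, ih]
    rw [pow_succ (h.ap (u - star u)), End.mul_apply, pow_succ]
    ring

theorem sk_sym {r : ℕ} (hr : ∀ y z, h.b z y = -(-1) ^ r * h.b y z) (hu : u * star u = 1) (hs : star s = -s)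
    (hc : s * u = u * s) (k : ℕ) (y z : V) :
    h.b (h.ap s ((h.ap (u - star u) ^ k) y)) z = (-1) ^ (k + r) * h.b (h.ap s ((h.ap (u - star u) ^ k) z)) y := by
  rw [sk_pow hu hc, ← h.b_star, hs, show ∀ t, h.ap (-s) t = -h.ap s t from fun _ => rfl, b_neg, hr, pow_add]
  ring

theorem sk_zero (hp : p.Prime) (h5 : 5 ≤ p) [CharP K p] (hu : u * star u = 1) (j : Jb (h.ap u - 1) p a b v w)
    (hc : s * u = u * s) (H : ∀ (g g' : Option (Fin a)) (k : ℕ),
      h.b (h.ap s ((h.ap (u - star u) ^ k) (g.elim w v))) (g'.elim w v) = 0) : s = 0 := by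
  have h1 : ∀ (g' : Option (Fin a)) (y : V), h.b (h.ap s y) (g'.elim w v) = 0 := fun g' y => by
    let W : Submodule K V := ⨅ k : ℕ, ker ((h.lin (g'.elim w v)) ∘ₗ (h.ap s * h.ap (u - star u) ^ k))
    have hW : ∀ y, y ∈ W ↔ ∀ k : ℕ, h.b (h.ap s ((h.ap (u - star u) ^ k) y)) (g'.elim w v) = 0 := fun y =>
      Submodule.mem_iInf _
    have h2 : W = ⊤ := del_gen hp h5 hu j (fun y hy => (hW _).2 fun k => by
      have h3 := (hW _).1 hy (k + 1)
      rwa [pow_succ, End.mul_apply] at h3) (fun i => (hW _).2 (H (some i) g')) ((hW _).2 (H none g'))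
    exact (hW y).1 (h2.ge trivial) 0
  let W : Submodule K V := ker (h.ap (star s))
  have hW : ∀ z, z ∈ W ↔ ∀ y, h.b (h.ap s y) z = 0 := fun z =>
    ⟨fun hz y => by rw [← h.b_star, show h.ap (star s) z = 0 from hz, h.zero_right],
      fun hz => h.nondeg _ fun y => by rw [h.b_star, hz]⟩
  have h2 : W = ⊤ := del_gen hp h5 hu j (fun z hz => (hW _).2 fun y => by
    rw [← neg_eq_zero, ← sk_del hu hc, (hW _).1 hz]) (fun i => (hW _).2 (h1 (some i))) ((hW _).2 (h1 none))
  rw [← star_star s, show star s = 0 from ker_eq_top.1 h2, star_zero]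

theorem card_lt : ∀ a ≤ 2, Fintype.card {x : Fin a × Fin a // x.1 < x.2} = a / 2 := by
  intro a ha
  interval_cases a <;> decide

theorem diag {r : ℕ} (hr1 : r ≤ 1) (h2 : (2 : K) ≠ 0) (f : ℕ → K) {n : ℕ} (h1 : ∀ k, n ≤ k → f k = 0)
    (h3 : ∀ k, f k = (-1) ^ (k + r) * f k) (h4 : ∀ m : Fin ((n + 1 - r) / 2), f (2 * m + r) = 0) (k : ℕ) : f k = 0 := by
  by_cases hk : n ≤ k
  · exact h1 k hk
  rcases Nat.even_or_odd (k + r) with e | e
  · obtain ⟨m, hm⟩ := e
    have h5 := h4 ⟨k / 2, by omega⟩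
    rwa [show 2 * (k / 2) + r = k by omega] at h5
  · have h5 := h3 k
    rw [e.neg_one_pow] at h5
    exact (mul_eq_zero.1 (show 2 * f k = 0 by linear_combination h5)).resolve_left h2

/-- **the number of skew elements** -/
theorem cS_le (hp : p.Prime) (h5 : 5 ≤ p) [CharP K p] (hu : u * star u = 1) (j : Jb (h.ap u - 1) p a b v w) {r : ℕ}
    (hr1 : r ≤ 1) (hr : ∀ y z, h.b z y = -(-1) ^ r * h.b y z) (h2 : a ≤ 2) :
    cS u ≤ Fintype.card K ^ (a / 2 * p + (a * ((p + 1 - r) / 2) + (a * b + (b + 1 - r) / 2))) := by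
  let D := h.ap (u - star u)
  let I := ({x : Fin a × Fin a // x.1 < x.2} × Fin p) ⊕ (Fin a × Fin ((p + 1 - r) / 2)) ⊕ (Fin a × Fin b) ⊕
    Fin ((b + 1 - r) / 2)
  let pr : I → V × V := Sum.elim (fun x => ((D ^ (x.2 : ℕ)) (v x.1.1.1), v x.1.1.2))
    (Sum.elim (fun x => ((D ^ (2 * (x.2 : ℕ) + r)) (v x.1), v x.1))
      (Sum.elim (fun x => ((D ^ (x.2 : ℕ)) w, v x.1)) fun x => ((D ^ (2 * (x : ℕ) + r)) w, w)))
  have hI : Nat.card (I → K) = Fintype.card K ^ (a / 2 * p + (a * ((p + 1 - r) / 2) + (a * b + (b + 1 - r) / 2))) := by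
    rw [Nat.card_fun, Nat.card_eq_fintype_card, Nat.card_eq_fintype_card]
    simp only [I, Fintype.card_sum, Fintype.card_prod, Fintype.card_fin, card_lt a h2]
  rw [← hI]
  refine Nat.card_le_card_of_injective (fun s i => h.b (h.ap s.1 (pr i).1) (pr i).2) fun s s' e => Subtype.ext ?_
  have hs : star (s.1 - s'.1) = -(s.1 - s'.1) := by rw [star_sub, s.2.1, s'.2.1, neg_sub_neg, neg_sub]
  have hc : (s.1 - s'.1) * u = u * (s.1 - s'.1) := by rw [sub_mul, mul_sub, s.2.2, s'.2.2]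
  have e0 : ∀ i, h.b (h.ap (s.1 - s'.1) (pr i).1) (pr i).2 = 0 := fun i => by
    rw [h.ap_sub, h.sub_left, sub_eq_zero]
    exact congrFun e i
  have z1 : ∀ k, p ≤ k → ∀ y, (D ^ k) y = 0 := fun k hk y =>
    pow_zero_of_le hk (del_pow hu (by rw [j.nil, LinearMap.zero_apply]))
  have z2 : ∀ k, b ≤ k → (D ^ k) w = 0 := fun k hk => pow_zero_of_le hk (del_pow hu j.wb)
  have sy := sk_sym hr hu hs hc
  have a1 : ∀ i i' : Fin a, i < i' → ∀ k : ℕ, h.b (h.ap (s.1 - s'.1) ((D ^ k) (v i))) (v i') = 0 := fun i i' hi k => by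
    by_cases hk : k < p
    · exact e0 (.inl (⟨(i, i'), hi⟩, ⟨k, hk⟩))
    · rw [z1 k (not_lt.1 hk), map_zero, h.zero_left]
  have a2 : ∀ (i : Fin a) (k : ℕ), h.b (h.ap (s.1 - s'.1) ((D ^ k) w)) (v i) = 0 := fun i k => by
    by_cases hk : k < b
    · exact e0 (.inr (.inr (.inl (i, ⟨k, hk⟩))))
    · rw [z2 k (not_lt.1 hk), map_zero, h.zero_left]
  refine sub_eq_zero.1 (sk_zero hp h5 hu j hc ?_)
  rintro (_ | i) (_ | i') k
  · exact diag hr1 (two_ne h5) (fun k => h.b (h.ap (s.1 - s'.1) ((D ^ k) w)) w) (n := b)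
      (fun k hk => by rw [z2 k hk, map_zero, h.zero_left]) (fun k => sy k w w) (fun m => e0 (.inr (.inr (.inr m)))) k
  · exact a2 i' k
  · exact (sy k (v i) w).trans (by rw [a2, mul_zero])
  · rcases lt_trichotomy i i' with e | rfl | e
    · exact a1 i i' e k
    · exact diag hr1 (two_ne h5) (fun k => h.b (h.ap (s.1 - s'.1) ((D ^ k) (v i))) (v i)) (n := p)
        (fun k hk => by rw [z1 k hk, map_zero, h.zero_left]) (fun k => sy k _ _) (fun m => e0 (.inr (.inl (i, m)))) k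
    · exact (sy k (v i) (v i')).trans (by rw [a1 i' i e, mul_zero])

/-- unitary groups -/
theorem cS_sq_le (hU : IsU h) (u : h.EB) : cS u ^ 2 ≤ cA u := by
  obtain ⟨θ, hθ⟩ := hU.2
  rw [pow_two, cS, ← Nat.card_prod]
  refine Nat.card_le_card_of_injective (fun x => ⟨x.1.1 + h.eb (θ • 1) * x.2.1, by
    rw [add_mul, mul_add, x.1.2.2, mul_assoc, x.2.2.2, ← mul_assoc, ← mul_assoc, sc_comm]⟩) fun x y e => ?_
  have e1 : x.1.1 + h.eb (θ • 1) * x.2.1 = y.1.1 + h.eb (θ • 1) * y.2.1 := congrArg Subtype.val e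
  have e2 := congrArg star e1
  rw [star_add, star_add, star_mul, star_mul, sc_star, x.1.2.1, x.2.2.1, y.1.2.1, y.2.2.1, ← sc_comm, ← sc_comm] at e2
  have e3 : (h.eb (θ • 1) - h.eb (h.τ θ • 1)) * x.2.1 = (h.eb (θ • 1) - h.eb (h.τ θ • 1)) * y.2.1 := by
    linear_combination (norm := noncomm_ring) e1 + e2
  have e4 := (sc_unit hθ.symm).mul_left_cancel e3
  rw [e4] at e1
  exact Prod.ext (Subtype.ext (add_right_cancel e1)) (Subtype.ext e4)

end skew

theorem cA_le (j : Jb (h.ap u - 1) p a b v w) : cA u ≤ Fintype.card K ^ (a ^ 2 * p + 2 * a * b + b) := by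
  have : Module.Finite K V := Module.Finite.of_finite
  rw [← Nat.card_eq_fintype_card]
  refine le_trans ?_ j.card_le
  have : Finite (End K V) := inferInstanceAs (Finite h.EB)
  exact Nat.card_le_card_of_injective (fun x => ⟨h.ap x.1,
    (Commute.sub_right (show Commute (h.ap x.1) (h.ap u) from x.2) (Commute.one_right _)).eq⟩)
    fun x y e => Subtype.ext (congrArg (fun z : {x : End K V // x * (h.ap u - 1) = (h.ap u - 1) * x} => z.1) e)

theorem card_pow_le {m : ℕ} (hm : 0 < m) (hτ : ∀ c : K, c * h.τ c = c ^ m) : Nat.card {c : K // c * h.τ c = 1} ≤ m :=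
  (Nat.card_le_card_of_injective (fun c : {c : K // c * h.τ c = 1} =>
    (⟨Units.mk0 c.1 (left_ne_zero_of_mul_eq_one c.2), Units.ext (by
      rw [Units.val_pow_eq_pow_val, Units.val_mk0, ← hτ, c.2, Units.val_one])⟩ : {c : Kˣ // c ^ m = 1}))
    fun c d e => Subtype.ext (congrArg (fun z : {c : Kˣ // c ^ m = 1} => (z.1 : K)) e)).trans (card_pow_eq_one_le K hm)

theorem card_IsoV_zero (h0 : finrank K V = 0) : Nat.card (IsoV h) ≤ 1 := by
  have : Module.Finite K V := Module.Finite.of_finite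
  have : Subsingleton V := Module.finrank_zero_iff.1 h0
  have : Subsingleton (IsoV h) := ⟨fun a b => Subtype.ext (LinearEquiv.ext fun v => Subsingleton.elim _ _)⟩
  exact Finite.card_le_one_iff_subsingleton.2 this

theorem card_IsoV_O (h2 : (2 : K) ≠ 0) (ht : ∀ c, h.τ c = c) (hs : ∀ x y, h.b x y = h.b y x) :
    ∃ Q : QuadraticForm K V, Nondeg Q ∧ Nat.card (IsoV h) ≤ Nat.card (O Q) := by
  let B : LinearMap.BilinForm K V := LinearMap.mk₂ K h.b h.add_left h.smul_left h.add_right fun c u v => by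
    rw [h.smul_right, ht, smul_eq_mul]
  have : Finite (V ≃ₗ[K] V) := Finite.of_injective _ DFunLike.coe_injective
  refine ⟨B.toQuadraticMap, fun x hx => h.nondeg x fun y => ?_, Subgroup.card_le_of_le fun g hg x => hg x x⟩
  have e := hx y
  rw [LinearMap.BilinMap.polar_toQuadraticMap] at e
  change h.b x y + h.b y x = 0 at e
  rw [hs x y, ← two_mul] at e
  exact (mul_eq_zero.1 e).resolve_left h2

theorem hN_sym {n : h.EB} (hn : star n = n) {η : K} (hs : ∀ y z, h.b z y = η * h.b y z) (y z : range (h.ap n)) :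
    (hN h n hn).b z y = η * (hN h n hn).b y z := by
  obtain ⟨_, y, rfl⟩ := y
  obtain ⟨_, z, rfl⟩ := z
  rw [hN_b hn _ _ (z := y) rfl, hN_b hn _ _ (z := z) rfl]
  show h.b (h.ap n z) y = η * h.b (h.ap n y) z
  rw [← h.b_star, hn, hs]

theorem skew_of (hs : ∀ x, h.b x x = 0) (y z : V) : h.b z y = -1 * h.b y z := by
  have e := hs (y + z)
  rw [h.add_left, h.add_right, h.add_right, hs, hs] at e
  linear_combination e

theorem hN_alt (h2 : (2 : K) ≠ 0) {n : h.EB} (hn : star n = n) (hs : ∀ x, h.b x x = 0) (y : range (h.ap n)) :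
    (hN h n hn).b y y = 0 :=
  (mul_eq_zero.1 (show 2 * (hN h n hn).b y y = 0 by linear_combination hN_sym hn (skew_of hs) y y)).resolve_left h2

/-- **unitary groups** -/
theorem gU (hp : p.Prime) (h5 : 5 ≤ p) [CharP K p] (hu : u * star u = 1) (j : Jb (h.ap u - 1) p a b v w) {q : ℕ} (hU : IsU h)
    (hq : Fintype.card K = q ^ 2) (_h2 : a ≤ 2) : cU u ≤ gB .U q a b (a ^ 2 * p + 2 * a * b + b) := by
  have h0 : 1 ≤ q := Nat.pos_of_ne_zero (by
    rintro rfl
    exact absurd hq (Fintype.card_pos.trans_eq' (by norm_num)).ne')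
  have hr : finrank K (range (h.ap ((u - 1) ^ (p - 1)))) = a := j.rk
  refine (red hp h5 hu j (card_pow_le (m := q + 1) (by omega) fun c => by rw [tau_pow hU hq, pow_succ'])).trans
    (Nat.mul_le_mul (Nat.mul_le_mul_right _ ?_) ?_)
  · split_ifs with ha
    · exact card_IsoV_zero (hr.trans ha)
    · rw [card_IsoV_U (h := hN h _ (star_N hp h5 hu j)) hU hq, hr]
      exact oGU_le h0 (by omega)
  · refine (Nat.pow_le_pow_iff_left two_ne_zero).1 ((cS_sq_le hU u).trans ((cA_le j).trans_eq ?_))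
    rw [hq, ← pow_mul, ← pow_mul, mul_comm]

theorem gS_even (hp : p.Prime) (h5 : 5 ≤ p) [CharP K p] (hu : u * star u = 1) (j : Jb (h.ap u - 1) p a b v w)
    (ht : ∀ c, h.τ c = c) (hs : ∀ x, h.b x x = 0) : a % 2 = 0 := by
  have : Module.Finite K V := Module.Finite.of_finite
  have hr : finrank K (range (h.ap ((u - 1) ^ (p - 1)))) = a := j.rk
  let k := hN h _ (star_N hp h5 hu j)
  let B := LinearMap.mk₂ K k.b k.add_left k.smul_left k.add_right fun c u v => by
    rw [k.smul_right, show k.τ c = c from ht c, smul_eq_mul]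
  exact Nat.even_iff.1 (H727.GW.even_finrank a _ B (hN_alt (two_ne h5) (star_N hp h5 hu j) hs)
    (fun x hx => k.nondeg x fun y => zero_swap (hx y)) hr)

/-- **symplectic groups** -/
theorem gS (hp : p.Prime) (h5 : 5 ≤ p) [CharP K p] (hu : u * star u = 1) (j : Jb (h.ap u - 1) p a b v w)
    (ht : ∀ c, h.τ c = c) (hs : ∀ x, h.b x x = 0) (h2 : a ≤ 2) :
    cU u ≤ gB .S (Fintype.card K) a b (a ^ 2 * p + 2 * a * b + b) := by
  have hr : finrank K (range (h.ap ((u - 1) ^ (p - 1)))) = a := j.rk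
  have he := gS_even hp h5 hu j ht hs
  refine (red hp h5 hu j (card_pow_le (m := 2) two_pos fun c => by rw [ht, pow_two])).trans
    (Nat.mul_le_mul (Nat.mul_le_mul_right _ ?_) ?_)
  · split_ifs with ha
    · exact card_IsoV_zero (hr.trans ha)
    · rw [card_IsoV_Sp (h := hN h _ (star_N hp h5 hu j)) ht (hN_alt (two_ne h5) _ hs) (k := 1) (by omega)]
      exact oSp_le 1 _
  · refine (cS_le hp h5 hu j (r := 0) zero_le_one (fun y z => by rw [pow_zero]; exact skew_of hs y z) h2).trans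
      (Nat.pow_le_pow_right Fintype.card_pos ?_)
    have h3 : a = 0 ∨ a = 2 := by omega
    rcases h3 with h3 | h3 <;> rw [h3] <;> omega

/-- **orthogonal groups** -/
theorem gO (hp : p.Prime) (h5 : 5 ≤ p) [CharP K p] (hu : u * star u = 1) (j : Jb (h.ap u - 1) p a b v w)
    (ht : ∀ c, h.τ c = c) (hs : ∀ x y, h.b x y = h.b y x) (h2 : a ≤ 2) :
    cU u ≤ gB .O (Fintype.card K) a b (a ^ 2 * p + 2 * a * b + b) := by
  have hr : finrank K (range (h.ap ((u - 1) ^ (p - 1)))) = a := j.rk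
  refine (red hp h5 hu j (card_pow_le (m := 2) two_pos fun c => by rw [ht, pow_two])).trans
    (Nat.mul_le_mul (Nat.mul_le_mul_right _ ?_) ?_)
  · obtain ⟨Q, hQ, h3⟩ := card_IsoV_O (h := hN h _ (star_N hp h5 hu j)) (two_ne h5) ht fun x y => by
      rw [hN_sym _ (η := 1) (fun y z => by rw [one_mul, hs]), one_mul]
    split_ifs with ha ha'
    · exact card_IsoV_zero (hr.trans ha)
    · have h4 := card_O_le hQ (by omega)
      rw [hr, ha'] at h4
      exact h3.trans h4
    · exact h3.trans (card_O_two hQ (by omega))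
  · refine (cS_le hp h5 hu j (r := 1) le_rfl (fun y z => by rw [pow_one, neg_neg, one_mul, hs]) h2).trans
      (Nat.pow_le_pow_right Fintype.card_pos ?_)
    have h3 : a = 0 ∨ a = 1 ∨ a = 2 := by omega
    rcases h3 with h3 | h3 | h3 <;> rw [h3] <;> omega

end Cfsg.Agent.N2C.RX.Gr
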