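import Cfsg.Agent.N2.Cl.RX.GreenJ
import Cfsg.Agent.N2.Cl.Cyc.Vec

/-!
# N2 (S3519), box Green: reduction of the centraliser to the skew elements (helper38)

`red` : `cU u ≤ |isometries of the form on range (u - 1)^(p-1)| * |scalars on the small block| * cS u`.
-/

set_option autoImplicit false
set_option linter.unusedSectionVars false

namespace Cfsg.Agent.N2C.RX.Gr

open Module LinearMap Cfsg.Agent.DS.Cl Cfsg.Agent.DS.Cl.Fwd Cfsg.Agent.N2C.Cyc

section ring

variable {A : Type} [Ring A] [StarRing A] {u x z : A}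

theorem st_comm (h1 : u * star u = 1) (h2 : star u * u = 1) (hx : x * u = u * x) : star x * u = u * star x := by
  have h3 : star u * star x = star x * star u := by rw [← star_mul, hx, star_mul]
  calc star x * u = u * (star u * star x) * u := by rw [← mul_assoc, h1, one_mul]
    _ = u * star x := by rw [h3, mul_assoc, mul_assoc, h2, mul_one]

theorem st_pow (h1 : u * star u = 1) (h2 : star u * u = 1) (k : ℕ) : star ((u - 1) ^ k) = (-star u) ^ k * (u - 1) ^ k := by
  have h3 : Commute (-star u) (u - 1) :=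
    (Commute.sub_right (show Commute (star u) u from h2.trans h1.symm) (Commute.one_right _)).neg_left
  rw [star_pow, ← h3.mul_pow, star_sub, star_one, neg_mul, mul_sub, h2, mul_one, neg_sub]

theorem st_top (h1 : u * star u = 1) (h2 : star u * u = 1) {k : ℕ} (hk : Even k) (h : (u - 1) ^ (k + 1) = 0) :
    star ((u - 1) ^ k) = (u - 1) ^ k := by
  have h3 : u * (u - 1) ^ k = (u - 1) ^ k := by
    rw [pow_succ', sub_mul, one_mul, sub_eq_zero] at h
    exact h
  have h4 : star u * (u - 1) ^ k = (u - 1) ^ k := by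
    conv_lhs => rw [← h3, ← mul_assoc, h2, one_mul]
  have h5 : ∀ m : ℕ, star u ^ m * (u - 1) ^ k = (u - 1) ^ k := fun m => by
    induction m with
    | zero => rw [pow_zero, one_mul]
    | succ m ih => rw [pow_succ, mul_assoc, h4, ih]
  rw [st_pow h1 h2, hk.neg_pow, h5]

/-- Cayley -/
theorem cay (h1 : star z * z = 1) (hu : z * u = u * z) (hz : IsUnit (z + 1)) :
    ∃ i : A, (z + 1) * i = 1 ∧ i * (z + 1) = 1 ∧ star i = 1 - i ∧ i * u = u * i := by
  obtain ⟨e, he⟩ := hz
  have h2 : (e : A) * u = u * e := by rw [he, add_mul, mul_add, hu, one_mul, mul_one]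
  refine ⟨(e⁻¹ : Aˣ), by rw [← he, Units.mul_inv], by rw [← he, Units.inv_mul], ?_, ?_⟩
  · have h3 : star (e : A) * z = e := by rw [he, star_add, star_one, add_mul, h1, one_mul, add_comm]
    have h4 : star ((e⁻¹ : Aˣ) : A) * star (e : A) = 1 := by rw [← star_mul, Units.mul_inv, star_one]
    calc star ((e⁻¹ : Aˣ) : A) = star ((e⁻¹ : Aˣ) : A) * (star (e : A) * z) * (e⁻¹ : Aˣ) := by
          rw [h3, Units.mul_inv_cancel_right]
      _ = (z + 1 - 1) * (e⁻¹ : Aˣ) := by rw [← mul_assoc, h4, one_mul, add_sub_cancel_right]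
      _ = _ := by rw [← he, sub_mul, Units.mul_inv, one_mul]
  · rw [Units.inv_mul_eq_iff_eq_mul, ← mul_assoc, h2, Units.mul_inv_cancel_right]

end ring

theorem card_le_fib {X Y S : Type} [Finite Y] [Finite S] (f : X → Y) (g : ∀ x₀ x : X, f x₀ = f x → S)
    (hg : ∀ x₀ x x' e e', g x₀ x e = g x₀ x' e' → x = x') : Nat.card X ≤ Nat.card Y * Nat.card S := by
  rcases isEmpty_or_nonempty X with _ | _
  · simp
  rw [← Nat.card_prod]
  refine Nat.card_le_card_of_injective (fun x => (f x, g (Function.invFun f (f x)) x (Function.invFun_eq ⟨x, rfl⟩)))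
    fun x x' e => ?_
  have e1 : f x = f x' := congrArg Prod.fst e
  have e2 := congrArg Prod.snd e
  have key : ∀ (a a' : X) (ha : f a = f x) (ha' : f a' = f x'), a = a' → g a x ha = g a' x' ha' → x = x' := by
    rintro a _ ha ha' rfl
    exact hg a x x' ha ha'
  exact key _ _ _ _ (by rw [e1]) e2

variable {K V : Type} [Field K] [Fintype K] [AddCommGroup V] [Module K V] [Finite V] {h : HF K V} {u x : h.EB} {p a b : ℕ}
  {v : Fin a → V} {w : V}

theorem iso (hx : x * star x = 1) (y z : V) : h.b (h.ap x y) (h.ap x z) = h.b y z := by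
  rw [← h.b_star, ← h.ap_mul, mul_eq_one_comm.1 hx, h.ap_one]

theorem cm (hx : x * u = u * x) (k : ℕ) (y : V) : h.ap x (((h.ap u - 1) ^ k) y) = ((h.ap u - 1) ^ k) (h.ap x y) :=
  LinearMap.congr_fun ((Commute.sub_right (show Commute (h.ap x) (h.ap u) from hx) (Commute.one_right _)).pow_right k).eq y

theorem cm1 (hx : x * u = u * x) (y : V) : h.ap x ((h.ap u - 1) y) = (h.ap u - 1) (h.ap x y) := by
  simpa only [pow_one] using cm hx 1 y

theorem orth (hu : u * star u = 1) {k : ℕ} {z : V} (hz : ((h.ap u - 1) ^ k) z = 0) (y : V) :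
    h.b (((h.ap u - 1) ^ k) y) z = 0 := by
  have e := h.b_star ((u - 1) ^ k) y z
  rw [st_pow hu (mul_eq_one_comm.1 hu), h.ap_mul, show h.ap ((u - 1) ^ k) z = 0 from hz, map_zero, h.zero_right] at e
  exact e.symm

theorem zero_swap {y z : V} (e : h.b y z = 0) : h.b z y = 0 := by rw [h.swap, e, map_zero, mul_zero]

theorem pre {n : h.EB} (hn : star n = n) (x y : range (h.ap n)) {z : V} (hz : h.ap n z = y) : h.b x y.2.choose = h.b x z := by
  obtain ⟨_, x, rfl⟩ := x
  show h.b (h.ap n x) _ = h.b (h.ap n x) _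
  rw [← h.b_star, ← h.b_star, hn, hz, y.2.choose_spec]

/-- the form on the image of a self-adjoint endomorphism -/
noncomputable def hN (h : HF K V) (n : h.EB) (hn : star n = n) : HF K (range (h.ap n)) where
  τ := h.τ
  ε := h.ε
  b x y := h.b x y.2.choose
  add_left x x' y := h.add_left _ _ _
  smul_left c x y := h.smul_left _ _ _
  swap x y := by
    rw [← h.swap]
    conv_lhs => rw [← y.2.choose_spec, ← h.b_star, hn, x.2.choose_spec]
  τ_τ := h.τ_τ
  nondeg y hy := Subtype.ext (h.nondeg _ fun z => by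
    have e := hy ⟨_, z, rfl⟩
    change h.b (h.ap n z) _ = 0 at e
    rwa [← h.b_star, hn, y.2.choose_spec] at e)

theorem hN_b {n : h.EB} (hn : star n = n) (x y : range (h.ap n)) {z : V} (hz : h.ap n z = y) : (hN h n hn).b x y = h.b x z :=
  pre hn x y hz

/-- the restriction of an isometry -/
noncomputable def rs {n : h.EB} (hn : star n = n) (hx : x * star x = 1) (hc : x * n = n * x) : IsoV (hN h n hn) :=
  have : Module.Finite K V := Module.Finite.of_finite
  ⟨LinearEquiv.ofInjectiveEndo ((h.ap x).restrict (p := range (h.ap n)) (q := range (h.ap n)) (by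
      rintro _ ⟨y, rfl⟩
      exact ⟨h.ap x y, by rw [← h.ap_mul, ← hc, h.ap_mul]⟩)) (fun y z e => Subtype.ext (by
      have e1 : h.ap x y = h.ap x z := congrArg Subtype.val e
      rw [← h.ap_one y, ← mul_eq_one_comm.1 hx, h.ap_mul, e1, ← h.ap_mul, mul_eq_one_comm.1 hx, h.ap_one])), by
    rintro y ⟨_, z, rfl⟩
    rw [hN_b hn y _ (z := z) rfl]
    refine (hN_b hn _ _ (z := h.ap x z) ?_).trans (iso hx _ _)
    exact congrArg (fun s => h.ap s z) hc.symm⟩

theorem rs_apply {n : h.EB} (hn : star n = n) (hx : x * star x = 1) (hc : x * n = n * x) (y : range (h.ap n)) :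
    (((rs hn hx hc).1 y : range (h.ap n)) : V) = h.ap x y := rfl

theorem mem_range_of {n : h.EB} (hn : star n = n) {y : V} (hy : ∀ z, h.ap n z = 0 → h.b z y = 0) : y ∈ range (h.ap n) := by
  have h1 : h.lin y ∈ (ker (h.ap n)).dualAnnihilator := (Submodule.mem_dualAnnihilator _).2 fun z hz => hy z hz
  rw [← range_dualMap_eq_dualAnnihilator_ker] at h1
  obtain ⟨g, hg⟩ := h1
  obtain ⟨z, hz⟩ := h.exists_rep g
  refine ⟨z, h.ext_right fun s => ?_⟩
  rw [← hn, h.b_star, hz]
  exact LinearMap.congr_fun hg s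

theorem two_ne (h5 : 5 ≤ p) [CharP K p] : (2 : K) ≠ 0 := fun e =>
  absurd (Nat.le_of_dvd two_pos ((CharP.cast_eq_zero_iff K p 2).1 (by exact_mod_cast e))) (by omega)

theorem star_N (hp : p.Prime) (h5 : 5 ≤ p) (hu : u * star u = 1) (j : Jb (h.ap u - 1) p a b v w) :
    star ((u - 1) ^ (p - 1)) = (u - 1) ^ (p - 1) :=
  st_top hu (mul_eq_one_comm.1 hu) (hp.even_sub_one (by omega)) (by rw [Nat.sub_add_cancel hp.pos]; exact j.nil)

theorem N_w (j : Jb (h.ap u - 1) p a b v w) : ((h.ap u - 1) ^ (p - 1)) w = 0 :=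
  pow_zero_of_le (Nat.le_sub_one_of_lt j.lt) j.wb

theorem ww_ne (hp : p.Prime) (h5 : 5 ≤ p) (hu : u * star u = 1) (j : Jb (h.ap u - 1) p a b v w) (hb : 0 < b) :
    h.b (((h.ap u - 1) ^ (b - 1)) w) w ≠ 0 := fun e => j.ne hb (mem_range_of (star_N hp h5 hu j) fun z hz => by
  obtain ⟨c, y, rfl⟩ := j.mid z hz
  have h1 : ((h.ap u - 1) ^ (1 : ℕ)) (((h.ap u - 1) ^ (b - 1)) w) = 0 := by
    rw [← End.mul_apply, ← pow_add, Nat.add_sub_cancel' hb, j.wb]
  have h2 := orth hu h1 y
  rw [pow_one] at h2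
  rw [h.add_left, h.smul_left, zero_swap e, h2, mul_zero, add_zero])

/-- the scalar on the small block -/
theorem exists_c (hp : p.Prime) (h5 : 5 ≤ p) (hu : u * star u = 1) (j : Jb (h.ap u - 1) p a b v w) (hx : x * star x = 1)
    (hc : x * u = u * x) : ∃ c : {c : K // c * h.τ c = 1 ∧ (b = 0 → c = 1)}, ∃ y, h.ap x w = c.1 • w + (h.ap u - 1) y := by
  rcases Nat.eq_zero_or_pos b with hb | hb
  · have h0 : w = 0 := by simpa [hb] using j.wb
    exact ⟨⟨1, by rw [map_one, mul_one], fun _ => rfl⟩, 0, by simp [h0]⟩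
  obtain ⟨c, y, e⟩ := j.mid (h.ap x w) (by rw [← cm hc, N_w j, map_zero])
  refine ⟨⟨c, ?_, fun e => by omega⟩, y, e⟩
  have h1 : ((h.ap u - 1) ^ (1 : ℕ)) (((h.ap u - 1) ^ (b - 1)) w) = 0 := by
    rw [← End.mul_apply, ← pow_add, Nat.add_sub_cancel' hb, j.wb]
  have h2 := orth hu h1 y
  rw [pow_one] at h2
  have h3 : ((h.ap u - 1) ^ (b - 1)) ((h.ap u - 1) y) = ((h.ap u - 1) ^ b) y := by
    rw [← End.mul_apply, ← pow_succ, Nat.sub_add_cancel hb]
  have h4 : ((h.ap u - 1) ^ b) (h.ap x w) = 0 := by rw [← cm hc, j.wb, map_zero]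
  have h5' := iso hx (((h.ap u - 1) ^ (b - 1)) w) w
  rw [cm hc] at h5'
  conv_lhs at h5' => enter [2]; rw [e, map_add, map_smul, h3]
  rw [h.add_left, orth hu h4, add_zero, h.smul_left, e, h.add_right, zero_swap h2, add_zero, h.smul_right, ← mul_assoc] at h5'
  exact mul_right_cancel₀ (ww_ne hp h5 hu j hb) (h5'.trans (one_mul _).symm)

theorem unit_of (h5 : 5 ≤ p) [CharP K p] (j : Jb (h.ap u - 1) p a b v w) (hc : x * u = u * x)
    (h1 : ∀ y, h.ap x (((h.ap u - 1) ^ (p - 1)) y) = ((h.ap u - 1) ^ (p - 1)) y) {y₀ : V}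
    (h2 : h.ap x w = w + (h.ap u - 1) y₀) : IsUnit (x + 1) := by
  have hc' : (x - 1) * u = u * (x - 1) := by rw [sub_mul, mul_sub, hc, one_mul, mul_one]
  have h3 : ∀ y, ∃ z, h.ap ((x - 1) ^ 2) y = (h.ap u - 1) z := fun y => by
    obtain ⟨c, z, e⟩ := j.mid (h.ap (x - 1) y) (by rw [← cm hc', h.ap_sub, h1, h.ap_one, sub_self])
    refine ⟨c • y₀ + h.ap (x - 1) z, ?_⟩
    rw [pow_two, h.ap_mul, e, map_add, map_smul, cm1 hc', h.ap_sub, h2, h.ap_one, add_sub_cancel_left, map_add, map_smul]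
  have hc2 : (x - 1) ^ 2 * u = u * (x - 1) ^ 2 := (Commute.pow_left hc' 2).eq
  have h4 : ∀ k y, ∃ z, h.ap (((x - 1) ^ 2) ^ k) y = ((h.ap u - 1) ^ k) z := fun k => by
    induction k with
    | zero => exact fun y => ⟨y, rfl⟩
    | succ k ih =>
      intro y
      obtain ⟨z, e⟩ := ih y
      obtain ⟨z', e'⟩ := h3 z
      exact ⟨z', by rw [pow_succ', h.ap_mul, e, cm hc2, e', pow_succ, End.mul_apply]⟩
  have h6 : IsNilpotent (x - 1) := ⟨2 * p, by
    rw [pow_mul]
    refine h.ap_ext fun y => ?_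
    obtain ⟨z, e⟩ := h4 p y
    rw [e, j.nil]
    rfl⟩
  have h7 := h6.isUnit_add_left_of_commute (sc_unit (h := h) (c := 1) (d := -1) (fun e => two_ne h5 (by
    linear_combination e))) (by
      exact (Commute.sub_right (sc_comm 1 _).symm (sc_comm (-1) _).symm))
  have h8 : h.eb ((1 : K) • 1) - h.eb ((-1 : K) • 1) + (x - 1) = x + 1 := h.ap_ext fun y => by
    change (1 : K) • y - (-1 : K) • y + (h.ap x y - y) = h.ap x y + y
    module
  rwa [h8] at h7

/-- **reduction** -/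
theorem red (hp : p.Prime) (h5 : 5 ≤ p) [CharP K p] (hu : u * star u = 1) (j : Jb (h.ap u - 1) p a b v w) {m : ℕ}
    (hm : Nat.card {c : K // c * h.τ c = 1} ≤ m) :
    cU u ≤ Nat.card (IsoV (hN h _ (star_N hp h5 hu j))) * (if b = 0 then 1 else m) * cS u := by
  have hu' := mul_eq_one_comm.1 hu
  have hcN : ∀ x : h.EB, x * u = u * x → x * (u - 1) ^ (p - 1) = (u - 1) ^ (p - 1) * x := fun x hx =>
    ((Commute.sub_right (show Commute x u from hx) (Commute.one_right _)).pow_right _).eq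
  choose c y hy using fun x : {x : h.EB // x * star x = 1 ∧ x * u = u * x} => exists_c hp h5 hu j x.2.1 x.2.2
  let f := fun x : {x : h.EB // x * star x = 1 ∧ x * u = u * x} => (rs (star_N hp h5 hu j) x.2.1 (hcN _ x.2.2), c x)
  have key : ∀ x₀ x, f x₀ = f x → ∃ i : h.EB, (star x₀.1 * x.1 + 1) * i = 1 ∧ i * (star x₀.1 * x.1 + 1) = 1 ∧
      star i = 1 - i ∧ i * u = u * i := fun x₀ x e => by
    have h0 := mul_eq_one_comm.1 x₀.2.1
    have h1 := st_comm hu hu' x₀.2.2
    have h2 : star x₀.1 * x.1 * u = u * (star x₀.1 * x.1) := by rw [mul_assoc, x.2.2, ← mul_assoc, h1, mul_assoc]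
    refine cay (by rw [star_mul, star_star, mul_assoc, ← mul_assoc x₀.1, x₀.2.1, one_mul, mul_eq_one_comm.1 x.2.1]) h2
      (unit_of h5 j h2 (fun z => ?_) (y₀ := h.ap (star x₀.1) (y x - y x₀)) ?_)
    · have e1 : h.ap x₀.1 (((h.ap u - 1) ^ (p - 1)) z) = h.ap x.1 (((h.ap u - 1) ^ (p - 1)) z) :=
        congrArg (fun g : IsoV (hN h _ (star_N hp h5 hu j)) => ((g.1 ⟨_, z, rfl⟩ : range (h.ap ((u - 1) ^ (p - 1)))) : V))
          (congrArg Prod.fst e)
      rw [h.ap_mul, ← e1, ← h.ap_mul, h0, h.ap_one]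
    · have e1 : c x₀ = c x := congrArg Prod.snd e
      have e2 : h.ap x.1 w = h.ap x₀.1 w + (h.ap u - 1) (y x - y x₀) := by rw [hy, hy, e1, map_sub]; abel
      rw [h.ap_mul, e2, map_add, ← h.ap_mul, h0, h.ap_one, cm1 h1]
  choose i i1 i2 i3 i4 using key
  have : Finite (range (h.ap ((u - 1) ^ (p - 1))) ≃ₗ[K] range (h.ap ((u - 1) ^ (p - 1)))) :=
    Finite.of_injective _ DFunLike.coe_injective
  refine (card_le_fib (S := {x : h.EB // star x = -x ∧ x * u = u * x}) f (fun x₀ x e => ⟨i x₀ x e - (1 - i x₀ x e), by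
      rw [star_sub, star_sub, star_one, i3, sub_sub_cancel, neg_sub], by
      rw [sub_mul, sub_mul, mul_sub, mul_sub, i4, one_mul, mul_one]⟩) fun x₀ x x' e e' ee => ?_).trans ?_
  · have e1 : i x₀ x e - (1 - i x₀ x e) = i x₀ x' e' - (1 - i x₀ x' e') := congrArg Subtype.val ee
    have e2 : i x₀ x e = i x₀ x' e' := h.ap_ext fun z => smul_right_injective V (two_ne h5 (K := K)) (by
      have e3 : h.ap (i x₀ x e) z - (z - h.ap (i x₀ x e) z) = h.ap (i x₀ x' e') z - (z - h.ap (i x₀ x' e') z) :=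
        congrArg (fun s => h.ap s z) e1
      show (2 : K) • _ = (2 : K) • _
      linear_combination (norm := module) e3)
    have e3 : star x₀.1 * x.1 + 1 = star x₀.1 * x'.1 + 1 := left_inv_eq_right_inv (i1 x₀ x e) (e2 ▸ i2 x₀ x' e')
    have e4 : x₀.1 * star x₀.1 * x.1 = x₀.1 * star x₀.1 * x'.1 := by rw [mul_assoc, mul_assoc, add_right_cancel e3]
    rw [x₀.2.1, one_mul, one_mul] at e4
    exact Subtype.ext e4
  · rw [Nat.card_prod]
    refine Nat.mul_le_mul_right _ (Nat.mul_le_mul_left _ ?_)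
    split_ifs with hb
    · exact Finite.card_le_one_iff_subsingleton.2 ⟨fun c d => Subtype.ext ((c.2.2 hb).trans (d.2.2 hb).symm)⟩
    · exact (Nat.card_le_card_of_injective (fun c : {c : K // c * h.τ c = 1 ∧ (b = 0 → c = 1)} =>
        (⟨c.1, c.2.1⟩ : {c : K // c * h.τ c = 1}))
        fun c d e => Subtype.ext (congrArg (fun z : {c : K // c * h.τ c = 1} => z.1) e)).trans hm

end Cfsg.Agent.N2C.RX.Gr
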