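import Cfsg.Agent.N2.Cl.RX.GreenA

/-!
# N2 (S3519), box Green: `a` blocks of size `p` and one block of size `b < p` (helper32)
-/

set_option autoImplicit false
set_option linter.unusedSectionVars false

namespace Cfsg.Agent.N2C.RX.Gr

open Module LinearMap

variable {K V : Type} [Field K] [AddCommGroup V] [Module K V] [FiniteDimensional K V] {p a b : ℕ} {T : End K V}
  {v : Fin a → V} {w : V}

/-- generators `v i` of the blocks of size `p`, `w` of the block of size `b` -/
structure Jb (T : End K V) (p a b : ℕ) (v : Fin a → V) (w : V) : Prop where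
  nil : T ^ p = 0
  lt : b < p
  wb : (T ^ b) w = 0
  dim : finrank K V = a * p + b
  rk : finrank K (range (T ^ (p - 1))) = a
  top : ∀ y, ∃ c : Fin a → K, (T ^ (p - 1)) (y - ∑ i, c i • v i) = 0
  mid : ∀ y, (T ^ (p - 1)) y = 0 → ∃ (c : K) (x : V), y = c • w + T x
  ne : 0 < b → (T ^ (b - 1)) w ∉ range (T ^ (p - 1))
  ker : finrank K (ker (T ^ b)) ≤ a * b + b

theorem tele (T : End K V) (k : ℕ) :
    finrank K (range (T ^ k)) = finrank K (range (T ^ (k + 1))) + finrank K (ker T ⊓ range (T ^ k) : Submodule K V) := by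
  rw [← (T.domRestrict (range (T ^ k))).finrank_range_add_finrank_ker, range_domRestrict, pow_succ', End.mul_eq_comp, range_comp,
    ker_domRestrict, ← Submodule.finrank_map_subtype_eq, Submodule.map_comap_subtype, inf_comm]

theorem range_pow_le (T : End K V) {i j : ℕ} (h : i ≤ j) : range (T ^ j) ≤ range (T ^ i) := by
  obtain ⟨k, rfl⟩ := Nat.exists_eq_add_of_le h
  rw [pow_add]
  exact range_comp_le_range _ _

theorem pow_zero_of_le {i j : ℕ} (h : i ≤ j) {y : V} (hy : (T ^ i) y = 0) : (T ^ j) y = 0 := by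
  obtain ⟨k, rfl⟩ := Nat.exists_eq_add_of_le' h
  rw [pow_add, End.mul_apply, hy, map_zero]

/-- Nakayama -/
theorem nak (hT : T ^ p = 0) {W : Submodule K V} (h1 : ∀ y ∈ W, T y ∈ W) (h2 : ∀ y, ∃ x, y - T x ∈ W) : W = ⊤ := by
  have h3 : ∀ k y, ∃ x, y - (T ^ k) x ∈ W := fun k => by
    induction k with
    | zero => exact fun y => ⟨y, by simp⟩
    | succ k ih =>
      intro y
      obtain ⟨x, hx⟩ := h2 y
      obtain ⟨z, hz⟩ := ih x
      exact ⟨z, by simpa [pow_succ'] using W.add_mem hx (h1 _ hz)⟩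
  refine eq_top_iff.2 fun y _ => ?_
  obtain ⟨x, hx⟩ := h3 p y
  simpa [hT] using hx

theorem gen' (hT : T ^ p = 0) (top : ∀ y, ∃ c : Fin a → K, (T ^ (p - 1)) (y - ∑ i, c i • v i) = 0)
    (mid : ∀ y, (T ^ (p - 1)) y = 0 → ∃ (c : K) (x : V), y = c • w + T x) {W : Submodule K V} (h1 : ∀ y ∈ W, T y ∈ W)
    (h2 : ∀ i, v i ∈ W) (h3 : w ∈ W) : W = ⊤ := nak hT h1 fun y => by
  obtain ⟨c, hc⟩ := top y
  obtain ⟨d, x, e⟩ := mid _ hc
  refine ⟨x, ?_⟩
  rw [show y - T x = ∑ i, c i • v i + d • w by rw [sub_eq_iff_eq_add.1 e]; abel]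
  exact W.add_mem (W.sum_mem fun i _ => W.smul_mem _ (h2 i)) (W.smul_mem _ h3)

theorem Jb.gen (j : Jb T p a b v w) {W : Submodule K V} (h1 : ∀ y ∈ W, T y ∈ W) (h2 : ∀ i, v i ∈ W) (h3 : w ∈ W) : W = ⊤ :=
  gen' j.nil j.top j.mid h1 h2 h3

theorem exists_jb (hp : 0 < p) (hT : T ^ p = 0) (h : finrank K (ker T) ≤ finrank K (range (T ^ (p - 1))) + 1) :
    ∃ (a b : ℕ) (v : Fin a → V) (w : V), Jb T p a b v w := by
  classical
  set I := range (T ^ (p - 1)) with hI
  let β := finBasis K I
  choose v hv using fun i => (β i).2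
  have top : ∀ y, ∃ c : Fin (finrank K I) → K, (T ^ (p - 1)) (y - ∑ i, c i • v i) = 0 := fun y => by
    refine ⟨β.repr ⟨_, y, rfl⟩, ?_⟩
    have h1 := congrArg Subtype.val (β.sum_repr ⟨_, y, rfl⟩)
    rw [Submodule.coe_sum] at h1
    rw [map_sub, map_sum, sub_eq_zero]
    exact h1.symm.trans (Finset.sum_congr rfl fun i _ => by rw [Submodule.coe_smul, map_smul, hv])
  have hR : range T ≤ ker (T ^ (p - 1)) := by
    rintro _ ⟨x, rfl⟩
    rw [mem_ker, ← End.mul_apply, ← pow_succ, Nat.sub_add_cancel hp, hT, LinearMap.zero_apply]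
  have hex : ∃ b, ∃ w, (T ^ (p - 1)) w = 0 ∧ (T ^ b) w = 0 ∧
      ∀ y, (T ^ (p - 1)) y = 0 → ∃ (c : K) (x : V), y = c • w + T x := by
    by_cases h1 : ker (T ^ (p - 1)) ≤ range T
    · exact ⟨0, 0, map_zero _, map_zero _, fun y hy => by
        obtain ⟨x, rfl⟩ := h1 hy
        exact ⟨0, x, by simp⟩⟩
    · obtain ⟨w, h2, h3⟩ := SetLike.not_le_iff_exists.1 h1
      refine ⟨p - 1, w, h2, h2, fun y hy => ?_⟩
      have h4 : range T ⊔ K ∙ w = ker (T ^ (p - 1)) := Submodule.eq_of_le_of_finrank_le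
        (sup_le hR ((Submodule.span_singleton_le_iff_mem _ _).2 h2)) (by
          have a1 := Submodule.finrank_lt_finrank_of_lt (show range T < range T ⊔ K ∙ w from
            lt_of_le_of_ne le_sup_left fun e => h3 (e ▸ Submodule.mem_sup_right (Submodule.mem_span_singleton_self w)))
          have a2 := T.finrank_range_add_finrank_ker
          have a3 := (T ^ (p - 1)).finrank_range_add_finrank_ker
          rw [← hI] at a3
          omega)
      obtain ⟨_, ⟨x, rfl⟩, z, hz, rfl⟩ := Submodule.mem_sup.1 (h4.ge hy)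
      obtain ⟨c, rfl⟩ := Submodule.mem_span_singleton.1 hz
      exact ⟨c, x, add_comm _ _⟩
  obtain ⟨w, w1, w2, mid⟩ := Nat.find_spec hex
  set b := Nat.find hex with hb
  have lt : b < p := (Nat.find_min' hex ⟨w, w1, w1, mid⟩).trans_lt (by omega)
  have ne : 0 < b → (T ^ (b - 1)) w ∉ I := by
    rintro h0 ⟨y, hy⟩
    have h1 : T ^ (p - b) = T * T ^ (p - b - 1) := by rw [← pow_succ', Nat.sub_add_cancel (by omega)]
    refine Nat.find_min hex (m := b - 1) (by omega) ⟨w - (T ^ (p - b)) y, ?_, ?_, fun z hz => ?_⟩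
    · rw [map_sub, w1, h1, End.mul_apply, hR ⟨_, rfl⟩, sub_zero]
    · rw [map_sub, ← hy, ← End.mul_apply, ← pow_add, show b - 1 + (p - b) = p - 1 by omega, sub_self]
    · obtain ⟨c, x, rfl⟩ := mid z hz
      exact ⟨c, x + c • (T ^ (p - b - 1)) y, by rw [h1, End.mul_apply, map_add, map_smul, smul_sub]; abel⟩
  have low : ∀ j ≤ p, finrank K I * j + (b - (p - j)) ≤ finrank K (range (T ^ (p - j))) := fun j => by
    induction j with
    | zero => intro _; omega
    | succ j ih =>
      intro hj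
      have h1 := ih (by omega)
      have h2 := tele T (p - (j + 1))
      rw [show p - (j + 1) + 1 = p - j by omega] at h2
      have h3 : I ≤ ker T ⊓ range (T ^ (p - (j + 1))) := le_inf (by
        rintro _ ⟨x, rfl⟩
        rw [mem_ker, ← End.mul_apply, ← pow_succ', Nat.sub_add_cancel hp, hT, LinearMap.zero_apply]) (range_pow_le T (by omega))
      rw [Nat.mul_succ]
      by_cases h4 : p - (j + 1) < b
      · have h5 := Submodule.finrank_lt_finrank_of_lt (lt_of_le_of_ne h3 fun e => ne (by omega) (e.ge ⟨by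
          show T _ = 0
          rw [← End.mul_apply, ← pow_succ', Nat.sub_add_cancel (by omega), w2], range_pow_le T (by omega) ⟨w, rfl⟩⟩))
        omega
      · have h5 := Submodule.finrank_mono h3
        omega
  have dim : finrank K V = finrank K I * p + b := by
    refine le_antisymm ?_ ((low p le_rfl).trans' (by omega) |>.trans (Submodule.finrank_le _))
    let f : Fin (finrank K I) × Fin p ⊕ Fin b → V := Sum.elim (fun x => (T ^ (x.2 : ℕ)) (v x.1)) fun k => (T ^ (k : ℕ)) w
    have h1 : ∀ i k, (T ^ k) (v i) ∈ Submodule.span K (Set.range f) := fun i k => by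
      by_cases hk : k < p
      · exact Submodule.subset_span ⟨.inl (i, ⟨k, hk⟩), rfl⟩
      · rw [pow_zero_of_le (not_lt.1 hk) (by rw [hT, LinearMap.zero_apply])]
        exact zero_mem _
    have h2 : ∀ k, (T ^ k) w ∈ Submodule.span K (Set.range f) := fun k => by
      by_cases hk : k < b
      · exact Submodule.subset_span ⟨.inr ⟨k, hk⟩, rfl⟩
      · rw [pow_zero_of_le (not_lt.1 hk) w2]
        exact zero_mem _
    have h3 : Submodule.span K (Set.range f) = ⊤ := gen' hT top mid
      (fun y hy => (Submodule.span_le (p := (Submodule.span K (Set.range f)).comap T)).2 (by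
        rintro _ ⟨x | k, rfl⟩
        · show T ((T ^ (x.2 : ℕ)) (v x.1)) ∈ Submodule.span K (Set.range f)
          rw [← End.mul_apply, ← pow_succ']
          exact h1 _ _
        · show T ((T ^ (k : ℕ)) w) ∈ Submodule.span K (Set.range f)
          rw [← End.mul_apply, ← pow_succ']
          exact h2 _) hy) (fun i => h1 i 0) (h2 0)
    have h4 := finrank_range_le_card (R := K) f
    rwa [Set.finrank, h3, finrank_top, Fintype.card_sum, Fintype.card_prod, Fintype.card_fin, Fintype.card_fin,
      Fintype.card_fin] at h4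
  refine ⟨_, b, v, w, hT, lt, w2, dim, rfl, top, mid, ne, ?_⟩
  have h1 := low (p - b) (by omega)
  have h2 := (T ^ b).finrank_range_add_finrank_ker
  rw [show p - (p - b) = b by omega] at h1
  have h3 : finrank K I * p = finrank K I * (p - b) + finrank K I * b := by rw [← Nat.mul_add, Nat.sub_add_cancel lt.le]
  omega

namespace Jb

variable (j : Jb T p a b v w)
include j

theorem div : finrank K V / p = a := by
  rw [j.dim, Nat.add_comm, Nat.add_mul_div_right _ _ (Nat.zero_lt_of_lt j.lt), Nat.div_eq_of_lt j.lt, zero_add]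

theorem mod : finrank K V % p = b := by rw [j.dim, Nat.mul_add_mod_of_lt j.lt]

theorem ext {x y : End K V} (hx : x * T = T * x) (hy : y * T = T * y) (h1 : ∀ i, x (v i) = y (v i)) (h2 : x w = y w) : x = y :=
  LinearMap.ext fun z => (j.gen (W := eqLocus x y) (fun z hz => by
    show x (T z) = y (T z)
    rw [← End.mul_apply, hx, ← End.mul_apply, hy, End.mul_apply, End.mul_apply, show x z = y z from hz]) h1 h2).ge trivial

/-- the order of the centraliser in `End V` -/
theorem card_le [Finite K] : Nat.card {x : End K V // x * T = T * x} ≤ Nat.card K ^ (a ^ 2 * p + 2 * a * b + b) := by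
  have : Finite V := Module.finite_of_finite K
  refine (Nat.card_le_card_of_injective (β := (Fin a → V) × LinearMap.ker (T ^ b)) (fun x => (fun i => x.1 (v i), ⟨x.1 w, by
    rw [mem_ker, ← End.mul_apply, ← (Commute.pow_right x.2 b).eq, End.mul_apply, j.wb, map_zero]⟩))
    fun x y e => Subtype.ext (j.ext x.2 y.2 (congrFun (congrArg Prod.fst e)) (congrArg (fun z => z.2.1) e))).trans ?_
  rw [Nat.card_prod, Nat.card_fun, Module.natCard_eq_pow_finrank (K := K) (V := V),
    Module.natCard_eq_pow_finrank (K := K) (V := LinearMap.ker (T ^ b)), ← pow_mul, ← pow_add, Nat.card_eq_fintype_card (α := Fin a),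
    Fintype.card_fin, j.dim]
  refine Nat.pow_le_pow_right Nat.card_pos ((Nat.add_le_add_left j.ker _).trans (le_of_eq ?_))
  ring

end Jb

end Cfsg.Agent.N2C.RX.Gr
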