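import Cfsg.Agent.N2.Cl.RX.Gen
import Cfsg.Agent.TH.Sim.LieChk

/-!
# N2 (S3519), class S, cross characteristic: the finite list of shapes (helper6)
-/

set_option autoImplicit false

namespace Cfsg.Agent.N2C.RX.Li

open Cfsg Cfsg.Agent.OrdDiv Cfsg.Agent.H902 Cfsg.Agent.H902.Names Cfsg.Agent.TH.Sim Cfsg.Agent.TH.Sim.LieN
open Cfsg.Agent.H889.Enum Cfsg.Agent.TH.Sv Cfsg.Agent.N2C.RX.Gn

/-- the smallest order of a field of another characteristic -/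
def bs (r : ℕ) : ℕ := bif Nat.beq r 2 then 3 else 2

/-- the list -/
def lst : List (Art.Sh × ℕ) :=
  [(.L 2, 7), (.L 2, 8), (.L 2, 11), (.L 2, 13), (.L 2, 16), (.L 2, 17), (.L 2, 19), (.L 2, 23), (.L 2, 25), (.L 2, 27),
   (.L 2, 29), (.L 2, 31), (.L 2, 37), (.L 2, 41), (.L 2, 43), (.L 2, 47), (.L 3, 3), (.L 3, 4), (.L 3, 5), (.L 5, 2),
   (.C 2, 3), (.C 2, 4), (.C 2, 5), (.C 2, 7), (.C 3, 2), (.C 3, 3), (.C 4, 2),
   (.U 3, 3), (.U 3, 4), (.U 3, 5), (.U 4, 3), (.U 5, 2), (.U 6, 2), (.D 4, 2), (.DD 4, 2),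
   (.G2, 3), (.G2, 4), (.G2, 5), (.F4, 2), (.TD4, 2), (.Sz, 8), (.Ree, 27)]

/-- one group -/
def chkN (X : Art.Sh) (r g : ℕ) : Bool :=
  frc (r ^ g) fun q => !okb X r q || (ex2 X q || (decide ((X, q) ∈ lst) ||
    Nat.ble (64 * (ou X r g * ordS X q) ^ 2) (bs r ^ EO (min (lp X q) 100))))

/-- all fields -/
def chkX (X : Art.Sh) : Bool :=
  frc (kk X) fun k => allR (fun g => allU (fun r => Nat.ble 4096 (Nat.pow r (g * k))) (fun r => comp r || chkN X r g) 5000 2) 12 1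

theorem run_cl : allR (fun n => chkX (.L n) && chkX (.C n) && chkX (.U n) && chkX (.D n) && chkX (.DD n)) 14 0 = true := by
  decide +kernel

theorem run_ex : (chkX .G2 && chkX .F4 && chkX .E6 && chkX .E7 && chkX .E8 && chkX .TE6 && chkX .TD4 && chkX .Sz &&
    chkX .Ree && chkX .TF4) = true := by
  decide +kernel

theorem run {X : Art.Sh} (h : rk X ≤ 13) : chkX X = true := by
  have h1 := fun n (hn : n ≤ 13) => allR_sound run_cl (Nat.zero_le n) (by omega)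
  have h2 := run_ex
  simp only [Bool.and_eq_true] at h1 h2
  obtain ⟨⟨⟨⟨⟨⟨⟨⟨⟨a1, a2⟩, a3⟩, a4⟩, a5⟩, a6⟩, a7⟩, a8⟩, a9⟩, a10⟩ := h2
  cases X
  exacts [(h1 _ h).1.1.1.1, (h1 _ h).1.1.1.2, (h1 _ h).1.1.2, (h1 _ h).1.2, (h1 _ h).2, a1, a2, a3, a4, a5, a6, a7, a8, a9,
    a10]

theorem bs_pos (r : ℕ) : 2 ≤ bs r := by
  rw [bs]
  cases Nat.beq r 2 <;> simp

/-- **the list** -/
theorem mem_lst {X : Art.Sh} {r g M n b : ℕ} (h : Art.Real X r g M) (hx : ¬ Ex X (r ^ g)) (hn : lp X (r ^ g) ≤ n)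
    (h3 : 3 ≤ n) (hb : bs r ≤ b) (hA : ¬ 64 * (ou X r g * M) ^ 2 ≤ b ^ EO n) : (X, r ^ g) ∈ lst := by
  have hq : 2 ≤ r ^ g := h.hp.two_le.trans (Nat.le_self_pow (by have := h.hf; omega) r)
  have h2 := bs_pos r
  have h0 : (r ^ g) ^ kk X < 4096 := by
    by_cases h21 : n < 21
    · have := lp_ge hq h.ok
      omega
    refine lt_4096 (Z := n - 2) h (by omega) ?_
    calc 2 ^ (n - 2) ≤ 2 ^ EO n := Nat.pow_le_pow_right two_pos (EO_ge (by omega))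
      _ ≤ b ^ EO n := Nat.pow_le_pow_left (by omega) _
      _ ≤ 64 * (ou X r g * M) ^ 2 := (not_le.1 hA).le
      _ = (8 * (ou X r g * M) * 1) ^ 2 := by ring
      _ ≤ _ := by gcongr <;> omega
  have hX := run (rk_le hq h0)
  rw [← pow_mul] at h0
  have h1 : g < 12 := by
    have h1 : 2 ^ (g * kk X) < 2 ^ 12 := (Nat.pow_le_pow_left h.hp.two_le _).trans_lt h0
    have h2 := (Nat.pow_lt_pow_iff_right (by omega)).1 h1
    exact (Nat.le_mul_of_pos_right g (kk_pos X)).trans_lt h2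
  rw [chkX, frc_eq] at hX
  have h4 := allU_sound (allR_sound hX h.hf (by omega)) h.hp.two_le fun j hj => by
    rw [← Bool.not_eq_true, Nat.ble_eq, not_le]
    exact (Nat.pow_le_pow_left hj _).trans_lt h0
  obtain ⟨h5, h6⟩ := okb_of h hx
  simp only [comp_prime h.hp, chkN, frc_eq, h5, h6, Bool.not_true, Bool.false_or, ordS_eq h, Bool.or_eq_true,
    Nat.ble_eq, decide_eq_true_eq] at h4
  refine h4.resolve_right fun h7 => hA (h7.trans ((Nat.pow_le_pow_left hb _).trans ?_))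
  exact Nat.pow_le_pow_right (by omega) (EO_mono ((min_le_left _ _).trans hn))

end Cfsg.Agent.N2C.RX.Li
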