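import Cfsg.Agent.N2.Cl.RX.Sieve
import Cfsg.Agent.N2.Cl.RX.LieEnum

/-!
# N2 (S3519), class S, cross characteristic: the sieve for one group and the checks (helper6)
-/

set_option autoImplicit false

namespace Cfsg.Agent.N2C.RX.Li

open Cfsg Cfsg.Agent.OrdDiv Cfsg.Agent.H902 Cfsg.Agent.H902.Names Cfsg.Agent.TH.Sim Cfsg.Agent.TH.Sim.LieN
open Cfsg.Agent.H889.Enum Cfsg.Agent.TH.Sv Cfsg.Agent.N2.Tg

/-- the check `chk`; the pairs `su` of a kind and a dimension are excluded -/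
def chk2 (o A lo : ℕ) (lb : ℕ → ℕ) (sk : Kd → ℕ → ℕ → Bool) (su : Kd → ℕ → Bool) (ta tb : ℕ) (els : List El) : Bool :=
  els.all (El.wf o) && wfT ta tb && allU (fun n => Nat.blt o (n ^ 2) || Nat.ble (64 * A ^ 2) (2 ^ Gn.EO n))
    (fun n => frc (Dc n ta tb) fun D => [Kd.L, .U, .S, .O, .P, .M].all fun t => su t n || chkT t n o A lb sk D els) 300 lo

variable {t : Kd} {n q p T : ℕ} {N : Type} [Group N] {G : Prop} {c d : N → ℕ} {o A lo ta tb : ℕ} {lb : ℕ → ℕ}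
  {sk : Kd → ℕ → ℕ → Bool} {su : Kd → ℕ → Bool} {els : List El}

theorem sieve2 [Finite N] [IsSimpleGroup N] (R : Rp t n q p T N G c d) (hna : ¬ IsMulCommutative N)
    (ho : Nat.card N = o) (hA : Nat.card (MulAut N) ≤ A) (hlo : lo ≤ n) (hlb : lb p ≤ n) (hsk : sk t n q = false)
    (hsu : su t n = false) (ht : ta ≠ 0 → ∃ c, Tri N ta tb c) (he : ∀ e ∈ els, e.Ok N)
    (h : chk2 o A lo lb sk su ta tb els = true) : G := by
  rw [chk2, Bool.and_eq_true, Bool.and_eq_true, List.all_eq_true] at h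
  obtain ⟨⟨h1, h2⟩, h3⟩ := h
  rcases allU_sound h3 hlo with h4 | ⟨j, -, h4, h5⟩
  · rw [frc_eq, List.all_eq_true] at h4
    have h5 := h4 t (by cases t <;> decide)
    rw [hsu, Bool.false_or] at h5
    have hD : ∃ g, d g ≤ Dc n ta tb := by
      obtain ⟨g, hg⟩ := R.exists_small hna
      rw [Dc]
      by_cases h0 : ta = 0
      · subst h0
        exact ⟨g, hg⟩
      · rw [show Nat.beq ta 0 = false from by rw [← Bool.not_eq_true, Nat.beq_eq]; exact h0, cond_false]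
        obtain ⟨_, x, y, hx, hy, -, hxy⟩ := ht h0
        rcases le_total (n ^ 2 / 4 + 1) (Dab n ta tb) with h6 | h6
        · exact ⟨g, by rwa [min_eq_left h6]⟩
        · exact ⟨x * y, by rw [min_eq_right h6]; exact R.le_Dab h2 h0 hx hy hxy⟩
    have hw := fun e (h6 : e ∈ els) => And.intro (h1 e h6) (R.wit ho hA (h1 e h6) (he e h6))
    rw [chkT, dimB_of R.dim, Bool.not_true, Bool.false_or] at h5
    rcases allU_sound h5 R.two_le with h6 | ⟨q0, h6, h7, h8⟩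
    · exact R.exq_sound ho hA hD hlb hsk hw h6
    · exact R.uni_sound hA hD hlb hw h6 h7 (Bool.and_eq_true _ _ ▸ h8).2
  · rw [Bool.or_eq_true, Nat.blt_eq, Nat.ble_eq] at h5
    rcases h5 with h5 | h5
    · exact absurd ((Nat.pow_le_pow_left h4 2).trans (ho ▸ R.sq)) (not_le.2 h5)
    · refine R.generic hna ?_
      calc 64 * Nat.card (MulAut N) ^ 2 ≤ 64 * A ^ 2 := by gcongr
        _ ≤ 2 ^ Gn.EO j := h5
        _ ≤ 2 ^ Gn.EO n := Nat.pow_le_pow_right two_pos (Gn.EO_mono h4)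
        _ ≤ q ^ Gn.EO n := Nat.pow_le_pow_left R.two_le _

/-- the check for the group of shape `X` over the field of `r ^ e` elements; the characteristics `r` and `ex` are excluded -/
def row (X : Art.Sh) (r e ex : ℕ) (sk : Kd → ℕ → ℕ → Bool) (su : Kd → ℕ → Bool) (ta tb : ℕ) (els : List El) : Bool :=
  frc (ordS X (r ^ e)) fun o => frc (ou X r e * o) fun A =>
    els.all (fun x => x.sy && (Nat.beq x.M 0 && !Nat.beq (A % x.r ^ 2) 0)) &&
      chk2 o A (lp X (r ^ e)) (fun p => bif Nat.beq p r || Nat.beq p ex then 10 ^ 9 else 0) sk su ta tb els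

/-- the facts on a Sylow subgroup of prime order -/
def Fa (N : Type) [Group N] (x : El) : Prop :=
  x.r.Prime ∧ Cj N x.r x.j ∧ (x.a ≠ 0 → Tri N x.a x.b x.r) ∧ (x.sc = true → SC N x.r)

/-- the setting -/
structure Su (t : Kd) (n q p T : ℕ) (N : Type) [Group N] (G : Prop) (c d : N → ℕ) (X : Art.Sh) (r e : ℕ) : Prop where
  R : Rp t n q p T N G c d
  na : ¬ IsMulCommutative N
  re : Art.Real X r e (Nat.card N)
  aut : Nat.card (MulAut N) = ou X r e * Nat.card N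
  deg : lp X (r ^ e) ≤ n
  ne : p ≠ r

/-- nothing is excluded -/
def n3 : Kd → ℕ → ℕ → Bool := fun _ _ _ => false

/-- nothing is excluded -/
def n2 : Kd → ℕ → Bool := fun _ _ => false

/-- small degrees, the number of scalars is prime to `r` -/
def skC (r m : ℕ) : Kd → ℕ → ℕ → Bool := fun t n q => Nat.blt n m && Nat.beq (Nat.gcd (Nat.gcd n (zz t q)) r) 1

/-- `S₄(3)` -/
def suS : Kd → ℕ → Bool := fun t n => t.isS && Nat.beq n 8

/-- `U₃(3)` -/
def suU : Kd → ℕ → Bool := fun t n => (Nat.beq n 6 && Nat.beq (kb t) 1) || (Nat.ble 8 n && Nat.ble n 12)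

/-- `U₃(3)` -/
def skU : Kd → ℕ → ℕ → Bool := fun _ n q => Nat.beq n 13 && Nat.beq q 2

namespace Su

variable {X : Art.Sh} {r e ex a b k j : ℕ}

theorem pe (S : Su t n q p T N G c d X r e) {s k : ℕ} (hs : s.Prime) (h : r ^ e = s ^ k) : r = s ∧ e = k := by
  obtain rfl := eq_of_pow S.re.hp S.re.hf hs h
  exact ⟨rfl, Nat.pow_right_injective hs.two_le h⟩

theorem ord (S : Su t n q p T N G c d X r e) (h : ordS X (r ^ e) = o) : Nat.card N = o := (ordS_eq S.re).symm.trans h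

theorem zero (S : Su t n q p T N G c d X r e) : p ≠ 0 := S.R.prime.ne_zero

variable [Finite N] [IsSimpleGroup N]

theorem sv (S : Su t n q p T N G c d X r e) (hx : p ≠ ex) (hsk : sk t n q = false) (hsu : su t n = false)
    (ht : ta ≠ 0 → ∃ c, Tri N ta tb c) (he : ∀ x ∈ els, Fa N x) (h : row X r e ex sk su ta tb els = true) : G := by
  rw [row, frc_eq, frc_eq, ordS_eq S.re, ← S.aut, Bool.and_eq_true, List.all_eq_true] at h
  refine sieve2 S.R S.na rfl le_rfl S.deg ?_ hsk hsu ht (fun x hx => ?_) h.2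
  · have h1 : ∀ a b : ℕ, a ≠ b → Nat.beq a b = false := fun a b h => by rw [← Bool.not_eq_true, Nat.beq_eq]; exact h
    rw [h1 _ _ S.ne, h1 _ _ hx]
    exact Nat.zero_le n
  · have h1 := h.1 x hx
    obtain ⟨h2, h3, h4, h5⟩ := he x hx
    obtain ⟨s, j, M, a, b, sy, sc⟩ := x
    simp only [Bool.and_eq_true, Nat.beq_eq, nbeq] at h1
    obtain ⟨rfl, rfl, h6⟩ := h1
    have h7 : ¬ s ^ 2 ∣ Nat.card (MulAut N) := fun k => h6 (Nat.mod_eq_zero_of_dvd k)
    exact El.ok_syl h2 (fun k => h7 (S.aut ▸ k.mul_left _)) h7 h3 h4 (fun k => absurd rfl k) h5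

theorem t3 (S : Su t n q p T N G c d X r e)
    (h : row X r e ex sk su a b [⟨k, j, 0, a, b, true, true⟩] = true)
    (hx : p ≠ ex) (hsk : sk t n q = false) (hsu : su t n = false)
    (D : Tri N a b k ∧ Cj N k j ∧ SC N k) (hk : k.Prime) : G :=
  S.sv hx hsk hsu (fun _ => ⟨_, D.1⟩) (List.forall_mem_singleton.2 ⟨hk, D.2.1, fun _ => D.1, fun _ => D.2.2⟩) h

theorem t2 (S : Su t n q p T N G c d X r e)
    (h : row X r e ex n3 n2 a b [⟨k, j, 0, a, b, true, false⟩] = true)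
    (hx : p ≠ ex) (D : Tri N a b k ∧ Cj N k j) (hk : k.Prime) : G :=
  S.sv hx rfl rfl (fun _ => ⟨_, D.1⟩)
    (List.forall_mem_singleton.2 ⟨hk, D.2, fun _ => D.1, fun h => absurd h Bool.false_ne_true⟩) h

theorem t1 (S : Su t n q p T N G c d X r e)
    (h : row X r e 0 n3 n2 a b [] = true)
    (D : ∃ k, Tri N a b k) : G :=
  S.sv S.zero rfl rfl (fun _ => D) (List.forall_mem_nil _) h

theorem t0 (S : Su t n q p T N G c d X r e)
    (h : row X r e 0 n3 n2 0 0 [] = true) : G :=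
  S.sv S.zero rfl rfl (fun h => absurd rfl h) (List.forall_mem_nil _) h

theorem tc (S : Su t n q p T N G c d X r e)
    (h : row X r e 0 n3 n2 0 0 [⟨k, j, 0, 0, 0, true, false⟩] = true)
    (D : Cj N k j) (hk : k.Prime) : G :=
  S.sv S.zero rfl rfl (fun h => absurd rfl h)
    (List.forall_mem_singleton.2 ⟨hk, D, fun h => absurd rfl h, fun h => absurd h Bool.false_ne_true⟩) h

theorem cs (S : Su t n q p T N G c d X r e)
    (h : row X r e 0 n3 n2 0 0 [⟨k, j, 0, 0, 0, true, true⟩] = true)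
    (D : Cj N k j ∧ SC N k) (hk : k.Prime) : G :=
  S.sv S.zero rfl rfl (fun h => absurd rfl h) (List.forall_mem_singleton.2 ⟨hk, D.1, fun h => absurd rfl h, fun _ => D.2⟩) h

theorem tE (S : Su t n q p T N G c d X r e)
    (h : row X r e 0 n3 n2 a b [⟨k, j, 0, 0, 0, true, false⟩] = true)
    (D : (∃ k, Tri N a b k) ∧ Cj N k j) (hk : k.Prime) : G :=
  S.sv S.zero rfl rfl (fun _ => D.1)
    (List.forall_mem_singleton.2 ⟨hk, D.2, fun h => absurd rfl h, fun h => absurd h Bool.false_ne_true⟩) h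

theorem tU (S : Su t n q p T N G c d X r e)
    (h : row X r e 0 sk n2 2 5 [⟨7, 2, 0, 2, 5, true, true⟩, ⟨5, 2, 0, 0, 0, true, true⟩] = true)
    (hsk : sk t n q = false) (D : Tri N 2 5 7 ∧ Tri N 2 6 7 ∧ Cj N 7 2 ∧ SC N 7)
    (E : Cj N 5 2 ∧ SC N 5) : G :=
  S.sv S.zero hsk rfl (fun _ => ⟨_, D.1⟩) (List.forall_mem_cons.2 ⟨⟨Nat.prime_seven, D.2.2.1, fun _ => D.1, fun _ => D.2.2.2⟩,
    List.forall_mem_singleton.2 ⟨Nat.prime_five, E.1, fun h => absurd rfl h, fun _ => E.2⟩⟩) h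

end Su

/-! ### the checks -/

theorem c_l2_7 : row (.L 2) 7 1 2 n3 n2 2 3 [⟨7, 2, 0, 2, 3, true, false⟩] = true := by
  decide +kernel

theorem c_l2_8 : row (.L 2) 2 3 0 n3 n2 2 3 [⟨7, 6, 0, 2, 3, true, true⟩] = true := by
  decide +kernel

theorem c_l2_11 : row (.L 2) 11 1 0 n3 n2 2 3 [⟨11, 3, 0, 2, 3, true, false⟩] = true := by
  decide +kernel

theorem c_l2_13 : row (.L 2) 13 1 0 n3 n2 2 3 [⟨13, 4, 0, 2, 3, true, false⟩] = true := by
  decide +kernel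

theorem c_l2_16 : row (.L 2) 2 4 0 n3 n2 2 3 [] = true := by
  decide +kernel

theorem c_l2_17 : row (.L 2) 17 1 0 n3 n2 2 3 [⟨17, 2, 0, 2, 3, true, false⟩] = true := by
  decide +kernel

theorem c_l2_19 : row (.L 2) 19 1 0 n3 n2 0 0 [⟨19, 4, 0, 0, 0, true, false⟩] = true := by
  decide +kernel

theorem c_l2_23 : row (.L 2) 23 1 0 n3 n2 0 0 [⟨23, 2, 0, 0, 0, true, false⟩] = true := by
  decide +kernel

theorem c_l2_25 : row (.L 2) 5 2 0 n3 n2 2 3 [⟨13, 12, 0, 2, 3, true, false⟩] = true := by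
  decide +kernel

theorem c_l2_27 : row (.L 2) 3 3 0 n3 n2 2 3 [] = true := by
  decide +kernel

theorem c_l2_29 : row (.L 2) 29 1 0 n3 n2 0 0 [⟨29, 4, 0, 0, 0, true, false⟩] = true := by
  decide +kernel

theorem c_l2_31 : row (.L 2) 31 1 0 n3 n2 0 0 [⟨31, 7, 0, 0, 0, true, false⟩] = true := by
  decide +kernel

theorem c_l2_37 : row (.L 2) 37 1 0 n3 n2 0 0 [⟨37, 3, 0, 0, 0, true, false⟩] = true := by
  decide +kernel

theorem c_l2_41 : row (.L 2) 41 1 0 n3 n2 0 0 [⟨41, 2, 0, 0, 0, true, false⟩] = true := by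
  decide +kernel

theorem c_l2_43 : row (.L 2) 43 1 0 n3 n2 0 0 [⟨43, 9, 0, 0, 0, true, false⟩] = true := by
  decide +kernel

theorem c_l2_47 : row (.L 2) 47 1 0 n3 n2 0 0 [⟨47, 2, 0, 0, 0, true, false⟩] = true := by
  decide +kernel

theorem c_l3_3 : row (.L 3) 3 1 0 n3 n2 2 3 [⟨13, 3, 0, 2, 3, true, true⟩] = true := by
  decide +kernel

theorem c_l3_4 : row (.L 3) 2 2 0 (skC 2 15) n2 2 4 [⟨7, 2, 0, 2, 4, true, true⟩] = true := by
  decide +kernel

theorem c_l3_5 : row (.L 3) 5 1 0 n3 n2 0 0 [] = true := by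
  decide +kernel

theorem c_l5_2 : row (.L 5) 2 1 0 n3 n2 2 3 [⟨31, 2, 0, 0, 0, true, false⟩] = true := by
  decide +kernel

theorem c_s4_3 : row (.C 2) 3 1 2 n3 suS 2 6 [⟨5, 2, 0, 2, 6, true, true⟩] = true := by
  decide +kernel

theorem c_s4_4 : row (.C 2) 2 2 0 n3 n2 2 4 [⟨17, 4, 0, 2, 4, true, true⟩] = true := by
  decide +kernel

theorem c_s4_5 : row (.C 2) 5 1 0 n3 n2 2 3 [⟨13, 5, 0, 2, 3, true, false⟩] = true := by
  decide +kernel

theorem c_s4_7 : row (.C 2) 7 1 0 n3 n2 2 3 [] = true := by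
  decide +kernel

theorem c_s6_2 : row (.C 3) 2 1 0 n3 n2 2 4 [⟨7, 3, 0, 2, 4, true, true⟩] = true := by
  decide +kernel

theorem c_s6_3 : row (.C 3) 3 1 0 n3 n2 2 3 [⟨13, 3, 0, 0, 0, true, false⟩] = true := by
  decide +kernel

theorem c_s8_2 : row (.C 4) 2 1 0 n3 n2 2 3 [] = true := by
  decide +kernel

theorem c_u3_3 : row (.U 3) 3 1 0 skU suU 2 6 [⟨7, 2, 0, 2, 6, true, true⟩] = true := by
  decide +kernel

theorem c_u3_4 : row (.U 3) 2 2 0 n3 n2 2 3 [⟨13, 3, 0, 2, 3, true, false⟩] = true := by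
  decide +kernel

theorem c_u3_5 : row (.U 3) 5 1 0 n3 n2 2 5 [⟨7, 2, 0, 2, 5, true, false⟩] = true := by
  decide +kernel

theorem c_u4_3 : row (.U 4) 3 1 0 (skC 3 18) n2 2 5 [⟨7, 2, 0, 2, 5, true, true⟩, ⟨5, 2, 0, 0, 0, true, true⟩] = true := by
  decide +kernel

theorem c_u5_2 : row (.U 5) 2 1 0 n3 n2 2 4 [⟨11, 3, 0, 2, 4, true, true⟩] = true := by
  decide +kernel

theorem c_u6_2 : row (.U 6) 2 1 0 n3 n2 2 3 [] = true := by
  decide +kernel

theorem c_o8p_2 : row (.D 4) 2 1 0 n3 n2 2 4 [⟨7, 3, 0, 2, 4, true, true⟩] = true := by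
  decide +kernel

theorem c_o8m_2 : row (.DD 4) 2 1 0 n3 n2 2 3 [] = true := by
  decide +kernel

theorem c_g2_3 : row .G2 3 1 0 n3 n2 2 3 [⟨13, 4, 0, 2, 3, true, true⟩] = true := by
  decide +kernel

theorem c_g2_4 : row .G2 2 2 0 n3 n2 2 3 [⟨13, 4, 0, 2, 3, true, true⟩] = true := by
  decide +kernel

theorem c_g2_5 : row .G2 5 1 0 n3 n2 0 0 [⟨31, 6, 0, 0, 0, true, true⟩] = true := by
  decide +kernel

theorem c_f4_2 : row .F4 2 1 0 n3 n2 0 0 [⟨13, 2, 0, 0, 0, true, true⟩] = true := by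
  decide +kernel

theorem c_td4_2 : row .TD4 2 1 0 n3 n2 2 3 [] = true := by
  decide +kernel

theorem c_sz_8 : row .Sz 2 3 0 n3 n2 2 4 [⟨13, 5, 0, 2, 4, true, true⟩] = true := by
  decide +kernel

theorem c_ree_27 : row .Ree 3 3 0 n3 n2 0 0 [] = true := by
  decide +kernel

end Cfsg.Agent.N2C.RX.Li
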